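import Cfsg.Agent.H7.ZJ3
import Cfsg.Prelude.Def_DStar

set_option autoImplicit false

/-!
The subgroup `D*(S)` of Glauberman and Solomon.
-/

namespace CfsgH7

open Subgroup Cfsg
open scoped commutatorElement

universe u

theorem commutator_closure_le {G : Type*} [Group G] {s : Set G} {C : Subgroup G}
    (hC : ∀ c ∈ C, ∀ h ∈ Subgroup.closure s, c * h = h * c) (h : ∀ a ∈ s, ∀ b ∈ s, ⁅a, b⁆ ∈ C) :
    ⁅Subgroup.closure s, Subgroup.closure s⁆ ≤ C := by
  have key : ∀ b ∈ Subgroup.closure s, (∀ a ∈ s, ⁅a, b⁆ ∈ C) → ∀ a ∈ Subgroup.closure s, ⁅a, b⁆ ∈ C := by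
    intro b hb hab a ha
    induction ha using Subgroup.closure_induction with
    | mem a ha => exact hab a ha
    | one => rw [commutatorElement_one_left]; exact one_mem _
    | mul x y hx hy ihx ihy =>
      have e : ⁅x * y, b⁆ = (x * ⁅y, b⁆ * x⁻¹) * ⁅x, b⁆ := by simp only [commutatorElement_def]; group
      rw [e, ← hC _ ihy x hx, mul_inv_cancel_right]
      exact mul_mem ihy ihx
    | inv x hx ihx =>
      have e : ⁅x⁻¹, b⁆ = x⁻¹ * ⁅x, b⁆⁻¹ * x := by simp only [commutatorElement_def]; group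
      rw [e, ← hC _ (inv_mem ihx) _ (inv_mem hx), mul_assoc, inv_mul_cancel, mul_one]
      exact inv_mem ihx
  rw [Subgroup.commutator_le]
  intro a ha b hb
  refine key b hb (fun a' ha' => ?_) a ha
  have h1 : ⁅b, a'⁆ ∈ C := key a' (Subgroup.subset_closure ha') (fun c hc => h c hc a' ha') b hb
  rw [← commutatorElement_inv]
  exact inv_mem h1

/-- Elements of the family centralize the abelian subgroups they normalize. -/
theorem dfam_centralizes {P : Type*} [Group P] [Finite P] {p : ℕ} [hp : Fact p.Prime] (hP : IsPGroup p P) {A B : Subgroup P}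
    (hA : A ∈ dStarFamily P) (hB : ∀ a ∈ B, ∀ b ∈ B, a * b = b * a) (hAB : A ≤ Subgroup.normalizer (B : Set P)) :
    B ≤ Subgroup.centralizer (A : Set P) := by
  by_contra hcon
  have hAc := isMulComm_iff.mp hA.1
  obtain ⟨X, ⟨hX1, hX2, hX3⟩, hXmin⟩ := Set.exists_min_image {X : Subgroup P | X ≤ B ∧ ¬ X ≤ Subgroup.centralizer (A : Set P) ∧
    A ≤ Subgroup.normalizer (X : Set P)} (fun X => Nat.card X) (Set.toFinite _) ⟨B, le_rfl, hcon, hAB⟩
  have h1 : ⁅X, A⁆ ≤ X := by
    rw [Subgroup.commutator_le]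
    intro x hx a ha
    have h2 := (Subgroup.mem_normalizer_iff.mp (hX3 ha) _).mp (inv_mem hx)
    have h3 := mul_mem hx h2
    have e : x * (a * x⁻¹ * a⁻¹) = ⁅x, a⁆ := by rw [commutatorElement_def]; group
    rwa [e] at h3
  have h2 : A ≤ Subgroup.normalizer ((⁅X, A⁆ : Subgroup P) : Set P) := by
    intro a ha
    rw [mem_normalizer_iff_cj, cj_commutator, cj_of_mem_normalizer (hX3 ha), cj_of_mem ha]
  by_cases h3 : ⁅X, A⁆ ≤ Subgroup.centralizer (A : Set P)
  · rw [SetLike.not_le_iff_exists] at hX2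
    obtain ⟨x, hx, hxA⟩ := hX2
    apply hxA
    -- class at most two
    have hcl : A ⊔ Subgroup.zpowers x = Subgroup.closure ((A : Set P) ∪ {x}) := by
      rw [Subgroup.closure_union, Subgroup.closure_eq, Subgroup.zpowers_eq_closure]
    have hXX : ∀ a ∈ X, ∀ b ∈ X, a * b = b * a := fun a ha b hb => hB a (hX1 ha) b (hX1 hb)
    have hcen : ∀ c ∈ ⁅X, A⁆, ∀ h ∈ Subgroup.closure ((A : Set P) ∪ {x}), c * h = h * c := by
      intro c hc h hh
      have h4 : Subgroup.closure ((A : Set P) ∪ {x}) ≤ Subgroup.centralizer ({c} : Set P) := by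
        rw [Subgroup.closure_le]
        rintro y (hy | hy)
        · rw [SetLike.mem_coe, Subgroup.mem_centralizer_iff]
          intro z hz
          rw [Set.mem_singleton_iff.mp hz]
          exact (Subgroup.mem_centralizer_iff.mp (h3 hc) y hy).symm
        · rw [Set.mem_singleton_iff.mp hy, SetLike.mem_coe, Subgroup.mem_centralizer_iff]
          intro z hz
          rw [Set.mem_singleton_iff.mp hz]
          exact hXX c (h1 hc) x hx
      exact Subgroup.mem_centralizer_iff.mp (h4 hh) c rfl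
    have hder : ⁅A ⊔ Subgroup.zpowers x, A ⊔ Subgroup.zpowers x⁆ ≤ ⁅X, A⁆ := by
      rw [hcl]
      refine commutator_closure_le hcen ?_
      rintro a (ha | ha) b (hb | hb)
      · have : ⁅a, b⁆ = 1 := by rw [commutatorElement_eq_one_iff_mul_comm]; exact hAc a ha b hb
        rw [this]; exact one_mem _
      · rw [Set.mem_singleton_iff.mp hb, ← commutatorElement_inv]
        exact inv_mem (Subgroup.commutator_mem_commutator hx ha)
      · rw [Set.mem_singleton_iff.mp ha]
        exact Subgroup.commutator_mem_commutator hx hb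
      · rw [Set.mem_singleton_iff.mp ha, Set.mem_singleton_iff.mp hb, commutatorElement_self]; exact one_mem _
    have h4 := hA.2 x (by
      rw [eq_bot_iff]
      refine (Subgroup.commutator_mono hder le_rfl).trans ?_
      rw [hcl, Subgroup.commutator_le]
      intro c hc y hy
      rw [Subgroup.mem_bot, commutatorElement_eq_one_iff_mul_comm]
      exact hcen c hc y hy)
    rw [Subgroup.mem_centralizer_iff]
    exact h4
  · have h4 := hXmin ⁅X, A⁆ ⟨h1.trans hX1, h3, h2⟩
    have h5 : ⁅X, A⁆ = X := Subgroup.eq_of_le_of_card_ge h1 h4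
    have hn : Group.IsNilpotent P := hP.isNilpotent
    have hn' : Group.IsNilpotent ↥(⊤ : Subgroup P) := Group.isNilpotent_top.mpr hn
    have h6 : X = ⊥ := by
      refine CfsgH3.eq_bot_of_le_commutator (P := ⊤) le_top ?_
      conv_lhs => rw [← h5]
      exact Subgroup.commutator_mono le_rfl le_top
    apply hX2
    rw [h6]; exact bot_le

theorem exists_max_abelian_normal {P : Type*} [Group P] [Finite P] {p : ℕ} [hp : Fact p.Prime] (hP : IsPGroup p P) :
    ∃ M : Subgroup P, M.Normal ∧ (∀ x ∈ M, ∀ y ∈ M, x * y = y * x) ∧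
      ∀ B : Subgroup P, B.Normal → (∀ x ∈ B, ∀ y ∈ B, x * y = y * x) → M ≤ B → B = M := by
  obtain ⟨M, ⟨hM1, hM2⟩, hMmax⟩ := Set.exists_max_image {M : Subgroup P | M.Normal ∧ ∀ x ∈ M, ∀ y ∈ M, x * y = y * x}
    (fun M => Nat.card M) (Set.toFinite _) ⟨⊥, inferInstance, by
      intro x hx y hy; rw [Subgroup.mem_bot.mp hx, Subgroup.mem_bot.mp hy]⟩
  exact ⟨M, hM1, hM2, fun B hB1 hB2 h => (Subgroup.eq_of_le_of_card_ge h (hMmax B ⟨hB1, hB2⟩)).symm⟩

theorem dfam_le_max {P : Type*} [Group P] [Finite P] {p : ℕ} [hp : Fact p.Prime] (hP : IsPGroup p P) {A M : Subgroup P}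
    (hA : A ∈ dStarFamily P) (hMn : M.Normal) (hMc : ∀ x ∈ M, ∀ y ∈ M, x * y = y * x)
    (hM : ∀ B : Subgroup P, B.Normal → (∀ x ∈ B, ∀ y ∈ B, x * y = y * x) → M ≤ B → B = M) : A ≤ M := by
  have hn : Group.IsNilpotent P := hP.isNilpotent
  have h1 := dfam_centralizes hP hA hMc (by rw [Subgroup.normalizer_eq_top_iff.mpr hMn]; exact le_top)
  have h2 := CfsgH1.centralizer_eq_of_max_abelian_normal hMc hM
  rw [← h2]
  intro a ha
  rw [Subgroup.mem_centralizer_iff]
  intro m hm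
  exact (Subgroup.mem_centralizer_iff.mp (h1 hm) a ha).symm

/-- S3061 -/
theorem dStar_mem {P : Type*} [Group P] [Finite P] {p : ℕ} [hp : Fact p.Prime] (hP : IsPGroup p P) : dStar P ∈ dStarFamily P := by
  obtain ⟨M, hM1, hM2, hM3⟩ := exists_max_abelian_normal hP
  have hle : dStar P ≤ M := sSup_le fun A hA => dfam_le_max hP hA hM1 hM2 hM3
  refine ⟨isMulComm_iff.mpr fun a ha b hb => hM2 a (hle ha) b (hle hb), ?_⟩
  intro x hx
  have h1 : dStar P ≤ Subgroup.centralizer ({x} : Set P) := by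
    refine sSup_le fun A hA => ?_
    have h2 : A ⊔ Subgroup.zpowers x ≤ dStar P ⊔ Subgroup.zpowers x := sup_le_sup_right (le_sSup hA) _
    have h3 := hA.2 x (by
      rw [eq_bot_iff, ← hx]
      exact Subgroup.commutator_mono (Subgroup.commutator_mono h2 h2) h2)
    intro a ha
    rw [Subgroup.mem_centralizer_iff]
    intro y hy
    rw [Set.mem_singleton_iff.mp hy]
    exact (h3 a ha).symm
  intro a ha
  exact (Subgroup.mem_centralizer_iff.mp (h1 ha) x rfl).symm

theorem dfam_map {P Q : Type*} [Group P] [Group Q] (e : P ≃* Q) (A : Subgroup P) :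
    A.map e.toMonoidHom ∈ dStarFamily Q ↔ A ∈ dStarFamily P := by
  have hinj : Function.Injective e.toMonoidHom := e.injective
  have key : ∀ x : P, (⁅⁅A.map e.toMonoidHom ⊔ Subgroup.zpowers (e x), A.map e.toMonoidHom ⊔ Subgroup.zpowers (e x)⁆,
      A.map e.toMonoidHom ⊔ Subgroup.zpowers (e x)⁆ = ⊥) ↔
      ⁅⁅A ⊔ Subgroup.zpowers x, A ⊔ Subgroup.zpowers x⁆, A ⊔ Subgroup.zpowers x⁆ = ⊥ := by
    intro x
    have h1 : A.map e.toMonoidHom ⊔ Subgroup.zpowers (e x) = (A ⊔ Subgroup.zpowers x).map e.toMonoidHom := by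
      rw [Subgroup.map_sup, MonoidHom.map_zpowers]; rfl
    rw [h1, ← Subgroup.map_commutator, ← Subgroup.map_commutator, Subgroup.map_eq_bot_iff_of_injective _ hinj]
  constructor
  · rintro ⟨h1, h2⟩
    have h1' := isMulComm_iff.mp h1
    refine ⟨isMulComm_iff.mpr fun a ha b hb => hinj ?_, fun x hx a ha => hinj ?_⟩
    · rw [map_mul, map_mul]
      exact h1' _ ⟨a, ha, rfl⟩ _ ⟨b, hb, rfl⟩
    · rw [map_mul, map_mul]
      exact h2 (e x) ((key x).mpr hx) _ ⟨a, ha, rfl⟩
  · rintro ⟨h1, h2⟩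
    have h1' := isMulComm_iff.mp h1
    refine ⟨isMulComm_iff.mpr ?_, fun x hx => ?_⟩
    · rintro _ ⟨a, ha, rfl⟩ _ ⟨b, hb, rfl⟩
      rw [← map_mul, h1' a ha b hb, map_mul]
    · obtain ⟨x, rfl⟩ := e.surjective x
      rintro _ ⟨a, ha, rfl⟩
      have h3 := h2 x ((key x).mp hx) a ha
      change e a * e x = e x * e a
      rw [← map_mul, h3, map_mul]

theorem dStar_equiv {P Q : Type*} [Group P] [Group Q] (e : P ≃* Q) : (dStar P).map e.toMonoidHom = dStar Q :=
  map_sSup_family e fun B => dfam_map e B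

theorem center_le_dStar (P : Type*) [Group P] : Subgroup.center P ≤ dStar P := by
  refine le_sSup ⟨isMulComm_iff.mpr fun a ha b _ => (Subgroup.mem_center_iff.mp ha b).symm, ?_⟩
  intro x _ a ha
  exact (Subgroup.mem_center_iff.mp ha x).symm

theorem isCharPFunctor_dStar (p : ℕ) [Fact p.Prime] : IsCharPFunctor.{u} p (fun Q _ => dStar Q) := by
  refine ⟨fun Q _ _ hQ _ h => ?_, fun Q R _ _ _ _ φ => dStar_equiv φ⟩
  have h1 := center_le_dStar Q
  have h2 : dStar Q = ⊥ := h
  rw [h2, le_bot_iff] at h1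
  exact center_ne_bot hQ h1

theorem dStarOf_eq {G : Type u} [Group G] (R : Subgroup G) : dStarOf R = inducedFunctor (G := G) (fun Q _ => dStar Q) R := rfl

theorem dStar_normal (P : Type*) [Group P] : (dStar P).Normal := by
  refine ⟨fun a ha g => ?_⟩
  have h1 := dStar_equiv (MulAut.conj g : P ≃* P)
  rw [← h1]
  exact ⟨a, ha, rfl⟩

/-- S3062: `D* ≤ Z(J)`. -/
theorem dStar_le_zF {P : Type u} [Group P] [Finite P] {p : ℕ} [hp : Fact p.Prime] (hP : IsPGroup p P) : dStar P ≤ zF (PhiA P) ⊤ := by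
  have hdn := dStar_normal P
  have hdm := dStar_mem hP
  have hdc := isMulComm_iff.mp hdm.1
  have hT : IsPGroup p ↥(⊤ : Subgroup P) := hP.to_subgroup ⊤
  have hTN : (⊤ : Subgroup P) ≤ Subgroup.normalizer (dStar P : Set P) := by rw [Subgroup.normalizer_eq_top (dStar P)]
  have hd1 : ⁅dStar P, dStar P⁆ = ⊥ := by
    rw [eq_bot_iff, Subgroup.commutator_le]
    intro a ha b hb
    rw [Subgroup.mem_bot, commutatorElement_eq_one_iff_mul_comm]
    exact hdc a ha b hb
  refine le_sInf fun B hB => ?_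
  by_contra hcon
  have hΦ := (goodPred_A.{u} p).rclass P
  obtain ⟨A, hA, -, hA2, hA3⟩ := replacement_property hΦ (S := ⊤) (D := ⊤) (B := dStar P) hT (Or.inr hd1) le_rfl
    Subgroup.le_normalizer le_top hTN hB (by rw [hd1]; exact bot_le) hcon
  apply hA2
  have hAc := isMulComm_iff.mp hA.2.1
  have h1 : A ≤ Subgroup.centralizer (dStar P : Set P) := dfam_centralizes hP hdm hAc hA3
  -- `A` is self-centralizing
  intro d hd
  have h2 : PhiA P (A ⊔ Subgroup.zpowers d) := isMulComm_iff.mpr (comm_sup_zpowers hAc fun a ha =>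
    (Subgroup.mem_centralizer_iff.mp (h1 ha) d hd).symm)
  have h3 := hA.2.2 _ le_top h2
  have h4 : A = A ⊔ Subgroup.zpowers d := Subgroup.eq_of_le_of_card_ge le_sup_left h3
  rw [h4]
  exact Subgroup.mem_sup_right (Subgroup.mem_zpowers d)

/-- Membership in the family inside an ambient group. -/
theorem dfam_sub_iff {G : Type*} [Group G] {R A : Subgroup G} (hAR : A ≤ R) : A.subgroupOf R ∈ dStarFamily ↥R ↔
    (∀ a ∈ A, ∀ b ∈ A, a * b = b * a) ∧ ∀ x ∈ R,
      ⁅⁅A ⊔ Subgroup.zpowers x, A ⊔ Subgroup.zpowers x⁆, A ⊔ Subgroup.zpowers x⁆ = ⊥ → ∀ a ∈ A, a * x = x * a := by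
  have hmap : (A.subgroupOf R).map R.subtype = A := Subgroup.map_subgroupOf_eq_of_le hAR
  have key : ∀ x : ↥R, (⁅⁅A ⊔ Subgroup.zpowers (x : G), A ⊔ Subgroup.zpowers (x : G)⁆, A ⊔ Subgroup.zpowers (x : G)⁆ = ⊥) ↔
      ⁅⁅A.subgroupOf R ⊔ Subgroup.zpowers x, A.subgroupOf R ⊔ Subgroup.zpowers x⁆, A.subgroupOf R ⊔ Subgroup.zpowers x⁆ = ⊥ := by
    intro x
    have h1 : A ⊔ Subgroup.zpowers (x : G) = (A.subgroupOf R ⊔ Subgroup.zpowers x).map R.subtype := by
      rw [Subgroup.map_sup, hmap, MonoidHom.map_zpowers]; rfl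
    rw [h1, ← Subgroup.map_commutator, ← Subgroup.map_commutator, Subgroup.map_eq_bot_iff_of_injective _ R.subtype_injective]
  constructor
  · rintro ⟨h1, h2⟩
    have h1' := isMulComm_iff.mp h1
    refine ⟨fun a ha b hb => ?_, fun x hx hq a ha => ?_⟩
    · exact congrArg Subtype.val (h1' ⟨a, hAR ha⟩ ha ⟨b, hAR hb⟩ hb)
    · exact congrArg Subtype.val (h2 ⟨x, hx⟩ ((key ⟨x, hx⟩).mp hq) ⟨a, hAR ha⟩ ha)
  · rintro ⟨h1, h2⟩
    refine ⟨isMulComm_iff.mpr fun a ha b hb => Subtype.ext (h1 a ha b hb), fun x hx a ha => ?_⟩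
    exact Subtype.ext (h2 x x.2 ((key x).mpr hx) a ha)

theorem dStarOf_le {G : Type*} [Group G] (R : Subgroup G) : dStarOf R ≤ R := Subgroup.map_subtype_le _

theorem dStarOf_subgroupOf {G : Type*} [Group G] (R : Subgroup G) : (dStarOf R).subgroupOf R = dStar ↥R := by
  unfold dStarOf
  rw [Subgroup.subgroupOf, Subgroup.comap_map_eq_self_of_injective R.subtype_injective]

theorem dStarOf_props {G : Type*} [Group G] [Finite G] {p : ℕ} [hp : Fact p.Prime] {R : Subgroup G} (hR : IsPGroup p ↥R) :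
    (∀ a ∈ dStarOf R, ∀ b ∈ dStarOf R, a * b = b * a) ∧ ∀ x ∈ R,
      ⁅⁅dStarOf R ⊔ Subgroup.zpowers x, dStarOf R ⊔ Subgroup.zpowers x⁆, dStarOf R ⊔ Subgroup.zpowers x⁆ = ⊥ →
        ∀ a ∈ dStarOf R, a * x = x * a := by
  rw [← dfam_sub_iff (dStarOf_le R), dStarOf_subgroupOf]
  exact dStar_mem hR

theorem le_dStarOf {G : Type*} [Group G] {R A : Subgroup G} (hAR : A ≤ R) (h1 : ∀ a ∈ A, ∀ b ∈ A, a * b = b * a)
    (h2 : ∀ x ∈ R, ⁅⁅A ⊔ Subgroup.zpowers x, A ⊔ Subgroup.zpowers x⁆, A ⊔ Subgroup.zpowers x⁆ = ⊥ → ∀ a ∈ A, a * x = x * a) :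
    A ≤ dStarOf R := by
  have h3 := (dfam_sub_iff hAR).mpr ⟨h1, h2⟩
  have h4 : A.subgroupOf R ≤ dStar ↥R := le_sSup h3
  have h5 := Subgroup.map_mono (f := R.subtype) h4
  rwa [Subgroup.map_subgroupOf_eq_of_le hAR] at h5

theorem dStarOf_mono {G : Type*} [Group G] [Finite G] {p : ℕ} [hp : Fact p.Prime] {R R' : Subgroup G} (hR : IsPGroup p ↥R)
    (h1 : R' ≤ R) (h2 : dStarOf R ≤ R') : dStarOf R ≤ dStarOf R' := by
  obtain ⟨h3, h4⟩ := dStarOf_props hR
  exact le_dStarOf h2 h3 fun x hx => h4 x (h1 hx)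

/-- S3060 -/
theorem dStar_theorem {G : Type u} [Group G] [Finite G] {p : ℕ} [hp : Fact p.Prime]
    (hc : Subgroup.centralizer (pCore p G : Set G) ≤ pCore p G)
    (hst : ∀ (P : Subgroup G) [P.Normal], IsPGroup p P → IsPStableOn p P) (S : Sylow p G) : (dStarOf (S : Subgroup G)).Normal := by
  classical
  have hTn := pCore_normal' p G
  have hTp : IsPGroup p ↥(pCore p G) := CfsgH2.isPGroup_pCore p
  set T := pCore p G with hT
  have hTS : T ≤ (S : Subgroup G) := pCore_le_sylow S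
  have hSp : IsPGroup p ↥(S : Subgroup G) := S.isPGroup'
  -- abelian subgroups normalized by `T` lie in `T`
  have hinT : ∀ X : Subgroup G, (∀ a ∈ X, ∀ b ∈ X, a * b = b * a) → T ≤ Subgroup.normalizer (X : Set G) → X ≤ T := by
    intro X hX hXT z hz
    have hzl : Subgroup.zpowers z ≤ X := Subgroup.zpowers_le.mpr hz
    have hq : ⁅⁅T, Subgroup.zpowers z⁆, Subgroup.zpowers z⁆ = ⊥ := by
      have h2 : ⁅T, Subgroup.zpowers z⁆ ≤ X := by
        rw [Subgroup.commutator_le]
        intro t ht y hy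
        rw [commutatorElement_def]
        exact mul_mem ((Subgroup.mem_normalizer_iff.mp (hXT ht) _).mp (hzl hy)) (inv_mem (hzl hy))
      rw [eq_bot_iff]
      refine (Subgroup.commutator_mono h2 hzl).trans ?_
      rw [Subgroup.commutator_le]
      intro y hy y' hy'
      rw [Subgroup.mem_bot, commutatorElement_eq_one_iff_mul_comm]
      exact hX y hy y' hy'
    obtain ⟨K, hK1, hK2, hK3, hK4⟩ := pStableOn_elt (hst T hTp) hq
    have hKp : IsPGroup p ↥K := by
      apply CfsgH3.isPGroup_of_forall_coprime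
      intro k hk
      have hk' : (orderOf (k : G)).Coprime p := by rwa [Subgroup.orderOf_coe]
      have h3 := hc (hK3 k k.2 hk')
      obtain ⟨m, hm⟩ := isPGroup_pow_mem hTp h3
      exact Subtype.ext (CfsgH3.eq_one_of_coprime_of_pow hk' hm)
    exact CfsgH2.le_pCore hK1 hKp hK4
  -- the kernel of `O_p` of the action on `E`
  let KE : Subgroup G → Subgroup G := fun E => if h : E.Normal then
    haveI := h
    (pCore p (G ⧸ Subgroup.centralizer (E : Set G))).comap (QuotientGroup.mk' (Subgroup.centralizer (E : Set G))) else ⊥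
  have hKE : ∀ (E : Subgroup G) (hE : E.Normal), KE E =
      (pCore p (G ⧸ Subgroup.centralizer (E : Set G))).comap (QuotientGroup.mk' (Subgroup.centralizer (E : Set G))) := by
    intro E hE
    simp only [KE, hE, dif_pos]
  have hKEn : ∀ E : Subgroup G, E.Normal → (KE E).Normal := by
    intro E hE
    rw [hKE E hE]
    have hn : (pCore p (G ⧸ Subgroup.centralizer (E : Set G))).Normal := pCore_normal' p _
    exact hn.comap _
  have hKEel : ∀ E : Subgroup G, E.Normal → ∀ k ∈ KE E, (orderOf k).Coprime p → k ∈ Subgroup.centralizer (E : Set G) := by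
    intro E hE k hk hkp
    rw [hKE E hE] at hk
    obtain ⟨n, hn'⟩ := isPGroup_pow_mem (CfsgH2.isPGroup_pCore p) (show QuotientGroup.mk' (Subgroup.centralizer (E : Set G)) k ∈ pCore p _ from hk)
    have h3 : QuotientGroup.mk' (Subgroup.centralizer (E : Set G)) k = 1 := CfsgH3.eq_one_of_coprime_of_pow
      (Nat.Coprime.coprime_dvd_left (orderOf_map_dvd _ k) hkp) hn'
    exact (QuotientGroup.eq_one_iff k).mp h3
  have hKEle : ∀ E : Subgroup G, E.Normal → ∀ N : Subgroup G, N.Normal → (∀ k ∈ N, ∃ m, k ^ p ^ m ∈ Subgroup.centralizer (E : Set G)) →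
      N ≤ KE E := by
    intro E hE N hN h k hk
    rw [hKE E hE]
    have hKπ : (N.map (QuotientGroup.mk' (Subgroup.centralizer (E : Set G)))).Normal := hN.map _ (QuotientGroup.mk'_surjective _)
    refine CfsgH2.le_pCore hKπ ?_ (⟨k, hk, rfl⟩ : QuotientGroup.mk' (Subgroup.centralizer (E : Set G)) k ∈
      N.map (QuotientGroup.mk' (Subgroup.centralizer (E : Set G))))
    rintro ⟨_, k, hk, rfl⟩
    obtain ⟨m, hm⟩ := h k hk
    refine ⟨m, Subtype.ext ?_⟩
    change (QuotientGroup.mk' _ k) ^ p ^ m = 1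
    rw [← map_pow]
    exact (QuotientGroup.eq_one_iff _).mpr hm
  -- the family
  let D := dStarOf (S : Subgroup G)
  have hDn : (S : Subgroup G) ≤ Subgroup.normalizer (D : Set G) := by
    have h1 := isConjugacyFunctor_induced (isCharPFunctor_dStar.{u} p) (G := G)
    exact Subgroup.le_normalizer.trans (cf_normalizer h1 hSp)
  have hDT : D ≤ T := hinT D (dStarOf_props hSp).1 (hTS.trans hDn)
  have hnorm : ∀ R : Subgroup G, IsPGroup p ↥R → Subgroup.normalizer (R : Set G) ≤ Subgroup.normalizer (dStarOf R : Set G) := by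
    intro R hR
    exact cf_normalizer (isConjugacyFunctor_induced (isCharPFunctor_dStar.{u} p) (G := G)) hR
  obtain ⟨E, ⟨hEn, N, hN, hTN, hNK, hEN⟩, hEmin⟩ := Set.exists_min_image
    {E : Subgroup G | E.Normal ∧ ∃ N : Subgroup G, N.Normal ∧ T ≤ N ∧ N ≤ KE E ∧ E = dStarOf ((S : Subgroup G) ⊓ N)}
    (fun E => Nat.card E) (Set.toFinite _) (by
      refine ⟨dStarOf T, ?_, T, hTn, le_rfl, ?_, by rw [inf_eq_right.mpr hTS]⟩
      · rw [← Subgroup.normalizer_eq_top_iff, eq_top_iff]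
        have h1 := hnorm T hTp
        rwa [Subgroup.normalizer_eq_top_iff.mpr hTn] at h1
      · refine hKEle _ ?_ T hTn fun k hk => ?_
        · rw [← Subgroup.normalizer_eq_top_iff, eq_top_iff]
          have h1 := hnorm T hTp
          rwa [Subgroup.normalizer_eq_top_iff.mpr hTn] at h1
        · obtain ⟨m, hm⟩ := isPGroup_pow_mem hTp hk
          exact ⟨m, by rw [hm]; exact one_mem _⟩)
  set N₁ := KE E with hN₁
  have hN₁n : N₁.Normal := hKEn E hEn
  set E₁ := dStarOf ((S : Subgroup G) ⊓ N₁) with hE₁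
  have hTN₁ : T ≤ N₁ := hTN.trans hNK
  have hp1 : IsPGroup p ↥((S : Subgroup G) ⊓ N₁) := hSp.to_le inf_le_left
  have hp0 : IsPGroup p ↥((S : Subgroup G) ⊓ N) := hSp.to_le inf_le_left
  have hE₁T : E₁ ≤ T := hinT E₁ (dStarOf_props hp1).1 ((le_inf hTS hTN₁).trans (Subgroup.le_normalizer.trans (hnorm _ hp1)))
  have hE₁E : E₁ ≤ E := by
    rw [hEN]
    exact dStarOf_mono hp1 (inf_le_inf_left _ hNK) (hE₁T.trans (le_inf hTS hTN))
  have hCn : (Subgroup.centralizer (E : Set G)).Normal := inferInstance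
  have hE₁n : E₁.Normal := by
    have hsyl : IsSyl p ((S : Subgroup G) ⊓ N₁) N₁ :=
      (isSyl_of_sylow S).inf le_top (by rw [Subgroup.normalizer_eq_top_iff.mpr hN₁n])
    have h1 : N₁ ≤ Subgroup.normalizer (E₁ : Set G) := by
      have h2 := le_sup_sylow hN₁n hCn S (hKEel E hEn)
      intro k hk
      obtain ⟨c, hc', s, hs, hcs⟩ := Subgroup.mem_sup_of_normal_left.mp (h2 hk)
      have hcN : c ∈ Subgroup.normalizer (E₁ : Set G) := by
        apply mem_normalizer_of_cj_le
        rintro _ ⟨w, hw, rfl⟩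
        have h3 := Subgroup.mem_centralizer_iff.mp hc' w (hE₁E hw)
        change c * w * c⁻¹ ∈ E₁
        rw [← h3, mul_inv_cancel_right]; exact hw
      have hcN₁ : c ∈ N₁ := by
        refine (hKEle E hEn _ hCn fun k hk => ⟨0, ?_⟩) hc'
        rw [pow_zero, pow_one]; exact hk
      have hsN₁ : s ∈ N₁ := by
        have := mul_mem (inv_mem hcN₁) hk
        rwa [← hcs, inv_mul_cancel_left] at this
      rw [← hcs]
      exact mul_mem hcN (hnorm _ hp1 (Subgroup.le_normalizer (Subgroup.mem_inf.mpr ⟨hs, hsN₁⟩)))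
    rw [← Subgroup.normalizer_eq_top_iff, eq_top_iff]
    intro g _
    obtain ⟨n, hn, y, hy, hgy⟩ := hsyl.frattini (H := ⊤) le_top (by rw [Subgroup.normalizer_eq_top_iff.mpr hN₁n]) (x := g) trivial
    rw [hgy]
    exact mul_mem (h1 hn) (hnorm _ hp1 (Subgroup.mem_inf.mp hy).2)
  have hEE : E₁ = E := by
    refine Subgroup.eq_of_le_of_card_ge hE₁E (hEmin E₁ ⟨hE₁n, N₁, hN₁n, hTN₁, ?_, rfl⟩)
    refine hKEle E₁ hE₁n N₁ hN₁n fun k hk => ?_
    have hCC : Subgroup.centralizer (E : Set G) ≤ Subgroup.centralizer (E₁ : Set G) := Subgroup.centralizer_le hE₁E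
    have h2 : QuotientGroup.mk' (Subgroup.centralizer (E : Set G)) k ∈ pCore p (G ⧸ Subgroup.centralizer (E : Set G)) := by
      have h3 := hk
      rw [hN₁, hKE E hEn] at h3
      exact h3
    obtain ⟨m, hm⟩ := isPGroup_pow_mem (CfsgH2.isPGroup_pCore p) h2
    refine ⟨m, hCC ?_⟩
    rw [← map_pow] at hm
    exact (QuotientGroup.eq_one_iff _).mp hm
  -- conclusion
  have hED : E ≤ D := by
    obtain ⟨h1, h2⟩ := dStarOf_props hp1
    rw [← hE₁, hEE] at h1 h2
    refine le_dStarOf ?_ h1 fun x hx hq => ?_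
    · rw [← hEE]; exact hE₁T.trans hTS
    · have hET : E ≤ T := by rw [← hEE]; exact hE₁T
      have hEp : IsPGroup p ↥E := hTp.to_le hET
      have hquad : ⁅⁅E, Subgroup.zpowers x⁆, Subgroup.zpowers x⁆ = ⊥ := by
        rw [eq_bot_iff, ← hq]
        exact Subgroup.commutator_mono (Subgroup.commutator_mono le_sup_left le_sup_right) le_sup_right
      have h3 := hst E hEp x hquad
      have h4 : x ∈ N₁ := by
        rw [hN₁, hKE E hEn]; exact h3
      exact h2 x (Subgroup.mem_inf.mpr ⟨hx, h4⟩) hq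
  have hDE : D ≤ E := by
    rw [hEN]
    exact dStarOf_mono hSp inf_le_left (hDT.trans (le_inf hTS hTN))
  have : D = E := le_antisymm hDE hED
  change D.Normal
  rw [this]; exact hEn

end CfsgH7
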