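import Cfsg.Agent.H1.Frat

set_option autoImplicit false
set_option linter.unusedSectionVars false

/-! Extraspecial 2-groups of plus type: elements of order 4. -/

namespace CfsgH7

open Subgroup Cfsg
open scoped commutatorElement

variable {E : Type*} [Group E] [Finite E]

structure XS (z : E) : Prop where
  z1 : z ≠ 1
  zz : z * z = 1
  zc : ∀ x, z * x = x * z
  comm : ∀ x y : E, x * y = y * x ∨ x * y = z * (y * x)
  sqz : ∀ x : E, x * x = 1 ∨ x * x = z
  cen : ∀ a : E, a ∈ Subgroup.center E → a = 1 ∨ a = z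

theorem XS.of (hE : IsExtraspecial 2 E) : ∃ z : E, XS z := by
  obtain ⟨⟨hp, hfr, hco⟩, hcard⟩ := hE
  obtain ⟨⟨z, hz⟩, hzo⟩ := exists_prime_orderOf_dvd_card' (G := ↥(Subgroup.center E)) 2 (by rw [hcard])
  rw [Subgroup.orderOf_mk] at hzo
  have hzz : z * z = 1 := by rw [← sq, ← hzo, pow_orderOf_eq_one]
  have hz1 : z ≠ 1 := by
    rintro rfl
    rw [orderOf_one] at hzo
    norm_num at hzo
  have hZ : Subgroup.center E = Subgroup.zpowers z := by
    symm
    refine Subgroup.eq_of_le_of_card_ge (by rwa [Subgroup.zpowers_le]) ?_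
    rw [Nat.card_zpowers, hzo, hcard]
  have hcen : ∀ a : E, a ∈ Subgroup.center E → a = 1 ∨ a = z := by
    intro a ha
    rw [hZ] at ha
    obtain ⟨k, rfl⟩ := ha
    change z ^ k = 1 ∨ z ^ k = z
    rcases Int.even_or_odd' k with ⟨j, rfl | rfl⟩
    · left
      rw [zpow_mul, zpow_ofNat, sq, hzz, one_zpow]
    · right
      rw [zpow_add, zpow_mul, zpow_ofNat, sq, hzz, one_zpow, one_mul, zpow_one]
  refine ⟨z, hz1, hzz, fun x => (Subgroup.mem_center_iff.mp hz x).symm, fun x y => ?_, fun x => ?_, hcen⟩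
  · have h1 : ⁅x, y⁆ ∈ commutator E := Subgroup.commutator_mem_commutator (Subgroup.mem_top x) (Subgroup.mem_top y)
    rw [hco] at h1
    rcases hcen _ h1 with h2 | h2
    · left; rwa [commutatorElement_eq_one_iff_mul_comm] at h2
    · right
      rw [commutatorElement_def] at h2
      rw [← h2]; group
  · apply hcen
    rw [← hfr]
    have := CfsgH1.pow_mem_frattini hp x
    rwa [sq] at this

open Classical in
noncomputable def chi (x a : E) : ℤ := if x * a = a * x then 1 else -1

open Classical in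
noncomputable def eps (x : E) : ℤ := if x * x = 1 then 1 else -1

theorem chi_symm (x a : E) : chi x a = chi a x := by
  unfold chi
  by_cases h : x * a = a * x
  · rw [if_pos h, if_pos h.symm]
  · rw [if_neg h, if_neg (fun h' => h h'.symm)]

theorem chi_one {x a : E} (h : x * a = a * x) : chi x a = 1 := by unfold chi; rw [if_pos h]
theorem chi_neg {x a : E} (h : x * a ≠ a * x) : chi x a = -1 := by unfold chi; rw [if_neg h]

variable {z : E}

theorem XS.ne (h : XS z) {x a : E} (hx : x * a = z * (a * x)) : x * a ≠ a * x := by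
  intro h1
  rw [h1] at hx
  exact h.z1 (mul_eq_right.mp hx.symm)

theorem XS.chi_mul (h : XS z) (y x a : E) : chi (y * x) a = chi y a * chi x a := by
  rcases h.comm y a with h1 | h1 <;> rcases h.comm x a with h2 | h2
  · rw [chi_one h1, chi_one h2, one_mul]
    apply chi_one
    rw [mul_assoc, h2, ← mul_assoc, h1, mul_assoc]
  · rw [chi_one h1, chi_neg (h.ne h2), one_mul]
    apply chi_neg
    apply h.ne
    calc y * x * a = y * (z * (a * x)) := by rw [mul_assoc, h2]
      _ = (y * z) * a * x := by group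
      _ = (z * y) * a * x := by rw [h.zc]
      _ = z * (y * a) * x := by group
      _ = z * (a * y) * x := by rw [h1]
      _ = z * (a * (y * x)) := by group
  · rw [chi_neg (h.ne h1), chi_one h2, mul_one]
    apply chi_neg
    apply h.ne
    calc y * x * a = (y * a) * x := by rw [mul_assoc, h2, ← mul_assoc]
      _ = (z * (a * y)) * x := by rw [h1]
      _ = z * (a * (y * x)) := by group
  · rw [chi_neg (h.ne h1), chi_neg (h.ne h2)]
    norm_num
    apply chi_one
    calc y * x * a = y * (z * (a * x)) := by rw [mul_assoc, h2]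
      _ = (y * z) * a * x := by group
      _ = (z * y) * a * x := by rw [h.zc]
      _ = z * (y * a) * x := by group
      _ = z * (z * (a * y)) * x := by rw [h1]
      _ = (z * z) * (a * (y * x)) := by group
      _ = a * (y * x) := by rw [h.zz, one_mul]

theorem XS.sum_left (h : XS z) [Fintype E] {a : E} (ha : a ∉ Subgroup.center E) : ∑ x : E, chi x a = 0 := by
  obtain ⟨y, hy⟩ : ∃ y, y * a ≠ a * y := by
    by_contra hcon
    push Not at hcon
    exact ha (Subgroup.mem_center_iff.mpr hcon)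
  have h1 : ∑ x : E, chi (y * x) a = ∑ x : E, chi x a := Equiv.sum_comp (Equiv.mulLeft y) (fun x => chi x a)
  have h2 : ∑ x : E, chi (y * x) a = - ∑ x : E, chi x a := by
    rw [← Finset.sum_neg_distrib]
    refine Finset.sum_congr rfl fun x _ => ?_
    rw [h.chi_mul, chi_neg hy, neg_one_mul]
  linarith

theorem XS.sum_right (h : XS z) {A : Subgroup E} [Fintype ↥A] {x b : E} (hb : b ∈ A) (hbx : b * x ≠ x * b) : ∑ a : ↥A, chi x (a : E) = 0 := by
  have h1 : ∑ a : ↥A, chi x ((⟨b, hb⟩ * a : ↥A) : E) = ∑ a : ↥A, chi x (a : E) :=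
    Equiv.sum_comp (Equiv.mulLeft (⟨b, hb⟩ : ↥A)) (fun a : ↥A => chi x (a : E))
  have h2 : ∑ a : ↥A, chi x ((⟨b, hb⟩ * a : ↥A) : E) = - ∑ a : ↥A, chi x (a : E) := by
    rw [← Finset.sum_neg_distrib]
    refine Finset.sum_congr rfl fun a _ => ?_
    rw [chi_symm x, Subgroup.coe_mul, h.chi_mul, chi_neg hbx, chi_symm _ x, neg_one_mul]
  linarith

theorem XS.self_cent (h : XS z) {A : Subgroup E} (hA : ∀ a ∈ A, ∀ b ∈ A, a * b = b * a) {m : ℕ} (hE : Nat.card E = 2 ^ (2 * m + 1))
    (hAc : Nat.card ↥A = 2 ^ (m + 1)) (hZ : Nat.card ↥(Subgroup.center E) = 2) : Subgroup.centralizer (A : Set E) = A := by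
  classical
  have := Fintype.ofFinite E
  have hle : A ≤ Subgroup.centralizer (A : Set E) := by
    intro a ha
    rw [Subgroup.mem_centralizer_iff]
    exact fun b hb => hA b hb a ha
  have hswap : ∑ x : E, ∑ a : ↥A, chi x (a : E) = ∑ a : ↥A, ∑ x : E, chi x (a : E) := Finset.sum_comm
  have hL : ∑ x : E, ∑ a : ↥A, chi x (a : E) = (Nat.card ↥(Subgroup.centralizer (A : Set E)) : ℤ) * Nat.card ↥A := by
    have h1 : ∀ x : E, ∑ a : ↥A, chi x (a : E) = if x ∈ Subgroup.centralizer (A : Set E) then (Nat.card ↥A : ℤ) else 0 := by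
      intro x
      by_cases hx : x ∈ Subgroup.centralizer (A : Set E)
      · rw [if_pos hx]
        rw [Finset.sum_congr rfl (fun (a : ↥A) _ => chi_one (Subgroup.mem_centralizer_iff.mp hx (a : E) a.2).symm)]
        rw [Finset.sum_const, Finset.card_univ, Nat.card_eq_fintype_card]
        simp
      · rw [if_neg hx]
        rw [Subgroup.mem_centralizer_iff] at hx
        push Not at hx
        obtain ⟨b, hb, hbx⟩ := hx
        exact h.sum_right hb hbx
    rw [Finset.sum_congr rfl (fun x _ => h1 x), ← Finset.sum_filter, Finset.sum_const, nsmul_eq_mul]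
    congr 1
    rw [Nat.card_eq_fintype_card, Fintype.card_subtype]
  have hR : ∑ a : ↥A, ∑ x : E, chi x (a : E) ≤ 2 * (Nat.card E : ℤ) := by
    have h1 : ∀ a : ↥A, ∑ x : E, chi x (a : E) = if (a : E) ∈ Subgroup.center E then (Nat.card E : ℤ) else 0 := by
      intro a
      by_cases ha : (a : E) ∈ Subgroup.center E
      · rw [if_pos ha]
        rw [Finset.sum_congr rfl (fun x _ => chi_one (Subgroup.mem_center_iff.mp ha x))]
        rw [Finset.sum_const, Finset.card_univ, Nat.card_eq_fintype_card]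
        simp
      · rw [if_neg ha]; exact h.sum_left ha
    rw [Finset.sum_congr rfl (fun a _ => h1 a), ← Finset.sum_filter, Finset.sum_const, nsmul_eq_mul]
    have h2 : (Finset.univ.filter (fun a : ↥A => (a : E) ∈ Subgroup.center E)).card ≤ 2 := by
      have h3 : (Finset.univ.filter (fun a : ↥A => (a : E) ∈ Subgroup.center E)).card ≤ ({1, z} : Finset E).card := by
        refine Finset.card_le_card_of_injOn (fun a : ↥A => (a : E)) ?_ ?_
        · intro a ha
          have := (Finset.mem_filter.mp ha).2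
          rcases h.cen _ this with h4 | h4
          · change (a : E) ∈ _
            rw [h4]; simp
          · change (a : E) ∈ _
            rw [h4]; simp
        · intro a _ b _ hab
          exact Subtype.ext hab
      exact h3.trans (Finset.card_le_two)
    have h5 : (0 : ℤ) ≤ Nat.card E := by positivity
    have h6 : ((Finset.univ.filter (fun a : ↥A => (a : E) ∈ Subgroup.center E)).card : ℤ) ≤ 2 := by exact_mod_cast h2
    exact mul_le_mul_of_nonneg_right h6 h5
  have h7 : (Nat.card ↥(Subgroup.centralizer (A : Set E)) : ℤ) * Nat.card ↥A ≤ 2 * Nat.card E := by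
    rw [← hL, hswap]; exact hR
  have h8 : Nat.card ↥(Subgroup.centralizer (A : Set E)) * Nat.card ↥A ≤ 2 * Nat.card E := by exact_mod_cast h7
  symm
  refine Subgroup.eq_of_le_of_card_ge hle ?_
  rw [hAc, hE] at h8
  rw [hAc]
  have h9 : 2 * 2 ^ (2 * m + 1) = 2 ^ (m + 1) * 2 ^ (m + 1) := by
    rw [← pow_add, ← pow_succ']; congr 1; ring
  rw [h9] at h8
  exact Nat.le_of_mul_le_mul_right h8 (by positivity)

theorem XS.eps_mul (h : XS z) {x b : E} (hb : b * b = 1) (hbx : b * x ≠ x * b) : eps (x * b) = - eps x := by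
  have h1 : b * x = z * (x * b) := (h.comm b x).resolve_left hbx
  have h2 : (x * b) * (x * b) = z * (x * x) := by
    calc (x * b) * (x * b) = x * (b * x) * b := by group
      _ = x * (z * (x * b)) * b := by rw [h1]
      _ = (x * z) * x * (b * b) := by group
      _ = (z * x) * x * (b * b) := by rw [h.zc]
      _ = z * (x * x) := by rw [hb]; group
  unfold eps
  rcases h.sqz x with h3 | h3
  · rw [if_pos h3, if_neg]
    rw [h2, h3, mul_one]; exact h.z1
  · rw [if_pos (by rw [h2, h3, h.zz]), if_neg (by rw [h3]; exact h.z1)]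
    norm_num

theorem XS.sum_eps (h : XS z) {A : Subgroup E} (hA : ∀ a ∈ A, ∀ b ∈ A, a * b = b * a) (hA2 : ∀ a ∈ A, a ^ 2 = 1) [Fintype E]
    (hself : Subgroup.centralizer (A : Set E) = A) : ∑ x : E, eps x = Nat.card ↥A := by
  classical
  have hswap : ∑ x : E, ∑ a : ↥A, eps (x * (a : E)) = ∑ a : ↥A, ∑ x : E, eps (x * (a : E)) := Finset.sum_comm
  have hR : ∑ a : ↥A, ∑ x : E, eps (x * (a : E)) = (Nat.card ↥A : ℤ) * ∑ x : E, eps x := by
    have h1 : ∀ a : ↥A, ∑ x : E, eps (x * (a : E)) = ∑ x : E, eps x := fun a => Equiv.sum_comp (Equiv.mulRight (a : E)) eps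
    rw [Finset.sum_congr rfl (fun a _ => h1 a), Finset.sum_const, Finset.card_univ, Nat.card_eq_fintype_card]
    simp
  have hL : ∑ x : E, ∑ a : ↥A, eps (x * (a : E)) = (Nat.card ↥A : ℤ) * Nat.card ↥A := by
    have h1 : ∀ x : E, ∑ a : ↥A, eps (x * (a : E)) = if x ∈ A then (Nat.card ↥A : ℤ) else 0 := by
      intro x
      by_cases hx : x ∈ A
      · rw [if_pos hx]
        have h2 : ∀ a : ↥A, eps (x * (a : E)) = 1 := by
          intro a
          unfold eps
          rw [if_pos]
          rw [← sq]; exact hA2 _ (A.mul_mem hx a.2)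
        rw [Finset.sum_congr rfl (fun a _ => h2 a), Finset.sum_const, Finset.card_univ, Nat.card_eq_fintype_card]
        simp
      · rw [if_neg hx]
        have hx' : x ∉ Subgroup.centralizer (A : Set E) := by rw [hself]; exact hx
        rw [Subgroup.mem_centralizer_iff] at hx'
        push Not at hx'
        obtain ⟨b, hb, hbx⟩ := hx'
        have h3 : ∑ a : ↥A, eps (x * ((a * ⟨b, hb⟩ : ↥A) : E)) = ∑ a : ↥A, eps (x * (a : E)) :=
          Equiv.sum_comp (Equiv.mulRight (⟨b, hb⟩ : ↥A)) (fun a : ↥A => eps (x * (a : E)))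
        have h4 : ∑ a : ↥A, eps (x * ((a * ⟨b, hb⟩ : ↥A) : E)) = - ∑ a : ↥A, eps (x * (a : E)) := by
          rw [← Finset.sum_neg_distrib]
          refine Finset.sum_congr rfl fun a _ => ?_
          have h5 : x * ((a * ⟨b, hb⟩ : ↥A) : E) = (x * (a : E)) * b := by
            rw [Subgroup.coe_mul, mul_assoc]
          rw [h5]
          refine h.eps_mul (by rw [← sq]; exact hA2 b hb) ?_
          intro h6
          have h7 : chi (x * (a : E)) b = 1 := chi_one h6.symm
          rw [h.chi_mul, chi_one (hA a a.2 b hb), mul_one, chi_symm, chi_neg hbx] at h7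
          norm_num at h7
        linarith
    rw [Finset.sum_congr rfl (fun x _ => h1 x), ← Finset.sum_filter, Finset.sum_const, nsmul_eq_mul]
    congr 1
    rw [Nat.card_eq_fintype_card, Fintype.card_subtype]
  rw [hL, hR] at hswap
  have hpos : (0 : ℤ) < Nat.card ↥A := by exact_mod_cast Nat.card_pos
  exact (mul_left_cancel₀ hpos.ne' hswap).symm

theorem XS.order_four (h : XS z) (x : E) : orderOf x = 4 ↔ x * x ≠ 1 := by
  constructor
  · intro h1 h2
    have h3 : orderOf x ∣ 2 := orderOf_dvd_of_pow_eq_one (by rw [sq]; exact h2)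
    rw [h1] at h3
    exact absurd h3 (by decide)
  · intro h1
    have h2 : x ^ 4 = 1 := by
      have h3 : x ^ 4 = (x * x) * (x * x) := by rw [show (4 : ℕ) = 2 + 2 from rfl, pow_add, pow_two]
      rw [h3]
      rcases h.sqz x with h4 | h4
      · rw [h4, mul_one]
      · rw [h4, h.zz]
    have h5 : orderOf x ∣ 4 := orderOf_dvd_of_pow_eq_one h2
    have h6 : orderOf x ≤ 4 := Nat.le_of_dvd (by norm_num) h5
    have h7 : ¬ orderOf x ∣ 2 := by
      intro h8
      apply h1
      rw [← sq]
      exact orderOf_dvd_iff_pow_eq_one.mp h8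
    interval_cases h : orderOf x <;> revert h5 h7 <;> decide

theorem S2880_all (m : ℕ) (hE : IsExtraspecial 2 E) (hcard : Nat.card E = 2 ^ (2 * m + 1))
    (hplus : ∃ A : Subgroup E, IsElementaryAbelian 2 A ∧ Nat.card A = 2 ^ (m + 1)) : Nat.card {x : E // orderOf x = 4} = 2 ^ (2 * m) - 2 ^ m := by
  classical
  have := Fintype.ofFinite E
  obtain ⟨z, h⟩ := XS.of hE
  obtain ⟨A, ⟨hA1, hA2⟩, hA⟩ := hplus
  have hAc : ∀ a ∈ A, ∀ b ∈ A, a * b = b * a := fun a ha b hb => congrArg Subtype.val (hA1.is_comm.comm (⟨a, ha⟩ : ↥A) ⟨b, hb⟩)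
  have h1 := h.sum_eps hAc hA2 (h.self_cent hAc hcard hA hE.2)
  have h2 : ∑ x : E, eps x = (Nat.card E : ℤ) - 2 * Nat.card {x : E // orderOf x = 4} := by
    have h3 : ∀ x : E, eps x = 1 - 2 * (if orderOf x = 4 then 1 else 0) := by
      intro x
      unfold eps
      by_cases hx : x * x = 1
      · rw [if_pos hx, if_neg (fun h' => (h.order_four x).mp h' hx)]; norm_num
      · rw [if_neg hx, if_pos ((h.order_four x).mpr hx)]; norm_num
    rw [Finset.sum_congr rfl (fun x _ => h3 x), Finset.sum_sub_distrib, ← Finset.mul_sum, Finset.sum_boole, Finset.sum_const, Finset.card_univ,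
      Nat.card_eq_fintype_card, Nat.card_eq_fintype_card, Fintype.card_subtype]
    simp
  rw [h1, hcard, hA] at h2
  have h3 : (2 : ℤ) ^ (2 * m + 1) = 2 * 2 ^ (2 * m) := by rw [pow_succ]; ring
  have h4 : (2 : ℤ) ^ (m + 1) = 2 * 2 ^ m := by rw [pow_succ]; ring
  push_cast at h2
  rw [h3, h4] at h2
  have h5 : (Nat.card {x : E // orderOf x = 4} : ℤ) = 2 ^ (2 * m) - 2 ^ m := by linarith
  have h6 : Nat.card {x : E // orderOf x = 4} + 2 ^ m = 2 ^ (2 * m) := by
    have : (Nat.card {x : E // orderOf x = 4} : ℤ) + 2 ^ m = 2 ^ (2 * m) := by linarith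
    exact_mod_cast this
  omega

theorem S2881_all (m : ℕ) (hE : IsExtraspecial 2 E) (hcard : Nat.card E = 2 ^ (2 * m + 1))
    (hplus : ∃ A : Subgroup E, IsElementaryAbelian 2 A ∧ Nat.card A = 2 ^ (m + 1)) (ω : E ≃* E) (hω : orderOf ω = 5)
    (hfix : ∀ x : E, ω x = x ↔ x ∈ Subgroup.center E) : 4 ∣ m := by
  classical
  have hn := S2880_all m hE hcard hplus
  obtain ⟨z, h⟩ := XS.of hE
  have : Fact (Nat.Prime 5) := ⟨by norm_num⟩
  let α := {x : E // orderOf x = 4}
  have : Fintype α := Fintype.ofFinite _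
  let f : Function.End α := fun x => ⟨ω x, by rw [MulEquiv.orderOf_eq]; exact x.2⟩
  have hiter : ∀ k : ℕ, ∀ x : α, ((f ^ k) x : E) = (ω ^ k) (x : E) := by
    intro k
    induction k with
    | zero => intro x; rfl
    | succ k ih =>
      intro x
      rw [pow_succ', pow_succ']
      change ω ((f ^ k) x : E) = ω ((ω ^ k) (x : E))
      rw [ih]
  have hf : f ^ 5 ^ 1 = 1 := by
    rw [pow_one]
    funext x
    apply Subtype.ext
    rw [hiter, ← hω]
    have h1 : ω ^ orderOf ω = 1 := pow_orderOf_eq_one ω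
    rw [h1]; rfl
  have h1 := Equiv.Perm.card_fixedPoints_modEq hf
  have h2 : Fintype.card (Function.fixedPoints f) = 0 := by
    rw [Fintype.card_eq_zero_iff]
    refine ⟨fun x => ?_⟩
    obtain ⟨⟨x, hx⟩, hfx⟩ := x
    have h3 : ω x = x := congrArg Subtype.val hfx
    rcases h.cen x ((hfix x).mp h3) with h4 | h4
    · rw [h4, orderOf_one] at hx; norm_num at hx
    · exact (h.order_four x).mp hx (by rw [h4, h.zz])
  rw [h2] at h1
  have h3 : 5 ∣ 2 ^ (2 * m) - 2 ^ m := by
    rw [← hn, Nat.card_eq_fintype_card]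
    exact (Nat.modEq_zero_iff_dvd).mp h1
  have h4 : 2 ^ (2 * m) - 2 ^ m = 2 ^ m * (2 ^ m - 1) := by
    rw [Nat.mul_sub, mul_one, ← pow_add]; congr 2; ring
  rw [h4] at h3
  have h5 : 5 ∣ 2 ^ m - 1 := by
    refine (Nat.Coprime.dvd_of_dvd_mul_left ?_ h3)
    exact Nat.Coprime.pow_right m (by norm_num)
  have h6 : 2 ^ m ≡ 1 [MOD 5] := ((Nat.modEq_iff_dvd' (Nat.one_le_two_pow)).mpr h5).symm
  obtain ⟨q, r, hr, rfl⟩ : ∃ q r, r < 4 ∧ m = 4 * q + r := ⟨m / 4, m % 4, Nat.mod_lt _ (by norm_num), (Nat.div_add_mod m 4).symm⟩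
  have h7 : 2 ^ (4 * q + r) ≡ 2 ^ r [MOD 5] := by
    rw [pow_add, pow_mul]
    have : (2 ^ 4) ^ q ≡ 1 ^ q [MOD 5] := Nat.ModEq.pow q (by decide)
    rw [one_pow] at this
    simpa using this.mul_right (2 ^ r)
  have h8 : 2 ^ r ≡ 1 [MOD 5] := h7.symm.trans h6
  interval_cases r
  · exact ⟨q, by ring⟩
  · exact absurd h8 (by decide)
  · exact absurd h8 (by decide)
  · exact absurd h8 (by decide)

end CfsgH7
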