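import Cfsg.Agent.H7.Fam

set_option autoImplicit false
set_option linter.unusedSectionVars false

/-! Families of subgroups permuted transitively, II: strongly `p`-irreducible members. -/

namespace CfsgH7

open Subgroup Cfsg
open scoped commutatorElement

variable {G : Type*} [Group G] {p : ℕ} [Finite G] [hp : Fact p.Prime]

/-- the family when `O_p = 1` -/
structure Fam1 (p : ℕ) (K : Set (Subgroup G)) : Prop where
  ne : K.Nonempty
  inv : ∀ h : G, ∀ E ∈ K, cj h E ∈ K
  tr : ∀ E ∈ K, ∀ F ∈ K, ∃ h : G, F = cj h E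
  res : rs p (⊤ : Subgroup G) ≤ sSup K
  nor : ∀ E ∈ K, sSup K ≤ Subgroup.normalizer (E : Set G)
  spir : ∀ E ∈ K, SPIr p E
  core : pCore p G = ⊥

variable {K : Set (Subgroup G)}

theorem Fam1.R_normal (h : Fam1 p K) : (sSup K).Normal := by
  rw [← Subgroup.normalizer_eq_top_iff, eq_top_iff]
  intro g _
  apply mem_normalizer_of_cj_le
  rw [cj_le_iff]
  refine sSup_le fun E hE => ?_
  rw [← cj_le_iff]
  exact le_sSup (h.inv g E hE)

theorem Fam1.top (h : Fam1 p K) {T : Subgroup G} (hT : IsSyl p T ⊤) : sSup K ⊔ T = ⊤ := by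
  rw [eq_top_iff, ← syl_sup_rs hT, sup_comm]
  exact sup_le_sup_right h.res T

theorem Fam1.sub (h : Fam1 p K) {E : Subgroup G} (hE : E ∈ K) : E.IsSubnormal :=
  Subgroup.IsSubnormal.step _ _ (le_sSup hE) h.R_normal.isSubnormal ((Subgroup.normal_subgroupOf_iff_le_normalizer (le_sSup hE)).mpr (h.nor E hE))

/-- subnormal `p`-subgroups are trivial -/
theorem Fam1.triv (h : Fam1 p K) {P : Subgroup G} (hP : P.IsSubnormal) (hPp : IsPGroup p ↥P) : P = ⊥ := by
  have := CfsgH2.IsSubnormal.le_pCore hP hPp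
  rwa [h.core, le_bot_iff] at this

theorem sub_of_norm {P L : Subgroup G} (hPL : P ≤ L) (hL : L.IsSubnormal) (hn : L ≤ Subgroup.normalizer (P : Set G)) : P.IsSubnormal :=
  Subgroup.IsSubnormal.step _ _ hPL hL ((Subgroup.normal_subgroupOf_iff_le_normalizer hPL).mpr hn)

theorem Fam1.coreE (h : Fam1 p K) {E : Subgroup G} (hE : E ∈ K) : pCoreOf p E = ⊥ :=
  h.triv (sub_of_norm (pCoreOf_le p E) (h.sub hE) (le_normalizer_pCoreOf p E)) (isPGroup_pCoreOf p E)

theorem Fam1.rs_eq (h : Fam1 p K) {E F : Subgroup G} (hE : E ∈ K) (hF : F ∈ K) (hle : rs p E ≤ F) : rs p E = rs p F := by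
  obtain ⟨g, rfl⟩ := h.tr E hE F hF
  have h1 : rs p E ≤ rs p (cj g E) := by
    rw [← rs_rs E]; exact rs_mono hle
  refine Subgroup.eq_of_le_of_card_ge h1 ?_
  rw [← cj_rs, card_cj]

theorem Fam1.dich (h : Fam1 p K) {E F : Subgroup G} (hE : E ∈ K) (hF : F ∈ K) : rs p E = rs p F ∨ ⁅E, F⁆ = ⊥ := by
  have hEF : E ≤ Subgroup.normalizer (F : Set G) := (le_sSup hE).trans (h.nor F hF)
  have hFE : F ≤ Subgroup.normalizer (E : Set G) := (le_sSup hF).trans (h.nor E hE)
  by_cases h1 : ⁅E ⊓ F, E⁆ ≤ pCoreOf p E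
  · by_cases h2 : ⁅F ⊓ E, F⁆ ≤ pCoreOf p F
    · right
      rw [h.coreE hE, le_bot_iff] at h1
      rw [h.coreE hF, le_bot_iff] at h2
      have h3 : ⁅E, F⁆ ≤ E ⊓ F := by
        refine le_inf ?_ ?_
        · rw [← Subgroup.le_normalizer_iff_commutator_le_left]; exact hFE
        · rw [← Subgroup.le_normalizer_iff_commutator_le_right]; exact hEF
      have h4 : ⁅⁅E, F⁆, E⁆ = ⊥ := by
        rw [eq_bot_iff, ← h1]; exact Subgroup.commutator_mono h3 le_rfl
      have h5 : ⁅⁅E, F⁆, F⁆ = ⊥ := by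
        rw [eq_bot_iff, ← h2]; exact Subgroup.commutator_mono (h3.trans (by rw [inf_comm])) le_rfl
      have h6 : ⁅⁅E, E⁆, F⁆ = ⊥ := Subgroup.commutator_commutator_eq_bot_of_rotate h4 (by rw [Subgroup.commutator_comm F E]; exact h4)
      have h7 : ⁅⁅F, F⁆, E⁆ = ⊥ := Subgroup.commutator_commutator_eq_bot_of_rotate (by rw [Subgroup.commutator_comm F E]; exact h5) h5
      rw [Subgroup.commutator_eq_bot_iff_le_centralizer] at h6 h7
      have h8 : rs p E ≤ Subgroup.centralizer (F : Set G) := ((h.spir E hE).pir.rs_le_comm).trans h6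
      have h9 : rs p F ≤ Subgroup.centralizer (E : Set G) := ((h.spir F hF).pir.rs_le_comm).trans h7
      obtain ⟨T, hT⟩ := exists_isSyl p (⊤ : Subgroup G)
      have hTE := hT.subnormal (h.sub hE)
      have hTF := hT.subnormal (h.sub hF)
      have h10 : ⁅E, F⁆ ≤ T := by
        rw [Subgroup.commutator_le]
        intro e he f hf
        have he' : e ∈ (T ⊓ E) ⊔ rs p E := by rw [syl_sup_rs hTE]; exact he
        have hf' : f ∈ (T ⊓ F) ⊔ rs p F := by rw [syl_sup_rs hTF]; exact hf
        have n1 : T ⊓ E ≤ Subgroup.normalizer ((rs p E : Subgroup G) : Set G) := inf_le_right.trans (Subgroup.le_normalizer.trans (le_normalizer_rs E))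
        have n2 : T ⊓ F ≤ Subgroup.normalizer ((rs p F : Subgroup G) : Set G) := inf_le_right.trans (Subgroup.le_normalizer.trans (le_normalizer_rs F))
        obtain ⟨t, ht, a, ha, rfl⟩ := (CfsgH1.mem_sup_of_le_normalizer n1).mp he'
        obtain ⟨s, hs, b, hb, rfl⟩ := (CfsgH1.mem_sup_of_le_normalizer n2).mp hf'
        have c1 : (s * b) * a = a * (s * b) := Subgroup.mem_centralizer_iff.mp (h8 ha) _ hf
        have c2 : t * b = b * t := Subgroup.mem_centralizer_iff.mp (h9 hb) _ (Subgroup.mem_inf.mp ht).2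
        have e1 : ⁅t * a, s * b⁆ = ⁅t, s⁆ := by
          rw [commutatorElement_def, commutatorElement_def]
          calc t * a * (s * b) * (t * a)⁻¹ * (s * b)⁻¹ = t * (a * (s * b)) * a⁻¹ * t⁻¹ * (s * b)⁻¹ := by group
            _ = t * ((s * b) * a) * a⁻¹ * t⁻¹ * (s * b)⁻¹ := by rw [c1]
            _ = t * s * (b * t⁻¹) * b⁻¹ * s⁻¹ := by group
            _ = t * s * (t⁻¹ * b) * b⁻¹ * s⁻¹ := by
                have : b * t⁻¹ = t⁻¹ * b := by
                  rw [eq_comm, inv_mul_eq_iff_eq_mul, ← mul_assoc, c2]; group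
                rw [this]
            _ = _ := by group
        rw [e1]
        have t1 := (Subgroup.mem_inf.mp ht).1
        have s1 := (Subgroup.mem_inf.mp hs).1
        exact T.mul_mem (T.mul_mem (T.mul_mem t1 s1) (T.inv_mem t1)) (T.inv_mem s1)
      refine h.triv (sub_of_norm (L := sSup K) ?_ h.R_normal.isSubnormal ?_) (hT.isPGroup.to_le h10)
      · exact (h3.trans inf_le_left).trans (le_sSup hE)
      · intro g hg
        rw [mem_normalizer_iff_cj, cj_commutator, cj_of_mem_normalizer (h.nor E hE hg), cj_of_mem_normalizer (h.nor F hF hg)]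
    · left
      have h3 := (h.spir F hF).2 (F ⊓ E) inf_le_left (by
        intro g hg
        rw [mem_normalizer_iff_cj, cj_inf, cj_of_mem hg, cj_of_mem_normalizer (hFE hg)]) h2
      exact (h.rs_eq hF hE (h3.trans inf_le_right)).symm
  · left
    have h3 := (h.spir E hE).2 (E ⊓ F) inf_le_left (by
      intro g hg
      rw [mem_normalizer_iff_cj, cj_inf, cj_of_mem hg, cj_of_mem_normalizer (hEF hg)]) h1
    exact h.rs_eq hE hF (h3.trans inf_le_right)

theorem Fam1.pir (h : Fam1 p K) : PIr p (⊤ : Subgroup G) := by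
  obtain ⟨E₀, hE₀⟩ := h.ne
  refine ⟨fun hc => (h.spir E₀ hE₀).1 (hc.mono le_top), fun N _ hNn hNc => ?_⟩
  haveI hN : N.Normal := Subgroup.normalizer_eq_top_iff.mp (top_le_iff.mp hNn)
  haveI hR := h.R_normal
  obtain ⟨T, hT⟩ := exists_isSyl p (⊤ : Subgroup G)
  have hgen : ∀ W : Subgroup G, W.Normal → (∀ E ∈ K, rs p E ≤ W) → rs p (⊤ : Subgroup G) ≤ W := by
    intro W hW hall
    refine rs_le_of_sup le_top (by rw [Subgroup.normalizer_eq_top_iff.mpr hW]) hT.isPGroup ?_
    rw [eq_top_iff, ← h.top hT]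
    refine sup_le (sSup_le fun E hE => ?_) le_sup_right
    rw [← syl_sup_rs (hT.subnormal (h.sub hE))]
    exact sup_le (inf_le_left.trans le_sup_right) ((hall E hE).trans le_sup_left)
  by_cases hex : ∃ E ∈ K, ¬ ⁅N ⊓ E, E⁆ ≤ pCoreOf p E
  · obtain ⟨E, hE, hn⟩ := hex
    have h1 := (h.spir E hE).2 (N ⊓ E) inf_le_right (by
      intro g hg
      rw [mem_normalizer_iff_cj, cj_inf, cj_of_mem hg, cj_of_normal]) hn
    refine hgen N hN fun F hF => ?_
    obtain ⟨g, rfl⟩ := h.tr E hE F hF
    rw [← cj_rs]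
    have := cj_mono (g := g) (h1.trans inf_le_left)
    rwa [cj_of_normal g N] at this
  · exfalso
    push Not at hex
    apply hNc
    have hcomm : ∀ E ∈ K, ⁅N ⊓ E, E⁆ = ⊥ := by
      intro E hE
      have := hex E hE
      rwa [h.coreE hE, le_bot_iff] at this
    set N₁ := N ⊓ sSup K with hN₁
    have hN₁n : N₁.Normal := inferInstance
    have h1 : rs p (⊤ : Subgroup G) ≤ Subgroup.centralizer (N₁ : Set G) := by
      refine hgen _ Subgroup.normal_centralizer fun E hE => ?_
      have h2 : ⁅N₁, E⁆ ≤ N ⊓ E := by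
        refine le_inf ?_ ?_
        · refine (Subgroup.commutator_mono inf_le_left le_rfl).trans ?_
          rw [← Subgroup.le_normalizer_iff_commutator_le_left]; exact le_norm_normal
        · rw [← Subgroup.le_normalizer_iff_commutator_le_right]
          exact inf_le_right.trans (h.nor E hE)
      have h3 : ⁅⁅N₁, E⁆, E⁆ = ⊥ := by
        rw [eq_bot_iff, ← hcomm E hE]; exact Subgroup.commutator_mono h2 le_rfl
      have h4 : ⁅⁅E, E⁆, N₁⁆ = ⊥ := Subgroup.commutator_commutator_eq_bot_of_rotate (by rw [Subgroup.commutator_comm E N₁]; exact h3) h3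
      rw [Subgroup.commutator_eq_bot_iff_le_centralizer] at h4
      exact ((h.spir E hE).pir.rs_le_comm).trans h4
    have hTN₁ : IsSyl p (T ⊓ N₁) N₁ := hT.subnormal hN₁n.isSubnormal
    have h2 : T ⊓ N₁ = ⊥ := by
      refine h.triv (sub_of_norm inf_le_right hN₁n.isSubnormal ?_) hTN₁.isPGroup
      nth_rewrite 1 [← syl_sup_rs hTN₁]
      refine sup_le Subgroup.le_normalizer ?_
      refine le_trans ?_ (Subgroup.centralizer_le_normalizer _)
      exact ((rs_mono le_top).trans h1).trans (Subgroup.centralizer_le inf_le_right)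
    set S := T ⊓ N with hS
    have hSN : IsSyl p S N := hT.subnormal hN.isSubnormal
    have h3 : ∀ E ∈ K, ⁅T ⊓ E, S⁆ = ⊥ := by
      intro E hE
      rw [eq_bot_iff, ← h2]
      refine le_inf ?_ (le_inf ?_ ?_)
      · exact (Subgroup.commutator_mono inf_le_left inf_le_left).trans (Subgroup.commutator_le_self T)
      · refine (Subgroup.commutator_mono le_rfl inf_le_right).trans ?_
        rw [← Subgroup.le_normalizer_iff_commutator_le_right]; exact le_norm_normal
      · refine (Subgroup.commutator_mono (inf_le_right.trans (le_sSup hE)) le_rfl).trans ?_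
        rw [← Subgroup.le_normalizer_iff_commutator_le_left]; exact le_norm_normal
    have h4 : ∀ E ∈ K, ¬ T ⊓ E ≤ pCoreOf p E := by
      intro E hE hle
      rw [h.coreE hE, le_bot_iff] at hle
      apply (h.spir E hE).1
      refine pcl_of_syl (hT.subnormal (h.sub hE)) ?_
      rw [hle, Subgroup.normalizer_eq_top]; exact le_top
    have h5 : ∀ E ∈ K, S ≤ Subgroup.normalizer ((rs p E : Subgroup G) : Set G) := by
      intro E hE x hx
      have hxE := h.inv x E hE
      rcases h.dich hE hxE with h6 | h6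
      · rw [mem_normalizer_iff_cj, cj_rs]; exact h6.symm
      · exfalso
        apply h4 E hE
        have h7 : T ⊓ E ≤ cj x E := by
          intro y hy
          rw [mem_cj]
          have h8 := (CfsgH2.commutator_eq_bot_iff_forall.mp (h3 E hE)) y hy x hx
          have e : x⁻¹ * y * x = y := by rw [mul_assoc, h8]; group
          rw [e]; exact (Subgroup.mem_inf.mp hy).2
        rw [Subgroup.commutator_comm, Subgroup.commutator_eq_bot_iff_le_centralizer] at h6
        have h8 : T ⊓ E ≤ Subgroup.centralizer (E : Set G) := h7.trans h6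
        refine le_pCoreOf inf_le_right ?_ (hT.isPGroup.to_le inf_le_left)
        exact (Subgroup.le_centralizer_iff.mp h8).trans (Subgroup.centralizer_le_normalizer _)
    have h6 : rs p (⊤ : Subgroup G) ≤ Subgroup.centralizer (S : Set G) := by
      have h7 : ∀ E ∈ K, rs p E ≤ Subgroup.centralizer (S : Set G) := by
        intro E hE
        have hO := (h.spir E hE).pir.comm_rs (hT.subnormal (h.sub hE)) (Y := T ⊓ E) le_rfl Subgroup.le_normalizer (h4 E hE)
        have h8 : ⁅rs p E, S⁆ ≤ N ⊓ E := by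
          refine le_inf ?_ ?_
          · refine (Subgroup.commutator_mono le_rfl inf_le_right).trans ?_
            rw [← Subgroup.le_normalizer_iff_commutator_le_right]; exact le_norm_normal
          · refine le_trans ?_ (rs_le (p := p) E)
            rw [← Subgroup.le_normalizer_iff_commutator_le_left]; exact h5 E hE
        have h9 : ⁅⁅rs p E, S⁆, T ⊓ E⁆ = ⊥ := by
          rw [eq_bot_iff, ← hcomm E hE]; exact Subgroup.commutator_mono h8 inf_le_right
        have h10 : ⁅⁅S, T ⊓ E⁆, rs p E⁆ = ⊥ := by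
          rw [Subgroup.commutator_comm S, h3 E hE, Subgroup.commutator_bot_left]
        have h11 : ⁅⁅T ⊓ E, rs p E⁆, S⁆ = ⊥ := Subgroup.commutator_commutator_eq_bot_of_rotate h9 h10
        rw [Subgroup.commutator_comm (T ⊓ E), hO] at h11
        rwa [Subgroup.commutator_eq_bot_iff_le_centralizer] at h11
      set W := sSup {W : Subgroup G | ∃ E ∈ K, W = rs p E} with hW
      have hWn : W.Normal := by
        rw [← Subgroup.normalizer_eq_top_iff, eq_top_iff]
        intro g _
        apply mem_normalizer_of_cj_le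
        rw [cj_le_iff]
        refine sSup_le ?_
        rintro _ ⟨E, hE, rfl⟩
        rw [← cj_le_iff, cj_rs]
        exact le_sSup ⟨_, h.inv g E hE, rfl⟩
      refine (hgen W hWn fun E hE => le_sSup ⟨E, hE, rfl⟩).trans (sSup_le ?_)
      rintro _ ⟨E, hE, rfl⟩
      exact h7 E hE
    refine pcl_of_syl hSN ?_
    nth_rewrite 1 [← syl_sup_rs hSN]
    refine sup_le Subgroup.le_normalizer ?_
    exact ((rs_mono le_top).trans h6).trans (Subgroup.centralizer_le_normalizer _)

end CfsgH7
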