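import Cfsg.Agent.H7.Fam2

set_option autoImplicit false
set_option linter.unusedSectionVars false

/-! Families of subgroups permuted transitively, III: passage to `H / O_p(H)`. -/

namespace CfsgH7

open Subgroup Cfsg
open scoped commutatorElement

variable {G : Type*} [Group G] {p : ℕ} [Finite G] [hp : Fact p.Prime]

theorem map_rs_quot (D : Subgroup G) [D.Normal] (X : Subgroup G) : (rs p X).map (QuotientGroup.mk' D) = rs p (X.map (QuotientGroup.mk' D)) := by
  apply le_antisymm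
  · nth_rewrite 1 [rs]
    rw [MonoidHom.map_closure, Subgroup.closure_le]
    rintro _ ⟨x, ⟨hxX, hx⟩, rfl⟩
    exact mem_rs ⟨x, hxX, rfl⟩ (Nat.Coprime.coprime_dvd_left (orderOf_map_dvd _ x) hx)
  · nth_rewrite 1 [rs]
    rw [Subgroup.closure_le]
    rintro _ ⟨⟨x, hx, rfl⟩, hy⟩
    obtain ⟨a, m, hm, hxm⟩ := Nat.exists_eq_pow_mul_and_not_dvd (orderOf_pos x).ne' p hp.out.ne_one
    obtain ⟨j, hj⟩ := exists_pow_eq_self_of_coprime (x := QuotientGroup.mk' D x) (n := p ^ a) (hy.pow_right a).symm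
    refine ⟨(x ^ p ^ a) ^ j, mem_rs (X.pow_mem (X.pow_mem hx _) _) ?_, ?_⟩
    · refine Nat.Coprime.coprime_dvd_left (orderOf_pow_dvd j) ?_
      rw [orderOf_pow, hxm, Nat.gcd_eq_right (Dvd.intro _ rfl), Nat.mul_div_cancel_left _ (pow_pos hp.out.pos a)]
      exact ((Nat.Prime.coprime_iff_not_dvd hp.out).mpr hm).symm
    · rw [map_pow, map_pow]; exact hj

omit [Finite G] in
theorem map_cj_quot {H : Type*} [Group H] (f : G →* H) (g : G) (E : Subgroup G) : (cj g E).map f = cj (f g) (E.map f) := by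
  ext y
  constructor
  · rintro ⟨x, hx, rfl⟩
    obtain ⟨e, he, rfl⟩ := hx
    refine ⟨f e, ⟨e, he, rfl⟩, ?_⟩
    simp [MulAut.conj_apply]
  · rintro ⟨_, ⟨e, he, rfl⟩, rfl⟩
    exact ⟨g * e * g⁻¹, conj_mem_cj he, by simp [MulAut.conj_apply]⟩

theorem spir_map {D : Subgroup G} [hDn : D.Normal] (hD : IsPGroup p ↥D) {E : Subgroup G} (hE : SPIr p E) : SPIr p (E.map (QuotientGroup.mk' D)) := by
  set π := QuotientGroup.mk' D with hπ
  have hπs : Function.Surjective π := QuotientGroup.mk'_surjective D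
  refine ⟨fun h => hE.1 ((pcl_quot hD).mp h), fun N hNE hn hc => ?_⟩
  set N' := E ⊓ N.comap π with hN'
  have hN'm : N'.map π = N := by
    apply le_antisymm
    · rintro _ ⟨x, hx, rfl⟩
      exact (Subgroup.mem_inf.mp hx).2
    · intro y hy
      obtain ⟨x, hx, rfl⟩ := hNE hy
      exact ⟨x, Subgroup.mem_inf.mpr ⟨hx, hy⟩, rfl⟩
  have hn' : E ≤ Subgroup.normalizer (N' : Set G) := by
    intro g hg
    apply mem_normalizer_of_cj_le
    rw [hN', cj_inf, cj_of_mem hg]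
    refine inf_le_inf_left _ ?_
    rw [← Subgroup.map_le_iff_le_comap, map_cj_quot, Subgroup.map_comap_eq_self_of_surjective hπs,
      cj_of_mem_normalizer (hn ⟨g, hg, rfl⟩)]
  have h1 := hE.2 N' inf_le_left hn' (by
    intro h2
    apply hc
    rw [← hN'm, ← Subgroup.map_commutator]
    exact (Subgroup.map_mono h2).trans (map_pCoreOf_le E))
  rw [← map_rs_quot, ← hN'm]
  exact Subgroup.map_mono h1

theorem S2855_irr {K : Set (Subgroup G)} (h : Fam p K) (hsp : ∀ E ∈ K, SPIr p E) :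
    PIr p (⊤ : Subgroup G) ∧ ∀ E ∈ K, ∀ F ∈ K, rs p (E ⊔ pCore p G) = rs p (F ⊔ pCore p G) ∨ ⁅E, F⁆ ≤ pCore p G := by
  have hDn : (pCore p G).Normal := pCore_normal' p G
  set D := pCore p G with hDdef
  have hD : IsPGroup p ↥D := CfsgH2.isPGroup_pCore p
  set π := QuotientGroup.mk' D with hπ
  have hπs : Function.Surjective π := QuotientGroup.mk'_surjective D
  have hker : π.ker = D := QuotientGroup.ker_mk' D
  have hDm : D.map π = ⊥ := by rw [Subgroup.map_eq_bot_iff, hker]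
  have hXm : ∀ X : Subgroup G, (X ⊔ D).map π = X.map π := by
    intro X; rw [Subgroup.map_sup, hDm, sup_bot_eq]
  set K' : Set (Subgroup (G ⧸ D)) := {W | ∃ E ∈ K, W = E.map π} with hK'
  have hle : (sSup K).map π ≤ sSup K' := by
    rw [Subgroup.map_le_iff_le_comap]
    refine sSup_le fun E hE => ?_
    rw [← Subgroup.map_le_iff_le_comap]
    exact le_sSup ⟨E, hE, rfl⟩
  have h1 : Fam1 p K' := by
    refine ⟨?_, ?_, ?_, ?_, ?_, ?_, ?_⟩
    · obtain ⟨E, hE⟩ := h.ne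
      exact ⟨_, E, hE, rfl⟩
    · rintro g _ ⟨E, hE, rfl⟩
      obtain ⟨g, rfl⟩ := hπs g
      exact ⟨cj g E, h.inv g E hE, (map_cj_quot π g E).symm⟩
    · rintro _ ⟨E, hE, rfl⟩ _ ⟨F, hF, rfl⟩
      obtain ⟨g, rfl⟩ := h.tr E hE F hF
      exact ⟨π g, map_cj_quot π g E⟩
    · rw [← map_rs_top D]
      exact (Subgroup.map_mono h.res).trans hle
    · rintro _ ⟨E, hE, rfl⟩
      refine sSup_le ?_
      rintro _ ⟨F, hF, rfl⟩
      rintro _ ⟨x, hx, rfl⟩
      have h2 := h.nor E hE (Subgroup.mem_sup_left ((le_sSup hF : F ≤ sSup K) hx))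
      rw [mem_normalizer_iff_cj] at h2 ⊢
      have h3 := congrArg (Subgroup.map π) h2
      rw [map_cj_quot] at h3
      change cj (π x) ((E ⊔ D).map π) = (E ⊔ D).map π at h3
      rwa [hXm] at h3
    · rintro _ ⟨E, hE, rfl⟩
      exact spir_map hD (hsp E hE)
    · have h2 := comap_pCore (p := p) hD
      rw [← Subgroup.map_comap_eq_self_of_surjective hπs (pCore p (G ⧸ D)), h2]
      exact hDm
  refine ⟨(pir_quot hD).mpr h1.pir, fun E hE F hF => ?_⟩
  rcases h1.dich ⟨E, hE, rfl⟩ ⟨F, hF, rfl⟩ with h2 | h2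
  · left
    have key : ∀ X : Subgroup G, rs p (rs p (X ⊔ D) ⊔ D) = rs p (X ⊔ D) := by
      intro X
      apply le_antisymm
      · exact rs_mono (sup_le (rs_le _) le_sup_right)
      · nth_rewrite 1 [← rs_rs (X ⊔ D)]
        exact rs_mono le_sup_left
    have h3 : (rs p (E ⊔ D)).map π = (rs p (F ⊔ D)).map π := by
      rw [map_rs_quot, map_rs_quot, hXm, hXm]; exact h2
    have h4 := congrArg (Subgroup.comap π) h3
    rw [Subgroup.comap_map_eq, Subgroup.comap_map_eq, hker] at h4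
    rw [← key E, h4, key F]
  · right
    rw [← Subgroup.map_commutator, Subgroup.map_eq_bot_iff, hker] at h2
    exact h2

theorem S2855_all (K : Set (Subgroup G)) (hne : K.Nonempty)
    (hinv : ∀ h : G, ∀ E ∈ K, E.map (MulAut.conj h).toMonoidHom ∈ K)
    (htr : ∀ E ∈ K, ∀ F ∈ K, ∃ h : G, F = E.map (MulAut.conj h).toMonoidHom)
    (hres : pResidual p G ≤ sSup K)
    (hnorm : ∀ E ∈ K, sSup K ⊔ pCore p G ≤ Subgroup.normalizer ((E ⊔ pCore p G : Subgroup G) : Set G)) :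
    ((∀ E ∈ K, ∀ T : Sylow p ↥E, IsMinimalOver (T : Subgroup ↥E)) → ∀ T : Sylow p G, IsMinimalOver (T : Subgroup G)) ∧
      ((∀ E ∈ K, IsStronglyPIrreducible p ↥E) → IsPIrreducible p G ∧ ∀ E ∈ K, ∀ F ∈ K,
        (pResidual p ↥(E ⊔ pCore p G)).map (E ⊔ pCore p G).subtype = (pResidual p ↥(F ⊔ pCore p G)).map (F ⊔ pCore p G).subtype ∨
          ⁅E, F⁆ ≤ pCore p G) := by
  have h : Fam p K := ⟨hne, hinv, htr, by rw [← pResidual_eq_rs]; exact hres, hnorm⟩
  refine ⟨fun hmin T => h.pmin hmin T, fun hsp => ?_⟩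
  obtain ⟨h1, h2⟩ := S2855_irr h fun E hE => spir_iff.mp (hsp E hE)
  refine ⟨pir_top_iff.mpr h1, fun E hE F hF => ?_⟩
  have hr : ∀ X : Subgroup G, (pResidual p ↥X).map X.subtype = rs p X := by
    intro X
    rw [pResidual_eq_rs, map_rs, ← MonoidHom.range_eq_map, Subgroup.range_subtype]
  rw [hr, hr]
  exact h2 E hE F hF

end CfsgH7
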