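import Cfsg.Agent.H7.FrakM2
import Cfsg.Agent.H1.CopExtra

set_option autoImplicit false
set_option linter.unusedSectionVars false

/-! `[Y, A] ≤ [I, A]`. -/

namespace CfsgH7

open Subgroup Cfsg CfsgH3
open scoped commutatorElement

variable {G : Type*} [Group G] {p : ℕ} [Finite G] [hp : Fact p.Prime]

/-- `p'`-elements acting trivially on `A/A'` -/
theorem cent_of_comm {A : Subgroup G} (hA : IsPGroup p ↥A) {x : G} (hx : x ∈ Subgroup.normalizer (A : Set G)) (hxo : (orderOf x).Coprime p)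
    (h : ∀ a ∈ A, x * a * x⁻¹ * a⁻¹ ∈ ⁅A, A⁆) : x ∈ Subgroup.centralizer (A : Set G) := by
  have hn : Subgroup.zpowers x ≤ Subgroup.normalizer (A : Set G) := by rw [Subgroup.zpowers_le]; exact hx
  have hAA : A ≤ Subgroup.normalizer ((⁅A, A⁆ : Subgroup G) : Set G) := Subgroup.normalizer_commutator_ge_left _ _
  have hxAA : x ∈ Subgroup.normalizer ((⁅A, A⁆ : Subgroup G) : Set G) := by
    rw [mem_normalizer_iff_cj, cj_commutator, cj_of_mem_normalizer hx]
  haveI := hA.isNilpotent
  have h1 : ⁅A, A⁆ ≤ (frattini ↥A).map A.subtype := by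
    have h2 := Subgroup.map_mono (f := A.subtype) (CfsgH1.commutator_le_frattini (G := ↥A))
    rw [commutator_def, Subgroup.map_commutator, ← MonoidHom.range_eq_map, Subgroup.range_subtype] at h2
    exact h2
  have h2 := CfsgH1.coprime_trivial_of_frattini hn (by
    obtain ⟨k, hk⟩ := IsPGroup.iff_card.mp (hA.to_subgroup (frattini ↥A))
    rw [Nat.card_zpowers, hk]; exact hxo.pow_right k) (fun a ha v hv => h1 ((le_actTriv (V := A) (N := ⁅A, A⁆) (X := Subgroup.zpowers x) hn (by
      rw [Subgroup.zpowers_le]; exact hxAA) ?_ ha).2.2 v hv))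
  · rw [Subgroup.zpowers_le] at h2; exact h2
  · apply comm_le_of_actTriv
    rw [Subgroup.zpowers_le]
    exact mem_actTriv.mpr ⟨hx, hxAA, h⟩

theorem frakM_I {S : Sylow p G} (hG : IsOfParabolicCharacteristic p G) {M : Subgroup G} (hSM : (S : Subgroup G) ≤ M) (hM : IsInFrakM p M)
    {I Y L A : Subgroup G} (hI1 : I ≠ ⊥) (hIp : IsPGroup p ↥I) (hIM : I ≤ M) (hMI : M ≤ Subgroup.normalizer (I : Set G))
    (hY : Y ≤ pCoreOf p (M ⊔ Subgroup.centralizer (largestPReducedOf p M : Set G))) (hYL : Y ≤ L) (hAp : IsPGroup p ↥A) (hAL : A ≤ L)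
    (hLA : L ≤ Subgroup.normalizer (A : Set G)) (hIA : I ≤ A) (hc : ⁅Y, A⁆ ≤ ⁅I, A⁆) : Y ≤ pCoreOf p L := by
  set N := M ⊔ Subgroup.centralizer (largestPReducedOf p M : Set G) with hN
  have hYp : IsPGroup p ↥Y := (isPGroup_pCoreOf p N).to_le hY
  set X := clo L Y with hX
  have hYX : Y ≤ X := le_clo L Y
  have hXL : X ≤ L := clo_le fun g hg => (cj_mono hYL).trans (cj_of_mem hg).le
  have hLX : L ≤ Subgroup.normalizer (X : Set G) := le_normalizer_clo L Y
  have hLAA : L ≤ Subgroup.normalizer ((⁅A, A⁆ : Subgroup G) : Set G) := by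
    intro g hg
    rw [mem_normalizer_iff_cj, cj_commutator, cj_of_mem_normalizer (hLA hg)]
  have hXA : X ≤ actTriv A ⁅A, A⁆ := by
    refine clo_le fun g hg => ?_
    rw [← cj_of_mem_normalizer (normalizer_actTriv (hLA hg) (hLAA hg))]
    refine cj_mono (le_actTriv (hYL.trans hLA) (hYL.trans hLAA) ?_)
    rw [Subgroup.commutator_comm]
    exact hc.trans (Subgroup.commutator_mono hIA le_rfl)
  set R := rs p X with hR
  have hRA : R ≤ Subgroup.centralizer (A : Set G) := by
    rw [hR]; unfold rs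
    rw [Subgroup.closure_le]
    rintro x ⟨hx, hxo⟩
    exact cent_of_comm hAp (hLA (hXL hx)) hxo (hXA hx).2.2
  have hIN : Subgroup.normalizer (I : Set G) ≤ N :=
    frakM_le hM (par_mem (T := S) hG (hSM.trans hMI) (ne_core_of hIp hI1 Subgroup.le_normalizer le_rfl)) hMI
  have hRN : R ≤ N := hRA.trans ((Subgroup.centralizer_le hIA).trans ((Subgroup.centralizer_le_normalizer _).trans hIN))
  have hLR : L ≤ Subgroup.normalizer (R : Set G) := hLX.trans (le_normalizer_rs X)
  have hLOR : L ≤ Subgroup.normalizer (pCoreOf p R : Set G) := by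
    intro g hg
    rw [mem_normalizer_iff_cj, cj_pCoreOf, cj_of_mem_normalizer (hLR hg)]
  have hRY : ⁅R, Y⁆ ≤ pCoreOf p R := by
    have h1 : ⁅R, Y⁆ ≤ R ⊓ pCoreOf p N := by
      refine le_inf ?_ ?_
      · rw [← Subgroup.le_normalizer_iff_commutator_le_left]; exact hYL.trans hLR
      · refine (Subgroup.commutator_mono le_rfl hY).trans ?_
        rw [Subgroup.commutator_comm, ← Subgroup.le_normalizer_iff_commutator_le_left]
        exact hRN.trans (le_normalizer_pCoreOf p N)
    refine h1.trans (le_pCoreOf inf_le_left ?_ ((isPGroup_pCoreOf p N).to_le inf_le_right))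
    intro g hg
    rw [mem_normalizer_iff_cj, cj_inf, cj_of_mem hg, cj_of_mem_normalizer (le_normalizer_pCoreOf p N (hRN hg))]
  have hXR : X ≤ actTriv R (pCoreOf p R) := by
    refine clo_le fun g hg => ?_
    rw [← cj_of_mem_normalizer (normalizer_actTriv (hLR hg) (hLOR hg))]
    exact cj_mono (le_actTriv (hYL.trans hLR) (hYL.trans hLOR) hRY)
  have hRX : ⁅R, X⁆ ≤ pCoreOf p R := comm_le_of_actTriv hXR
  have hORX : pCoreOf p R ≤ pCoreOf p X := core_mono_normal (rs_le X) (hXL.trans hLR)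
  obtain ⟨T, hT⟩ := exists_isSyl p X
  have hXT : X ≤ Subgroup.normalizer (T : Set G) := by
    rw [← syl_sup_rs hT]
    refine sup_le Subgroup.le_normalizer ?_
    rw [Subgroup.le_normalizer_iff_commutator_le_left, Subgroup.commutator_comm]
    exact (Subgroup.commutator_mono le_rfl hT.le).trans (hRX.trans (hORX.trans (core_le_syl hT)))
  have h1 := pcl_of_syl hT hXT Y hYX hYp
  exact h1.trans (core_mono_normal hXL hLX)

end CfsgH7
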