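import Cfsg.Agent.H7.FrakH
import Cfsg.Agent.H3.Baer

set_option autoImplicit false
set_option linter.unusedSectionVars false

/-! Minimal subgroups `L` of members of `ℌ`. -/

namespace CfsgH7

open Subgroup Cfsg CfsgH3
open scoped commutatorElement

variable {G : Type*} [Group G] {p : ℕ}

/-- fixed points of `X` on `V` modulo `W` -/
def fixm (V W X : Subgroup G) : Subgroup G where
  carrier := {v | v ∈ V ∧ v ∈ Subgroup.normalizer (W : Set G) ∧ ∀ x ∈ X, x * v * x⁻¹ * v⁻¹ ∈ W}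
  one_mem' := ⟨one_mem _, one_mem _, fun x _ => by
    have : x * 1 * x⁻¹ * 1⁻¹ = 1 := by group
    rw [this]; exact one_mem _⟩
  mul_mem' := by
    rintro v w ⟨hv1, hv2, hv3⟩ ⟨hw1, hw2, hw3⟩
    refine ⟨mul_mem hv1 hw1, mul_mem hv2 hw2, fun x hx => ?_⟩
    have h1 := (Subgroup.mem_normalizer_iff.mp hv2 _).mp (hw3 x hx)
    have e : x * (v * w) * x⁻¹ * (v * w)⁻¹ = (x * v * x⁻¹ * v⁻¹) * (v * (x * w * x⁻¹ * w⁻¹) * v⁻¹) := by group
    rw [e]; exact mul_mem (hv3 x hx) h1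
  inv_mem' := by
    rintro v ⟨hv1, hv2, hv3⟩
    refine ⟨inv_mem hv1, inv_mem hv2, fun x hx => ?_⟩
    have h1 := (Subgroup.mem_normalizer_iff.mp (inv_mem hv2) _).mp (inv_mem (hv3 x hx))
    have e : x * v⁻¹ * x⁻¹ * v⁻¹⁻¹ = v⁻¹ * (x * v * x⁻¹ * v⁻¹)⁻¹ * v⁻¹⁻¹ := by group
    rw [e]; exact h1

theorem mem_fixm {V W X : Subgroup G} {v : G} : v ∈ fixm V W X ↔ v ∈ V ∧ v ∈ Subgroup.normalizer (W : Set G) ∧ ∀ x ∈ X, x * v * x⁻¹ * v⁻¹ ∈ W := Iff.rfl

theorem fixm_le {V W X : Subgroup G} : fixm V W X ≤ V := fun _ h => h.1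

theorem fixm_anti {V W X X' : Subgroup G} (h : X ≤ X') : fixm V W X' ≤ fixm V W X := fun _ hv => ⟨hv.1, hv.2.1, fun x hx => hv.2.2 x (h hx)⟩

/-- stabilizer of an element modulo `W` -/
theorem fix_closure {W X Y : Subgroup G} {v : G} (hX : X ≤ Subgroup.normalizer (W : Set G)) (hY : Y ≤ Subgroup.normalizer (W : Set G))
    (h1 : ∀ x ∈ X, x * v * x⁻¹ * v⁻¹ ∈ W) (h2 : ∀ x ∈ Y, x * v * x⁻¹ * v⁻¹ ∈ W) : ∀ x ∈ X ⊔ Y, x * v * x⁻¹ * v⁻¹ ∈ W := by
  let S : Subgroup G :=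
    { carrier := {x | x ∈ Subgroup.normalizer (W : Set G) ∧ x * v * x⁻¹ * v⁻¹ ∈ W}
      one_mem' := ⟨one_mem _, by
        have : (1 : G) * v * 1⁻¹ * v⁻¹ = 1 := by group
        rw [this]; exact one_mem _⟩
      mul_mem' := by
        rintro x y ⟨hx1, hx2⟩ ⟨hy1, hy2⟩
        refine ⟨mul_mem hx1 hy1, ?_⟩
        have h1 := (Subgroup.mem_normalizer_iff.mp hx1 _).mp hy2
        have e : x * y * v * (x * y)⁻¹ * v⁻¹ = (x * (y * v * y⁻¹ * v⁻¹) * x⁻¹) * (x * v * x⁻¹ * v⁻¹) := by group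
        rw [e]; exact mul_mem h1 hx2
      inv_mem' := by
        rintro x ⟨hx1, hx2⟩
        refine ⟨inv_mem hx1, ?_⟩
        have h1 := (Subgroup.mem_normalizer_iff.mp (inv_mem hx1) _).mp (inv_mem hx2)
        have e : x⁻¹ * v * x⁻¹⁻¹ * v⁻¹ = x⁻¹ * (x * v * x⁻¹ * v⁻¹)⁻¹ * x⁻¹⁻¹ := by group
        rw [e]; exact h1 }
  have h3 : X ⊔ Y ≤ S := sup_le (fun x hx => ⟨hX hx, h1 x hx⟩) (fun x hx => ⟨hY hx, h2 x hx⟩)
  exact fun x hx => (h3 hx).2

theorem fixm_sup {V W X Y : Subgroup G} (hX : X ≤ Subgroup.normalizer (W : Set G)) (hY : Y ≤ Subgroup.normalizer (W : Set G)) :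
    fixm V W X ⊓ fixm V W Y ≤ fixm V W (X ⊔ Y) := by
  intro v hv
  obtain ⟨⟨h1, h2, h3⟩, h4⟩ := Subgroup.mem_inf.mp hv
  exact ⟨h1, h2, fix_closure hX hY h3 h4.2.2⟩

theorem cj_fixm {V W X : Subgroup G} {g : G} (hV : g ∈ Subgroup.normalizer (V : Set G)) (hW : g ∈ Subgroup.normalizer (W : Set G)) :
    cj g (fixm V W X) = fixm V W (cj g X) := by
  have key : ∀ (g : G) (X : Subgroup G), g ∈ Subgroup.normalizer (V : Set G) → g ∈ Subgroup.normalizer (W : Set G) → cj g (fixm V W X) ≤ fixm V W (cj g X) := by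
    intro g X hV hW v hv
    obtain ⟨h1, h2, h3⟩ := mem_cj.mp hv
    refine ⟨?_, ?_, fun x hx => ?_⟩
    · have := (Subgroup.mem_normalizer_iff.mp hV _).mp h1
      have e : g * (g⁻¹ * v * g) * g⁻¹ = v := by group
      rwa [e] at this
    · have := mul_mem (mul_mem hW h2) (inv_mem hW)
      have e : g * (g⁻¹ * v * g) * g⁻¹ = v := by group
      rwa [e] at this
    · have h4 := h3 _ (mem_cj.mp hx)
      have h5 := (Subgroup.mem_normalizer_iff.mp hW _).mp h4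
      have e : g * (g⁻¹ * x * g * (g⁻¹ * v * g) * (g⁻¹ * x * g)⁻¹ * (g⁻¹ * v * g)⁻¹) * g⁻¹ = x * v * x⁻¹ * v⁻¹ := by group
      rwa [e] at h5
  apply le_antisymm (key g X hV hW)
  have h1 := cj_mono (g := g) (key g⁻¹ (cj g X) (inv_mem hV) (inv_mem hW))
  rwa [cj_cj_inv, cj_inv_cj] at h1

variable [Finite G] [hp : Fact p.Prime]

/-- `p`-groups act nilpotently -/
theorem pcomm_le {S V W : Subgroup G} (hS : IsPGroup p ↥S) (hVS : V ≤ S) (hSW : S ≤ Subgroup.normalizer (W : Set G)) (h : V ≤ ⁅V, S⁆ ⊔ W) : V ≤ W := by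
  have hnS : ∀ n : ℕ, Subgroup.lowerCentralSeries S n ≤ S := by
    intro n
    have := Subgroup.lowerCentralSeries_antitone S (Nat.zero_le n)
    exact this
  have key : ∀ n : ℕ, V ≤ Subgroup.lowerCentralSeries S n ⊔ W := by
    intro n
    induction n with
    | zero => exact hVS.trans le_sup_left
    | succ n ih =>
      refine h.trans (sup_le ?_ le_sup_right)
      rw [Subgroup.commutator_le]
      intro v hv s hs
      obtain ⟨c, hc, w, hw, rfl⟩ := (CfsgH1.mem_sup_of_le_normalizer ((hnS n).trans hSW)).1 (ih hv)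
      have e : ⁅c * w, s⁆ = (c * ⁅w, s⁆ * c⁻¹) * ⁅c, s⁆ := by simp only [commutatorElement_def]; group
      rw [e]
      refine mul_mem (Subgroup.mem_sup_right ?_) (Subgroup.mem_sup_left ?_)
      · refine (Subgroup.mem_normalizer_iff.mp (hSW (hnS n hc)) _).mp ?_
        have : ⁅W, S⁆ ≤ W := by rw [← Subgroup.le_normalizer_iff_commutator_le_left]; exact hSW
        exact this (Subgroup.commutator_mem_commutator hw hs)
      · rw [Subgroup.lowerCentralSeries_succ]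
        exact Subgroup.commutator_mem_commutator hc hs
  obtain ⟨n, hn⟩ := (Subgroup.isNilpotent_iff_lowerCentralSeries (S := S)).mp hS.isNilpotent
  have := key n
  rwa [hn, bot_sup_eq] at this

/-- noncentral chief factors of `H` inside `O_p(H)` -/
structure CF (p : ℕ) (H V W : Subgroup G) : Prop where
  VD : V ≤ pCoreOf p H
  HV : H ≤ Subgroup.normalizer (V : Set G)
  HW : H ≤ Subgroup.normalizer (W : Set G)
  WV : W ≤ V
  min : ∀ Z : Subgroup G, H ≤ Subgroup.normalizer (Z : Set G) → W ≤ Z → Z ≤ V → Z = W ∨ Z = V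
  nc : ¬ ⁅V, H⁆ ≤ W

theorem comm_sup_norm {H V W X : Subgroup G} (hV : H ≤ Subgroup.normalizer (V : Set G)) (hW : H ≤ Subgroup.normalizer (W : Set G))
    (hX : H ≤ Subgroup.normalizer (X : Set G)) : H ≤ Subgroup.normalizer ((⁅V, X⁆ ⊔ W : Subgroup G) : Set G) := by
  intro g hg
  rw [mem_normalizer_iff_cj, cj_sup, cj_commutator, cj_of_mem_normalizer (hV hg), cj_of_mem_normalizer (hX hg), cj_of_mem_normalizer (hW hg)]

theorem CF.core {H V W : Subgroup G} (h : CF p H V W) : ⁅V, pCoreOf p H⁆ ≤ W := by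
  set D := pCoreOf p H with hD
  have hDH : D ≤ H := pCoreOf_le p H
  have hVH : V ≤ H := h.VD.trans hDH
  rcases h.min (⁅V, D⁆ ⊔ W) (comm_sup_norm h.HV h.HW (le_normalizer_pCoreOf p H)) le_sup_right (sup_le (by
    rw [← Subgroup.le_normalizer_iff_commutator_le_left]; exact hDH.trans h.HV) h.WV) with h1 | h1
  · rw [← h1]; exact le_sup_left
  · exfalso
    have h2 := pcomm_le (isPGroup_pCoreOf p H) h.VD (hDH.trans h.HW) h1.ge
    apply h.nc
    refine (Subgroup.commutator_mono h2 le_rfl).trans ?_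
    rw [← Subgroup.le_normalizer_iff_commutator_le_left]; exact h.HW

/-- the configuration -/
structure HL (p : ℕ) (Y P H L : Subgroup G) (g : G) : Prop where
  YP : Y ≤ P
  PC : P ≤ Subgroup.centralizer (Y : Set G)
  pp : IsPGroup p ↥P
  DY : pCoreOf p H ≤ Subgroup.normalizer (Y : Set G)
  LH : L ≤ H
  PH : P ≤ H
  YL : Y ≤ L
  gL : g ∈ L
  gen : Y ⊔ cj g Y = L
  sup : L ⊔ P = H

theorem HL.symm {Y P H L : Subgroup G} {g : G} (h : HL p Y P H L g) : HL p Y P H L g⁻¹ :=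
  ⟨h.YP, h.PC, h.pp, h.DY, h.LH, h.PH, h.YL, inv_mem h.gL, by
    have := congrArg (cj g⁻¹) h.gen
    rwa [cj_sup, cj_inv_cj, cj_of_mem (inv_mem h.gL), sup_comm] at this, h.sup⟩

section
variable {Y P H L V W : Subgroup G} {g : G}

theorem HL.H_eq (h : HL p Y P H L g) : cj g Y ⊔ P = H := by
  rw [← h.sup, ← h.gen, sup_assoc, sup_comm Y, sup_assoc, sup_eq_left.mpr h.YP]

theorem HL.YC (h : HL p Y P H L g) : Y ≤ Subgroup.centralizer (Y : Set G) := h.YP.trans h.PC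

theorem HL.gYH (h : HL p Y P H L g) : cj g Y ≤ H := by rw [← h.H_eq]; exact le_sup_left

theorem HL.comm_le (h : HL p Y P H L g) (c : CF p H V W) : ⁅V, Y⁆ ≤ Y := by
  rw [Subgroup.commutator_comm, ← Subgroup.le_normalizer_iff_commutator_le_left]
  exact c.VD.trans h.DY

/-- `A = [V, Y] W` is centralized by `P` modulo `W` -/
theorem HL.A_fix (h : HL p Y P H L g) (c : CF p H V W) : ⁅V, Y⁆ ⊔ W ≤ fixm V W P := by
  have hYH : Y ≤ H := h.YP.trans h.PH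
  have hVW : V ≤ Subgroup.normalizer (W : Set G) := (c.VD.trans (pCoreOf_le p H)).trans c.HW
  have hcV : ⁅V, Y⁆ ≤ V := by rw [← Subgroup.le_normalizer_iff_commutator_le_left]; exact hYH.trans c.HV
  refine sup_le ?_ ?_
  · intro z hz
    refine ⟨hcV hz, hVW (hcV hz), fun x hx => ?_⟩
    have h1 : z * x = x * z := (Subgroup.mem_centralizer_iff.mp (h.PC hx) z (h.comm_le c hz))
    have e : x * z * x⁻¹ * z⁻¹ = 1 := by rw [← h1]; group
    rw [e]; exact one_mem _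
  · intro z hz
    refine ⟨c.WV hz, Subgroup.le_normalizer hz, fun x hx => ?_⟩
    exact mul_mem ((Subgroup.mem_normalizer_iff.mp (c.HW (h.PH hx)) _).mp hz) (inv_mem hz)

theorem CF.fix_H (c : CF p H V W) : fixm V W H = W := by
  have hVW : V ≤ Subgroup.normalizer (W : Set G) := (c.VD.trans (pCoreOf_le p H)).trans c.HW
  rcases c.min (fixm V W H) (fun g hg => by
    rw [mem_normalizer_iff_cj, cj_fixm (c.HV hg) (c.HW hg), cj_of_mem hg]) (fun z hz => ⟨c.WV hz, Subgroup.le_normalizer hz, fun x hx =>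
      mul_mem ((Subgroup.mem_normalizer_iff.mp (c.HW hx) _).mp hz) (inv_mem hz)⟩) fixm_le with h1 | h1
  · exact h1
  · exfalso
    apply c.nc
    rw [Subgroup.commutator_le]
    intro v hv x hx
    rw [← h1] at hv
    have h2 := inv_mem (hv.2.2 x hx)
    have e : (x * v * x⁻¹ * v⁻¹)⁻¹ = ⁅v, x⁆ := by rw [commutatorElement_def]; group
    rwa [e] at h2

theorem HL.inter (h : HL p Y P H L g) (c : CF p H V W) : (⁅V, Y⁆ ⊔ W) ⊓ fixm V W (cj g Y) ≤ W := by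
  have h1 := fixm_sup (V := V) (h.gYH.trans c.HW) (h.PH.trans c.HW)
  rw [h.H_eq, c.fix_H] at h1
  refine le_trans (le_inf inf_le_right (inf_le_left.trans (h.A_fix c))) h1

theorem HL.comm_fix (h : HL p Y P H L g) (c : CF p H V W) : ⁅V, P⁆ ≤ fixm V W Y := by
  have hVW : V ≤ Subgroup.normalizer (W : Set G) := (c.VD.trans (pCoreOf_le p H)).trans c.HW
  have hcV : ⁅V, P⁆ ≤ V := by rw [← Subgroup.le_normalizer_iff_commutator_le_left]; exact h.PH.trans c.HV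
  have h1 : ⁅⁅V, P⁆, Y⁆ = ⊥ := by
    apply Subgroup.commutator_commutator_eq_bot_of_rotate
    · rw [(Subgroup.commutator_eq_bot_iff_le_centralizer).mpr h.PC, Subgroup.commutator_bot_left]
    · rw [Subgroup.commutator_comm Y V]
      rw [Subgroup.commutator_eq_bot_iff_le_centralizer]
      exact (h.comm_le c).trans (Subgroup.le_centralizer_iff.mp h.PC)
  rw [Subgroup.commutator_eq_bot_iff_le_centralizer] at h1
  intro z hz
  refine ⟨hcV hz, hVW (hcV hz), fun x hx => ?_⟩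
  have h2 : x * z = z * x := Subgroup.mem_centralizer_iff.mp (h1 hz) x hx
  have e : x * z * x⁻¹ * z⁻¹ = 1 := by rw [h2]; group
  rw [e]; exact one_mem _

theorem HL.A_le (h : HL p Y P H L g) (c : CF p H V W) : ⁅V, Y⁆ ⊔ W ≤ fixm V W Y := (h.A_fix c).trans (fixm_anti h.YP)

theorem norm_of_comm {X Z A V : Subgroup G} (hZV : Z ≤ V) (hVX : ⁅V, X⁆ ≤ A) (hAZ : A ≤ Z) : X ≤ Subgroup.normalizer (Z : Set G) := by
  rw [Subgroup.le_normalizer_iff_commutator_le_left]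
  exact (Subgroup.commutator_mono hZV le_rfl).trans (hVX.trans hAZ)

theorem cj_A (hgV : g ∈ Subgroup.normalizer (V : Set G)) (hgW : g ∈ Subgroup.normalizer (W : Set G)) : cj g (⁅V, Y⁆ ⊔ W) = ⁅V, cj g Y⁆ ⊔ W := by
  rw [cj_sup, cj_commutator, cj_of_mem_normalizer hgV, cj_of_mem_normalizer hgW]

theorem HL.V_eq (h : HL p Y P H L g) (c : CF p H V W) : V ≤ (⁅V, cj g Y⁆ ⊔ W) ⊔ fixm V W Y := by
  have hgH : g ∈ H := h.LH h.gL
  set Z := (⁅V, cj g Y⁆ ⊔ W) ⊔ ⁅V, P⁆ with hZ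
  have hcV : ⁅V, P⁆ ≤ V := by rw [← Subgroup.le_normalizer_iff_commutator_le_left]; exact h.PH.trans c.HV
  have hgV : ⁅V, cj g Y⁆ ≤ V := by rw [← Subgroup.le_normalizer_iff_commutator_le_left]; exact h.gYH.trans c.HV
  have hZV : Z ≤ V := sup_le (sup_le hgV c.WV) hcV
  have hHZ : H ≤ Subgroup.normalizer (Z : Set G) := by
    rw [← h.H_eq]
    exact sup_le (norm_of_comm hZV le_rfl (le_sup_left.trans le_sup_left)) (norm_of_comm hZV le_rfl le_sup_right)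
  rcases c.min Z hHZ (le_sup_right.trans le_sup_left) hZV with h1 | h1
  · exfalso
    apply c.nc
    rw [← h.H_eq]
    refine comm_sup_le (h.gYH.trans c.HV) (h.gYH.trans c.HW) ?_ (h.PH.trans c.HV) (h.PH.trans c.HW) ?_
    · rw [← h1]; exact le_sup_left.trans le_sup_left
    · rw [← h1]; exact le_sup_right
  · exact h1.ge.trans (sup_le_sup_left (h.comm_fix c) _)

/-- `V = A C^g` -/
theorem HL.V_eq' (h : HL p Y P H L g) (c : CF p H V W) : V ≤ (⁅V, Y⁆ ⊔ W) ⊔ fixm V W (cj g Y) := by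
  have hgH : g ∈ H := h.LH h.gL
  have h1 := cj_mono (g := g) (h.symm.V_eq c)
  rw [cj_sup, cj_A (c.HV hgH) (c.HW hgH), cj_cj_inv, cj_fixm (c.HV hgH) (c.HW hgH), cj_of_mem_normalizer (c.HV hgH)] at h1
  exact h1

theorem CF.norm (c : CF p H V W) {Z : Subgroup G} (hWZ : W ≤ Z) (hZV : Z ≤ V) : V ≤ Subgroup.normalizer (Z : Set G) := by
  rw [Subgroup.le_normalizer_iff_commutator_le_left]
  exact ((Subgroup.commutator_mono hZV c.VD).trans c.core).trans hWZ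

theorem CF.W_le_fixm (c : CF p H V W) {X : Subgroup G} (hX : X ≤ H) : W ≤ fixm V W X := fun z hz =>
  ⟨c.WV hz, Subgroup.le_normalizer hz, fun x hx => mul_mem ((Subgroup.mem_normalizer_iff.mp (c.HW (hX hx)) _).mp hz) (inv_mem hz)⟩

/-- `C = A Z`, `Z` the fixed points of `L` -/
theorem HL.C_eq (h : HL p Y P H L g) (c : CF p H V W) : fixm V W Y ≤ (⁅V, Y⁆ ⊔ W) ⊔ fixm V W L := by
  have hYH : Y ≤ H := h.YP.trans h.PH
  intro v hv
  have h1 := h.V_eq' c hv.1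
  have hAV : ⁅V, Y⁆ ⊔ W ≤ V := (h.A_le c).trans fixm_le
  have hn : ⁅V, Y⁆ ⊔ W ≤ Subgroup.normalizer (fixm V W (cj g Y) : Set G) :=
    hAV.trans (c.norm (c.W_le_fixm h.gYH) fixm_le)
  obtain ⟨a, ha, z, hz, rfl⟩ := (CfsgH1.mem_sup_of_le_normalizer hn).1 h1
  refine mul_mem (Subgroup.mem_sup_left ha) (Subgroup.mem_sup_right ?_)
  have hz2 : z ∈ fixm V W Y := by
    have := mul_mem (inv_mem (h.A_le c ha)) hv
    rwa [inv_mul_cancel_left] at this
  rw [← h.gen]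
  exact fixm_sup (hYH.trans c.HW) (h.gYH.trans c.HW) (Subgroup.mem_inf.mpr ⟨hz2, hz⟩)

/-- the intersection of `[V, L]` and `C_V(L)` -/
theorem HL.U_inter (h : HL p Y P H L g) (c : CF p H V W) : ((⁅V, Y⁆ ⊔ W) ⊔ (⁅V, cj g Y⁆ ⊔ W)) ⊓ fixm V W L ≤ W := by
  have hgH : g ∈ H := h.LH h.gL
  have hAV : ⁅V, Y⁆ ⊔ W ≤ V := (h.A_le c).trans fixm_le
  have hA'V : ⁅V, cj g Y⁆ ⊔ W ≤ V := by
    have := cj_mono (g := g) hAV
    rwa [cj_A (c.HV hgH) (c.HW hgH), cj_of_mem_normalizer (c.HV hgH)] at this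
  have hA' : ⁅V, cj g Y⁆ ⊔ W ≤ fixm V W (cj g Y) := by
    have := cj_mono (g := g) (h.A_le c)
    rwa [cj_A (c.HV hgH) (c.HW hgH), cj_fixm (c.HV hgH) (c.HW hgH)] at this
  have hint' : (⁅V, cj g Y⁆ ⊔ W) ⊓ fixm V W Y ≤ W := by
    have := cj_mono (g := g) (h.symm.inter c)
    rwa [cj_inf, cj_A (c.HV hgH) (c.HW hgH), cj_fixm (c.HV hgH) (c.HW hgH), cj_cj_inv, cj_of_mem_normalizer (c.HW hgH)] at this
  intro z hz
  obtain ⟨hz1, hz2⟩ := Subgroup.mem_inf.mp hz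
  obtain ⟨a, ha, b, hb, rfl⟩ := (CfsgH1.mem_sup_of_le_normalizer (hAV.trans (c.norm le_sup_right hA'V))).1 hz1
  have ha2 : a ∈ W := by
    apply h.inter c
    refine Subgroup.mem_inf.mpr ⟨ha, ?_⟩
    have h3 : a * b ∈ fixm V W (cj g Y) := fixm_anti (by rw [← h.gen]; exact le_sup_right) hz2
    have := mul_mem h3 (inv_mem (hA' hb))
    rwa [mul_inv_cancel_right] at this
  have hb2 : b ∈ W := by
    apply hint'
    refine Subgroup.mem_inf.mpr ⟨hb, ?_⟩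
    have h3 : a * b ∈ fixm V W Y := fixm_anti (by rw [← h.gen]; exact le_sup_left) hz2
    have := mul_mem (inv_mem (h.A_le c ha)) h3
    rwa [inv_mul_cancel_left] at this
  exact mul_mem ha2 hb2


/-- `L` normalizes `[V, L]` -/
theorem HL.U_norm (h : HL p Y P H L g) (c : CF p H V W) : L ≤ Subgroup.normalizer (((⁅V, Y⁆ ⊔ W) ⊔ (⁅V, cj g Y⁆ ⊔ W) : Subgroup G) : Set G) := by
  have hgH : g ∈ H := h.LH h.gL
  have hAV : ⁅V, Y⁆ ⊔ W ≤ V := (h.A_le c).trans fixm_le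
  have hA'V : ⁅V, cj g Y⁆ ⊔ W ≤ V := by
    have := cj_mono (g := g) hAV
    rwa [cj_A (c.HV hgH) (c.HW hgH), cj_of_mem_normalizer (c.HV hgH)] at this
  nth_rewrite 1 [← h.gen]
  exact sup_le (norm_of_comm (sup_le hAV hA'V) le_rfl (le_sup_left.trans le_sup_left)) (norm_of_comm (sup_le hAV hA'V) le_rfl (le_sup_left.trans le_sup_right))

/-- commuting conjugates have the same commutator space -/
theorem HL.cj_A_eq (h : HL p Y P H L g) (c : CF p H V W) (hP : IsSyl p P (Subgroup.centralizer (Y : Set G))) {b : G} (hb : b ∈ L)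
    (hcomm : cj b Y ≤ Subgroup.centralizer (Y : Set G)) : cj b (⁅V, Y⁆ ⊔ W) = ⁅V, Y⁆ ⊔ W := by
  have hbH : b ∈ H := h.LH hb
  have hYH : Y ≤ H := h.YP.trans h.PH
  set A := ⁅V, Y⁆ ⊔ W with hA
  have hAV : A ≤ V := (h.A_le c).trans fixm_le
  have hYbH : cj b Y ≤ H := (cj_mono hYH).trans (cj_of_mem hbH).le
  -- `Y^b` is in a conjugate of `P`
  have hP' : IsSyl p P (H ⊓ Subgroup.centralizer (Y : Set G)) := hP.mono (le_inf h.PH h.PC) inf_le_right
  obtain ⟨y, hy, hyP⟩ := hP'.exists_conj_le (isPGroup_cj b (h.pp.to_le h.YP)) (le_inf hYbH hcomm)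
  obtain ⟨hyH, hyC⟩ := Subgroup.mem_inf.mp hy
  have hyY : cj y Y = Y := cj_of_mem_normalizer (Subgroup.centralizer_le_normalizer _ hyC)
  have h1 : A ≤ fixm V W (cj b Y) := by
    have h2 : A ≤ fixm V W (cj y (cj b Y)) := (h.A_fix c).trans (fixm_anti hyP)
    have h3 := cj_mono (g := y⁻¹) h2
    rw [cj_fixm (inv_mem (c.HV hyH)) (inv_mem (c.HW hyH)), cj_inv_cj] at h3
    have h4 : cj y⁻¹ A = A := by
      rw [hA, cj_A (inv_mem (c.HV hyH)) (inv_mem (c.HW hyH))]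
      have h5 := congrArg (cj y⁻¹) hyY
      rw [cj_inv_cj] at h5
      rw [← h5]
    rwa [h4] at h3
  -- `C^b = A^b Z`
  have h2 : fixm V W (cj b Y) ≤ cj b A ⊔ fixm V W L := by
    have := cj_mono (g := b) (h.C_eq c)
    rwa [cj_fixm (c.HV hbH) (c.HW hbH), cj_sup, cj_fixm (c.HV hbH) (c.HW hbH), cj_of_mem hb] at this
  set U := A ⊔ (⁅V, cj g Y⁆ ⊔ W) with hU
  have hAU : A ≤ U := le_sup_left
  have hAbU : cj b A ≤ U := by
    have := cj_mono (g := b) hAU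
    rwa [cj_of_mem_normalizer (h.U_norm c hb)] at this
  have hAbV : cj b A ≤ V := by
    have := cj_mono (g := b) hAV
    rwa [cj_of_mem_normalizer (c.HV hbH)] at this
  have hWAb : W ≤ cj b A := by
    have := cj_mono (g := b) (le_sup_right : W ≤ ⁅V, Y⁆ ⊔ W)
    rwa [cj_of_mem_normalizer (c.HW hbH)] at this
  have h3 : A ≤ cj b A := by
    intro a ha
    have hn : cj b A ≤ Subgroup.normalizer (fixm V W L : Set G) := hAbV.trans (c.norm (c.W_le_fixm h.LH) fixm_le)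
    obtain ⟨a', ha', z, hz, rfl⟩ := (CfsgH1.mem_sup_of_le_normalizer hn).1 (h2 (h1 ha))
    have hzU : z ∈ U := by
      have := mul_mem (inv_mem (hAbU ha')) (hAU ha)
      rwa [inv_mul_cancel_left] at this
    exact mul_mem ha' (hWAb (h.U_inter c (Subgroup.mem_inf.mpr ⟨hzU, hz⟩)))
  exact (Subgroup.eq_of_le_of_card_ge h3 (by rw [card_cj])).symm

theorem HL.b_triv (h : HL p Y P H L g) (c : CF p H V W) {b : G} (hb : b ∈ L) (hbA : cj b (⁅V, Y⁆ ⊔ W) = ⁅V, Y⁆ ⊔ W) :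
    b ∈ actTriv (fixm V W Y) (⁅V, Y⁆ ⊔ W) := by
  have hbH : b ∈ H := h.LH hb
  have hYH : Y ≤ H := h.YP.trans h.PH
  set A := ⁅V, Y⁆ ⊔ W with hA
  have hAV : A ≤ V := (h.A_le c).trans fixm_le
  have hCeq : fixm V W Y = A ⊔ fixm V W L := le_antisymm (h.C_eq c) (sup_le (h.A_le c) (fixm_anti h.YL))
  have hbA' : b ∈ Subgroup.normalizer (A : Set G) := by rw [mem_normalizer_iff_cj]; exact hbA
  refine mem_actTriv.mpr ⟨?_, hbA', fun v hv => ?_⟩
  · rw [mem_normalizer_iff_cj, hCeq, cj_sup, hbA, cj_fixm (c.HV hbH) (c.HW hbH), cj_of_mem hb]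
  · have hn : A ≤ Subgroup.normalizer (fixm V W L : Set G) := hAV.trans (c.norm (c.W_le_fixm h.LH) fixm_le)
    obtain ⟨a, ha, z, hz, rfl⟩ := (CfsgH1.mem_sup_of_le_normalizer hn).1 (h.C_eq c hv)
    have h1 : b * a * b⁻¹ ∈ A := (Subgroup.mem_normalizer_iff.mp hbA' _).mp ha
    have h2 : b * z * b⁻¹ * z⁻¹ ∈ A := Subgroup.mem_sup_right (hz.2.2 b hb)
    have e : b * (a * z) * b⁻¹ * (a * z)⁻¹ = (b * a * b⁻¹) * (b * z * b⁻¹ * z⁻¹) * a⁻¹ := by group
    rw [e]; exact mul_mem (mul_mem h1 h2) (inv_mem ha)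

end

/-- elements centralizing all chief factors -/
theorem chief_cent {H : Subgroup G} (hH : CP p H) {x : G} (hx : x ∈ H) (hxo : (orderOf x).Coprime p)
    (h : ∀ V W : Subgroup G, CF p H V W → (∀ w ∈ W, w * x = x * w) → ∀ v ∈ V, v * x = x * v) : x = 1 := by
  have key : ∀ n : ℕ, ∀ V : Subgroup G, V ≤ pCoreOf p H → H ≤ Subgroup.normalizer (V : Set G) → Nat.card ↥V = n → ∀ v ∈ V, v * x = x * v := by
    intro n
    induction n using Nat.strong_induction_on with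
    | _ n ih =>
    intro V hVD hHV hcard
    by_cases hV1 : V = ⊥
    · intro v hv
      rw [hV1, Subgroup.mem_bot] at hv
      rw [hv, one_mul, mul_one]
    obtain ⟨W, ⟨hWn, hWV⟩, hWmax⟩ := Set.Finite.exists_maximal (s := {Z : Subgroup G | H ≤ Subgroup.normalizer (Z : Set G) ∧ Z < V}) (Set.toFinite _)
      ⟨⊥, by rw [Set.mem_setOf_eq]; exact ⟨by rw [Subgroup.normalizer_eq_top_iff.mpr inferInstance]; exact le_top, bot_lt_iff_ne_bot.mpr hV1⟩⟩
    have hWcard : Nat.card ↥W < n := by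
      rw [← hcard]
      refine lt_of_le_of_ne (Subgroup.card_le_of_le hWV.le) fun h1 => hWV.ne (Subgroup.eq_of_le_of_card_ge hWV.le h1.ge)
    have hW := ih _ hWcard W (hWV.le.trans hVD) hWn rfl
    have hVp : IsPGroup p ↥V := (isPGroup_pCoreOf p H).to_le hVD
    by_cases hc : ⁅V, H⁆ ≤ W
    · refine comm_coprime hVp (hHV hx) hxo (W := W) ?_ hW
      intro v hv
      have h1 := inv_mem (hc (Subgroup.commutator_mem_commutator hv hx))
      have e : (⁅v, x⁆)⁻¹ = x * v * x⁻¹ * v⁻¹ := by rw [commutatorElement_def]; group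
      rwa [e] at h1
    · refine h V W ⟨hVD, hHV, hWn, hWV.le, fun Z h1 h2 h3 => ?_, hc⟩ hW
      rcases eq_or_lt_of_le h3 with h4 | h4
      · exact Or.inr h4
      · exact Or.inl (le_antisymm (hWmax ⟨h1, h4⟩ h2) h2)
  have h1 := key _ (pCoreOf p H) le_rfl (le_normalizer_pCoreOf p H) rfl
  have h2 : x ∈ H ⊓ Subgroup.centralizer (pCoreOf p H : Set G) := Subgroup.mem_inf.mpr ⟨hx, by
    rw [Subgroup.mem_centralizer_iff]; exact h1⟩
  have h3 : x ∈ pCoreOf p H := hH h2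
  obtain ⟨k, hk⟩ := isPGroup_pow_mem (isPGroup_pCoreOf p H) h3
  exact eq_one_of_coprime_of_pow hxo hk

/-- the key step -/
theorem HL.key {Y P H L : Subgroup G} {g : G} (h : HL p Y P H L g) (hH : CP p H)
    (hwc : ∀ R : Subgroup G, IsPGroup p ↥R → P ≤ R → Subgroup.normalizer (R : Set G) ≤ Subgroup.normalizer (P : Set G)) {b : G} (hb : b ∈ L)
    (hbA : ∀ V W : Subgroup G, CF p H V W → cj b (⁅V, Y⁆ ⊔ W) = ⁅V, Y⁆ ⊔ W) : b ∈ Subgroup.normalizer (P : Set G) := by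
  have hbH : b ∈ H := h.LH hb
  have hYH : Y ≤ H := h.YP.trans h.PH
  let 𝒞 := {VW : Subgroup G × Subgroup G // CF p H VW.1 VW.2}
  let F : 𝒞 → Subgroup G := fun VW => actTriv VW.1.1 (fixm VW.1.1 VW.1.2 Y) ⊓ (actTriv (fixm VW.1.1 VW.1.2 Y) (⁅VW.1.1, Y⁆ ⊔ VW.1.2) ⊓
    actTriv (⁅VW.1.1, Y⁆ ⊔ VW.1.2) VW.1.2)
  set S₀ : Subgroup G := H ⊓ ⨅ VW : 𝒞, F VW with hS₀
  have hS₀mem : ∀ x ∈ S₀, ∀ V W : Subgroup G, CF p H V W → x ∈ actTriv V (fixm V W Y) ∧ x ∈ actTriv (fixm V W Y) (⁅V, Y⁆ ⊔ W) ∧ x ∈ actTriv (⁅V, Y⁆ ⊔ W) W := by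
    intro x hx V W c
    have h1 := (Subgroup.mem_iInf.mp (Subgroup.mem_inf.mp hx).2) ⟨(V, W), c⟩
    obtain ⟨h2, h3⟩ := Subgroup.mem_inf.mp h1
    obtain ⟨h4, h5⟩ := Subgroup.mem_inf.mp h3
    exact ⟨h2, h4, h5⟩
  have hmk : ∀ x ∈ H, (∀ V W : Subgroup G, CF p H V W → x ∈ actTriv V (fixm V W Y) ∧ x ∈ actTriv (fixm V W Y) (⁅V, Y⁆ ⊔ W) ∧ x ∈ actTriv (⁅V, Y⁆ ⊔ W) W) → x ∈ S₀ := by
    intro x hx h1
    refine Subgroup.mem_inf.mpr ⟨hx, Subgroup.mem_iInf.mpr ?_⟩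
    rintro ⟨⟨V, W⟩, c⟩
    obtain ⟨h2, h3, h4⟩ := h1 V W c
    exact Subgroup.mem_inf.mpr ⟨h2, Subgroup.mem_inf.mpr ⟨h3, h4⟩⟩
  have hS₀p : IsPGroup p ↥S₀ := by
    refine CfsgH3.isPGroup_of_forall_coprime ?_
    rintro ⟨x, hx⟩ hxo
    rw [← Subgroup.orderOf_coe] at hxo
    change (orderOf x).Coprime p at hxo
    apply Subtype.ext
    refine chief_cent hH (Subgroup.mem_inf.mp hx).1 hxo fun V W c hW => ?_
    obtain ⟨h1, h2, h3⟩ := hS₀mem x hx V W c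
    have hVp : IsPGroup p ↥V := (isPGroup_pCoreOf p H).to_le c.VD
    have hCV : fixm V W Y ≤ V := fixm_le
    have hAV : ⁅V, Y⁆ ⊔ W ≤ V := (h.A_le c).trans fixm_le
    have e1 := comm_coprime (hVp.to_le hAV) h3.1 hxo (W := W) h3.2.2 hW
    have e2 := comm_coprime (hVp.to_le hCV) h2.1 hxo (W := ⁅V, Y⁆ ⊔ W) h2.2.2 e1
    exact comm_coprime hVp h1.1 hxo (W := fixm V W Y) h1.2.2 e2
  -- normalizing elements
  have hnorm : ∀ x ∈ H, (∀ V W : Subgroup G, CF p H V W → x ∈ Subgroup.normalizer (fixm V W Y : Set G) ∧ x ∈ Subgroup.normalizer ((⁅V, Y⁆ ⊔ W : Subgroup G) : Set G)) →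
      x ∈ Subgroup.normalizer (S₀ : Set G) := by
    intro x hx h1
    have key : ∀ x ∈ H, (∀ V W : Subgroup G, CF p H V W → x ∈ Subgroup.normalizer (fixm V W Y : Set G) ∧ x ∈ Subgroup.normalizer ((⁅V, Y⁆ ⊔ W : Subgroup G) : Set G)) →
        ∀ s ∈ S₀, x * s * x⁻¹ ∈ S₀ := by
      intro x hx h1 s hs
      refine hmk _ (mul_mem (mul_mem hx (Subgroup.mem_inf.mp hs).1) (inv_mem hx)) fun V W c => ?_
      obtain ⟨h2, h3⟩ := h1 V W c
      obtain ⟨s1, s2, s3⟩ := hS₀mem s hs V W c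
      exact ⟨(Subgroup.mem_normalizer_iff.mp (normalizer_actTriv (c.HV hx) h2) _).mp s1, (Subgroup.mem_normalizer_iff.mp (normalizer_actTriv h2 h3) _).mp s2,
        (Subgroup.mem_normalizer_iff.mp (normalizer_actTriv h3 (c.HW hx)) _).mp s3⟩
    rw [Subgroup.mem_normalizer_iff]
    intro s
    refine ⟨key x hx h1 s, fun hs => ?_⟩
    have := key x⁻¹ (inv_mem hx) (fun V W c => ⟨inv_mem (h1 V W c).1, inv_mem (h1 V W c).2⟩) _ hs
    have e : x⁻¹ * (x * s * x⁻¹) * x⁻¹⁻¹ = s := by group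
    rwa [e] at this
  have hPn : ∀ x ∈ P, ∀ V W : Subgroup G, CF p H V W → x ∈ Subgroup.normalizer (fixm V W Y : Set G) ∧ x ∈ Subgroup.normalizer ((⁅V, Y⁆ ⊔ W : Subgroup G) : Set G) := by
    intro x hx V W c
    have hxH := h.PH hx
    have hxY : cj x Y = Y := cj_of_mem_normalizer (Subgroup.centralizer_le_normalizer _ (h.PC hx))
    refine ⟨?_, ?_⟩
    · rw [mem_normalizer_iff_cj, cj_fixm (c.HV hxH) (c.HW hxH), hxY]
    · rw [mem_normalizer_iff_cj, cj_A (c.HV hxH) (c.HW hxH), hxY]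
  have hPS₀ : P ≤ Subgroup.normalizer (S₀ : Set G) := fun x hx => hnorm x (h.PH hx) (hPn x hx)
  have hbn : ∀ V W : Subgroup G, CF p H V W → b ∈ Subgroup.normalizer (fixm V W Y : Set G) ∧ b ∈ Subgroup.normalizer ((⁅V, Y⁆ ⊔ W : Subgroup G) : Set G) :=
    fun V W c => ⟨(h.b_triv c hb (hbA V W c)).1, (h.b_triv c hb (hbA V W c)).2.1⟩
  have hbS₀ : b ∈ Subgroup.normalizer (S₀ : Set G) := hnorm b hbH hbn
  have hcomm : ∀ u ∈ P, b * u * b⁻¹ * u⁻¹ ∈ S₀ := by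
    intro u hu
    have huH := h.PH hu
    refine hmk _ (mul_mem (mul_mem (mul_mem hbH huH) (inv_mem hbH)) (inv_mem huH)) fun V W c => ?_
    obtain ⟨b1, b2⟩ := hbn V W c
    obtain ⟨u1, u2⟩ := hPn u hu V W c
    have uV : u ∈ actTriv V (fixm V W Y) := le_actTriv (h.PH.trans c.HV) (fun x hx => (hPn x hx V W c).1) (h.comm_fix c) hu
    have uA : u ∈ actTriv (⁅V, Y⁆ ⊔ W) W := by
      refine le_actTriv (fun x hx => (hPn x hx V W c).2) (h.PH.trans c.HW) ?_ hu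
      rw [Subgroup.commutator_le]
      intro a ha x hx
      have h1 := inv_mem ((h.A_fix c ha).2.2 x hx)
      have e : (x * a * x⁻¹ * a⁻¹)⁻¹ = ⁅a, x⁆ := by rw [commutatorElement_def]; group
      rwa [e] at h1
    have bC := h.b_triv c hb (hbA V W c)
    refine ⟨?_, ?_, ?_⟩
    · exact mul_mem ((Subgroup.mem_normalizer_iff.mp (normalizer_actTriv (c.HV hbH) b1) _).mp uV) (inv_mem uV)
    · have h1 := (Subgroup.mem_normalizer_iff.mp (normalizer_actTriv u1 u2) _).mp (inv_mem bC)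
      have e : b * u * b⁻¹ * u⁻¹ = b * (u * b⁻¹ * u⁻¹) := by group
      rw [e]; exact mul_mem bC h1
    · exact mul_mem ((Subgroup.mem_normalizer_iff.mp (normalizer_actTriv b2 (c.HW hbH)) _).mp uA) (inv_mem uA)
  have hp1 : IsPGroup p ↥(P ⊔ S₀) := h.pp.to_sup_of_normal_right' hS₀p hPS₀
  refine hwc _ hp1 le_sup_left ?_
  refine mem_normalizer_of_cj_le ?_
  rw [cj_sup, cj_of_mem_normalizer hbS₀]
  refine sup_le ?_ le_sup_right
  intro z hz
  have hz' := mem_cj.mp hz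
  have h1 := hcomm _ hz'
  have e : b * (b⁻¹ * z * b) * b⁻¹ * (b⁻¹ * z * b)⁻¹ = z * (b⁻¹ * z * b)⁻¹ := by group
  rw [e] at h1
  have := mul_mem (Subgroup.mem_sup_right h1 : _ ∈ P ⊔ S₀) (Subgroup.mem_sup_left hz' : _ ∈ P ⊔ S₀)
  rwa [inv_mul_cancel_right] at this

end CfsgH7
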