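import Cfsg.Agent.H7.FrakL

set_option autoImplicit false
set_option linter.unusedSectionVars false

/-! Minimal subgroups `L` of members of `ℌ`, II. -/

namespace CfsgH7

open Subgroup Cfsg CfsgH3
open scoped commutatorElement

variable {G : Type*} [Group G] {p : ℕ} [Finite G] [hp : Fact p.Prime]

theorem core_le_of_rs {X L : Subgroup G} (hX : X ≤ L) (h : rs p L ≤ X) : pCoreOf p X ≤ pCoreOf p L := by
  have h3 : (X.subgroupOf L).IsSubnormal := by
    refine isSubnormal_of_rs_le (p := p) ?_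
    have htop : (⊤ : Subgroup ↥L).map L.subtype = L := by rw [← MonoidHom.range_eq_map, Subgroup.range_subtype]
    rw [← Subgroup.map_le_map_iff_of_injective L.subtype_injective, map_rs, htop, Subgroup.map_subgroupOf_eq_of_le hX]
    exact h
  have h5 := CfsgH2.IsSubnormal.pCore_le (p := p) h3
  have h6 : pCoreOf p X = ((pCore p ↥(X.subgroupOf L)).map (X.subgroupOf L).subtype).map L.subtype := by
    have h7 := map_pCoreOf (p := p) (X.subgroupOf L)
    rw [Subgroup.map_subgroupOf_eq_of_le hX] at h7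
    rw [← h7]; rfl
  rw [h6]
  exact Subgroup.map_mono h5

omit [Finite G] hp in
theorem asym_comm {Y : Subgroup G} (hasym : ¬ IsSymmetricIn Y) {b : G} (h1 : Y ≤ Subgroup.normalizer (cj b Y : Set G))
    (h2 : cj b Y ≤ Subgroup.normalizer (Y : Set G)) : cj b Y ≤ Subgroup.centralizer (Y : Set G) := by
  rw [Subgroup.le_centralizer_iff, ← Subgroup.commutator_eq_bot_iff_le_centralizer]
  by_contra hne
  apply hasym
  refine ⟨b, hne, le_inf ?_ ?_⟩
  · rw [← Subgroup.le_normalizer_iff_commutator_le_left]; exact h2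
  · rw [Subgroup.commutator_comm]
    change ⁅cj b Y, Y⁆ ≤ cj b Y
    rw [← Subgroup.le_normalizer_iff_commutator_le_left]; exact h1

/-- the intersection with the core -/
theorem inf_core_le {X L : Subgroup G} (hX : X ≤ L) : X ⊓ pCoreOf p L ≤ pCoreOf p X := by
  refine le_pCoreOf inf_le_left ?_ ((isPGroup_pCoreOf p L).to_le inf_le_right)
  intro g hg
  rw [mem_normalizer_iff_cj, cj_inf, cj_of_mem hg, cj_of_mem_normalizer (le_normalizer_pCoreOf p L (hX hg))]

/-- a Baer–Suzuki generation statement -/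
theorem exists_gen {Y L : Subgroup G} (hY : IsPGroup p ↥Y) (hYL : Y ≤ L) (hYO : ¬ Y ≤ pCoreOf p L)
    (hmin : ∀ L' : Subgroup G, L' ≤ L → Y ≤ L' → ¬ Y ≤ pCoreOf p L' → L' = L) : ∃ g ∈ L, Y ⊔ cj g Y = L := by
  by_contra hcon
  push Not at hcon
  apply hYO
  have key : ∀ g ∈ L, IsPGroup p ↥(Y ⊔ cj g Y) := by
    intro g hg
    have hle : Y ⊔ cj g Y ≤ L := sup_le hYL ((cj_mono hYL).trans (cj_of_mem hg).le)
    have h1 : Y ≤ pCoreOf p (Y ⊔ cj g Y) := by
      by_contra h2
      exact hcon g hg (hmin _ hle le_sup_left h2)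
    have h2 : pCoreOf p (Y ⊔ cj g Y) ⊔ cj g Y = Y ⊔ cj g Y :=
      le_antisymm (sup_le (pCoreOf_le p _) le_sup_right) (sup_le (h1.trans le_sup_left) le_sup_right)
    rw [← h2]
    exact (isPGroup_pCoreOf p _).to_sup_of_normal_left' (isPGroup_cj g hY) (le_sup_right.trans (le_normalizer_pCoreOf p _))
  obtain ⟨N, hN, hNp, hYN⟩ := CfsgH3.baer_suzuki (p := p) (Y.subgroupOf L) (hY.comap_of_injective L.subtype L.subtype_injective) (fun g => by
    have h3 := (key g g.2).comap_of_injective L.subtype L.subtype_injective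
    refine h3.to_le ?_
    refine sup_le (Subgroup.comap_mono le_sup_left) ?_
    rintro _ ⟨x, hx, rfl⟩
    refine Subgroup.mem_sup_right ?_
    rw [mem_cj]
    have : (g : G)⁻¹ * (L.subtype ((MulAut.conj g).toMonoidHom x)) * g = x := by simp [mul_assoc]
    rw [this]; exact hx)
  have h1 := CfsgH2.le_pCore hN hNp
  have h2 := Subgroup.map_mono (f := L.subtype) (hYN.trans h1)
  rwa [Subgroup.map_subgroupOf_eq_of_le hYL] at h2


/-- the asymmetric setup -/
structure AS (p : ℕ) (Y P : Subgroup G) : Prop where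
  el : IsElementaryAbelian p Y
  YP : Y ≤ P
  PC : P ≤ Subgroup.centralizer (Y : Set G)
  pp : IsPGroup p ↥P
  syl : IsSyl p P (Subgroup.centralizer (Y : Set G))
  asym : ¬ IsSymmetricIn Y
  wc : ∀ R : Subgroup G, IsPGroup p ↥R → P ≤ R → Subgroup.normalizer (R : Set G) ≤ Subgroup.normalizer (P : Set G)
  PY : Subgroup.normalizer (P : Set G) ≤ Subgroup.normalizer (Y : Set G)
  core : ∀ H : Subgroup G, P ≤ H → pCoreOf p H ≤ Subgroup.normalizer (Y : Set G)

theorem frakM_AS {S : Sylow p G} (hG : IsOfParabolicCharacteristic p G) {M : Subgroup G} (hSM : (S : Subgroup G) ≤ M) (hM : IsInFrakM p M)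
    (hasym : ¬ IsSymmetricIn (largestPReducedOf p M)) : AS p (largestPReducedOf p M) (pCoreOf p M) := by
  have hY := pr_largest (p := p) M
  exact ⟨hY.1.2.2.1, hY.1.le_core, hY.1.core_le, isPGroup_pCoreOf p M, frakM_sylC hSM hM, hasym, fun R hR hPR => (frakM_pgroup hG hSM hM hasym hR hPR).2,
    (frakM_norm_core hG hSM hM).trans (frakM_normalizer hG hSM hM).ge, fun H hPH => (frakM_core_norm hG hSM hM hasym hPH).2⟩

/-- a minimal subgroup -/
structure ML (p : ℕ) (Y P H L : Subgroup G) : Prop where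
  cp : CP p H
  PH : P ≤ H
  YH : ¬ Y ≤ pCoreOf p H
  maxH : ∀ X : Subgroup G, P ≤ X → X < H → Y ≤ pCoreOf p X
  LH : L ≤ H
  YL : Y ≤ L
  YO : ¬ Y ≤ pCoreOf p L
  minL : ∀ L' : Subgroup G, L' ≤ L → Y ≤ L' → ¬ Y ≤ pCoreOf p L' → L' = L

section
variable {Y P H L : Subgroup G}

theorem ML.sup (a : AS p Y P) (m : ML p Y P H L) : L ⊔ P = H := by
  by_contra hne
  have h1 := m.maxH (L ⊔ P) le_sup_right (lt_of_le_of_ne (sup_le m.LH m.PH) hne)
  exact m.YO ((le_inf m.YL h1).trans (inf_core_le le_sup_left))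

theorem ML.hl (a : AS p Y P) (m : ML p Y P H L) {g : G} (hg : g ∈ L) (hgen : Y ⊔ cj g Y = L) : HL p Y P H L g :=
  ⟨a.YP, a.PC, a.pp, a.core H m.PH, m.LH, m.PH, m.YL, hg, hgen, m.sup a⟩

theorem ML.exists_hl (a : AS p Y P) (m : ML p Y P H L) : ∃ g, HL p Y P H L g := by
  obtain ⟨g, hg, hgen⟩ := exists_gen (elem_isPGroup a.el) m.YL m.YO m.minL
  exact ⟨g, m.hl a hg hgen⟩

theorem ML.comm_norm (a : AS p Y P) (m : ML p Y P H L) {b : G} (hb : b ∈ L) (h1 : Y ≤ Subgroup.normalizer (cj b Y : Set G))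
    (h2 : cj b Y ≤ Subgroup.normalizer (Y : Set G)) : b ∈ Subgroup.normalizer (Y : Set G) := by
  obtain ⟨g, h⟩ := m.exists_hl a
  exact a.PY (h.key m.cp a.wc hb fun V W c => h.cj_A_eq c a.syl hb (asym_comm a.asym h1 h2))

/-- `p`-subgroups of `L` containing `Y` normalize `Y` -/
theorem ML.pgroup (a : AS p Y P) (m : ML p Y P H L) {R : Subgroup G} (hR : IsPGroup p ↥R) (hYR : Y ≤ R) (hRL : R ≤ L) :
    R ≤ Subgroup.normalizer (Y : Set G) := by
  by_contra hn
  have h1 : R ⊓ Subgroup.normalizer (Y : Set G) < R := lt_of_le_of_ne inf_le_left fun h => hn (by rw [← h]; exact inf_le_right)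
  obtain ⟨b, hb, hbn⟩ := SetLike.exists_of_lt (lt_inf_normalizer hR h1)
  obtain ⟨hbR, hbN⟩ := Subgroup.mem_inf.mp hb
  apply hbn
  refine Subgroup.mem_inf.mpr ⟨hbR, ?_⟩
  have hY1 : Y ≤ R ⊓ Subgroup.normalizer (Y : Set G) := le_inf hYR Subgroup.le_normalizer
  refine m.comm_norm a (hRL hbR) ?_ ?_
  · rw [normalizer_cj]
    have h2 := cj_mono (g := b) (inf_le_right : R ⊓ Subgroup.normalizer (Y : Set G) ≤ _)
    rw [cj_of_mem_normalizer hbN] at h2
    exact hY1.trans h2
  · have h2 := cj_mono (g := b) hY1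
    rw [cj_of_mem_normalizer hbN] at h2
    exact h2.trans inf_le_right

theorem ML.unique (a : AS p Y P) (m : ML p Y P H L) {X : Subgroup G} (hYX : Y ≤ X) (hXL : X < L) : X ≤ L ⊓ Subgroup.normalizer (Y : Set G) := by
  refine le_inf hXL.le ?_
  have h1 : Y ≤ pCoreOf p X := by
    by_contra h2
    exact hXL.ne (m.minL X hXL.le hYX h2)
  have h2 := m.pgroup a (isPGroup_pCoreOf p X) h1 ((pCoreOf_le p X).trans hXL.le)
  intro x hx
  have h3 : cj x (pCoreOf p X) = pCoreOf p X := cj_of_mem_normalizer (le_normalizer_pCoreOf p X hx)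
  refine m.comm_norm a (hXL.le hx) ?_ ?_
  · rw [normalizer_cj]
    refine h1.trans ?_
    rw [← h3]; exact cj_mono h2
  · have h4 := cj_mono (g := x) h1
    rw [h3] at h4
    exact h4.trans h2

theorem ML.lt (a : AS p Y P) (m : ML p Y P H L) : L ⊓ Subgroup.normalizer (Y : Set G) < L := by
  refine lt_of_le_of_ne inf_le_left fun h => m.YO ?_
  refine le_pCoreOf m.YL ?_ (elem_isPGroup a.el)
  rw [← h]; exact inf_le_right

theorem ML.gen (a : AS p Y P) (m : ML p Y P H L) {h : G} (hh : h ∈ L) (hn : h ∉ Subgroup.normalizer (Y : Set G)) : Y ⊔ cj h Y = L := by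
  by_contra hne
  apply hn
  have key : ∀ h ∈ L, Y ⊔ cj h Y ≠ L → cj h Y ≤ Subgroup.normalizer (Y : Set G) := by
    intro h hh hne
    have h1 := m.unique a le_sup_left (lt_of_le_of_ne (sup_le m.YL ((cj_mono m.YL).trans (cj_of_mem hh).le)) hne)
    exact le_sup_right.trans (h1.trans inf_le_right)
  refine m.comm_norm a hh ?_ (key h hh hne)
  have h2 := key h⁻¹ (inv_mem hh) (fun h3 => by
    apply hne
    have := congrArg (cj h) h3
    rwa [cj_sup, cj_cj_inv, cj_of_mem hh, sup_comm] at this)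
  have h3 := cj_mono (g := h) h2
  rwa [cj_cj_inv, ← normalizer_cj] at h3

theorem ML.genH (a : AS p Y P) (m : ML p Y P H L) {h : G} (hh : h ∈ L) (hn : h ∉ Subgroup.normalizer (Y : Set G)) : cj h Y ⊔ P = H :=
  (m.hl a hh (m.gen a hh hn)).H_eq

theorem ML.minimalOver (a : AS p Y P) (m : ML p Y P H L) : IsMinimalOver (Y.subgroupOf L) := by
  obtain ⟨g, hg⟩ := m.exists_hl a
  have hlt := m.lt a
  have htop : (⊤ : Subgroup ↥L).map L.subtype = L := by rw [← MonoidHom.range_eq_map, Subgroup.range_subtype]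
  constructor
  · apply Subgroup.map_injective L.subtype_injective
    rw [clo_map_eq m.YL, htop]
    refine le_antisymm (clo_le fun x hx => (cj_mono m.YL).trans (cj_of_mem hx).le) ?_
    nth_rewrite 1 [← hg.gen]
    exact sup_le (le_clo L Y) (cj_le_clo hg.gL)
  · have hmax : ∀ X : Subgroup ↥L, Y.subgroupOf L ≤ X → X ≠ ⊤ → X ≤ (L ⊓ Subgroup.normalizer (Y : Set G)).subgroupOf L := by
      intro X hX hXt
      have h1 : Y ≤ X.map L.subtype := by
        have := Subgroup.map_mono (f := L.subtype) hX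
        rwa [Subgroup.map_subgroupOf_eq_of_le m.YL] at this
      have h2 : X.map L.subtype < L := by
        refine lt_of_le_of_ne (Subgroup.map_subtype_le _) fun h => hXt ?_
        apply Subgroup.map_injective L.subtype_injective
        rw [h, htop]
      have h3 := m.unique a h1 h2
      rw [← Subgroup.map_le_map_iff_of_injective L.subtype_injective, Subgroup.map_subgroupOf_eq_of_le inf_le_left]
      exact h3
    have hne : (L ⊓ Subgroup.normalizer (Y : Set G)).subgroupOf L ≠ ⊤ := by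
      intro h
      rw [Subgroup.subgroupOf_eq_top] at h
      exact absurd hlt (not_lt_of_ge h)
    have hYM : Y.subgroupOf L ≤ (L ⊓ Subgroup.normalizer (Y : Set G)).subgroupOf L := Subgroup.comap_mono (le_inf m.YL Subgroup.le_normalizer)
    refine ⟨(L ⊓ Subgroup.normalizer (Y : Set G)).subgroupOf L, ⟨⟨hne, fun K hK => ?_⟩, hYM⟩, ?_⟩
    · by_contra hKt
      exact absurd hK (not_lt_of_ge (hmax K (hYM.trans hK.le) hKt))
    · rintro M' ⟨hM'c, hYM'⟩
      have h1 := hmax M' hYM' hM'c.1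
      rcases hM'c.le_iff.mp h1 with h2 | h2
      · exact absurd h2 hne
      · exact h2.symm

theorem ML.cpL (a : AS p Y P) (m : ML p Y P H L) : CP p L := by
  obtain ⟨g, h⟩ := m.exists_hl a
  set D := pCoreOf p H with hD
  have hDp : IsPGroup p ↥D := isPGroup_pCoreOf p H
  have hHD : H ≤ Subgroup.normalizer (D : Set G) := le_normalizer_pCoreOf p H
  set E := L ⊓ D with hE
  have hLE : L ≤ Subgroup.normalizer (E : Set G) := by
    intro x hx
    rw [mem_normalizer_iff_cj, cj_inf, cj_of_mem hx, cj_of_mem_normalizer (hHD (m.LH hx))]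
  have hEO : E ≤ pCoreOf p L := inf_core_le m.LH
  have hYH : Y ≤ H := a.YP.trans m.PH
  have hDY : ⁅D, Y⁆ ≤ E := by
    refine le_inf ?_ ?_
    · refine le_trans ?_ m.YL
      rw [Subgroup.commutator_comm, ← Subgroup.le_normalizer_iff_commutator_le_left]; exact a.core H m.PH
    · rw [← Subgroup.le_normalizer_iff_commutator_le_left]; exact hYH.trans hHD
  have hDY' : ⁅D, cj g Y⁆ ≤ E := by
    have := cj_mono (g := g) hDY
    rwa [cj_commutator, cj_of_mem_normalizer (hHD (m.LH h.gL)), cj_of_mem_normalizer (hLE h.gL)] at this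
  have hDL : L ≤ actTriv D E := by
    nth_rewrite 1 [← h.gen]
    refine sup_le (le_actTriv (hYH.trans hHD) (m.YL.trans hLE) hDY) (le_actTriv (h.gYH.trans hHD) ?_ hDY')
    refine le_trans ?_ hLE
    rw [← h.gen]; exact le_sup_right
  have hKn : L ≤ Subgroup.normalizer ((L ⊓ Subgroup.centralizer (pCoreOf p L : Set G) : Subgroup G) : Set G) := by
    intro x hx
    rw [mem_normalizer_iff_cj, cj_inf, cj_of_mem hx, ← centralizer_cj, cj_of_mem_normalizer (le_normalizer_pCoreOf p L hx)]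
  refine le_pCoreOf inf_le_left hKn ?_
  refine CfsgH3.isPGroup_of_forall_coprime ?_
  rintro ⟨x, hx⟩ hxo
  rw [← Subgroup.orderOf_coe] at hxo
  change (orderOf x).Coprime p at hxo
  obtain ⟨hxL, hxC⟩ := Subgroup.mem_inf.mp hx
  have h1 := comm_coprime hDp (hHD (m.LH hxL)) hxo (W := E) (mem_actTriv.mp (hDL hxL)).2.2 (fun w hw => Subgroup.mem_centralizer_iff.mp hxC w (hEO hw))
  have h2 : x ∈ H ⊓ Subgroup.centralizer (D : Set G) := Subgroup.mem_inf.mpr ⟨m.LH hxL, by rw [Subgroup.mem_centralizer_iff]; exact h1⟩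
  have h3 : x ∈ D := m.cp h2
  obtain ⟨k, hk⟩ := isPGroup_pow_mem hDp h3
  exact Subtype.ext (eq_one_of_coprime_of_pow hxo hk)

theorem ML.rs_sup (a : AS p Y P) (m : ML p Y P H L) : rs p L ⊔ Y = L := by
  by_contra hne
  have hle : rs p L ⊔ Y ≤ L := sup_le (rs_le L) m.YL
  have h1 : Y ≤ pCoreOf p (rs p L ⊔ Y) := by
    by_contra h2
    exact hne (m.minL _ hle le_sup_right h2)
  exact m.YO (h1.trans (core_le_of_rs hle le_sup_left))

theorem ML.chief (a : AS p Y P) (m : ML p Y P H L) {V W : Subgroup G} (c : CF p H V W) : ¬ ⁅V, rs p L⁆ ≤ W := by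
  intro hc
  have hrH : rs p L ≤ H := (rs_le L).trans m.LH
  have hHeq : rs p L ⊔ P = H := by
    have e1 : (rs p L ⊔ Y) ⊔ P = H := by rw [m.rs_sup a, m.sup a]
    rwa [sup_assoc, sup_eq_right.mpr a.YP] at e1
  have hcV : ⁅V, P⁆ ≤ V := by rw [← Subgroup.le_normalizer_iff_commutator_le_left]; exact m.PH.trans c.HV
  set N := ⁅V, P⁆ ⊔ W with hN
  have hNV : N ≤ V := sup_le hcV c.WV
  have h1 : ⁅V, H⁆ ≤ N := by
    rw [← hHeq]
    exact comm_sup_le (hrH.trans c.HV) (norm_of_comm hNV hc le_sup_right) (hc.trans le_sup_right) (m.PH.trans c.HV) (norm_of_comm hNV le_rfl le_sup_left)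
      le_sup_left
  have hHN : H ≤ Subgroup.normalizer (N : Set G) := norm_of_comm hNV le_rfl h1
  have hVp : IsPGroup p ↥V := (isPGroup_pCoreOf p H).to_le c.VD
  have hSp : IsPGroup p ↥(V ⊔ P) := hVp.to_sup_of_normal_left' a.pp (m.PH.trans c.HV)
  have hVH : V ≤ H := c.VD.trans (pCoreOf_le p H)
  rcases c.min N hHN le_sup_right hNV with h2 | h2
  · apply c.nc
    rw [← h2]; exact h1
  · have h3 : V ≤ W := by
      refine pcomm_le hSp le_sup_left (sup_le (hVH.trans c.HW) (m.PH.trans c.HW)) ?_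
      refine h2.ge.trans (sup_le_sup_right (Subgroup.commutator_mono le_rfl le_sup_right) _)
    apply c.nc
    refine (Subgroup.commutator_mono h3 le_rfl).trans ?_
    rw [← Subgroup.le_normalizer_iff_commutator_le_left]; exact c.HW

theorem ML.inter_core (a : AS p Y P) (m : ML p Y P H L) : pCoreOf p L ⊓ Y ≤ pCoreOf p H := by
  obtain ⟨g, h⟩ := m.exists_hl a
  set B := pCoreOf p L ⊓ Y with hB
  have hBY : B ≤ Y := inf_le_right
  have hBL : B ≤ L := hBY.trans m.YL
  have hBH : B ≤ H := hBL.trans m.LH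
  -- the kernel
  let 𝒞 := {VW : Subgroup G × Subgroup G // CF p H VW.1 VW.2}
  set K : Subgroup G := H ⊓ ⨅ VW : 𝒞, actTriv VW.1.1 VW.1.2 with hK
  have hKmem : ∀ x, x ∈ K ↔ x ∈ H ∧ ∀ V W : Subgroup G, CF p H V W → x ∈ actTriv V W := by
    intro x
    rw [hK, Subgroup.mem_inf, Subgroup.mem_iInf]
    refine and_congr_right fun _ => ⟨fun h1 V W c => h1 ⟨(V, W), c⟩, fun h1 VW => h1 _ _ VW.2⟩
  have hKp : IsPGroup p ↥K := by
    refine CfsgH3.isPGroup_of_forall_coprime ?_
    rintro ⟨x, hx⟩ hxo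
    rw [← Subgroup.orderOf_coe] at hxo
    change (orderOf x).Coprime p at hxo
    obtain ⟨hxH, hx2⟩ := (hKmem x).mp hx
    exact Subtype.ext (chief_cent m.cp hxH hxo fun V W c hW =>
      comm_coprime ((isPGroup_pCoreOf p H).to_le c.VD) (c.HV hxH) hxo (W := W) (hx2 V W c).2.2 hW)
  have hKn : H ≤ Subgroup.normalizer (K : Set G) := by
    have key : ∀ g ∈ H, ∀ x ∈ K, g * x * g⁻¹ ∈ K := by
      intro g hg x hx
      obtain ⟨hxH, hx2⟩ := (hKmem x).mp hx
      exact (hKmem _).mpr ⟨mul_mem (mul_mem hg hxH) (inv_mem hg), fun V W c =>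
        (Subgroup.mem_normalizer_iff.mp (normalizer_actTriv (c.HV hg) (c.HW hg)) _).mp (hx2 V W c)⟩
    intro g hg
    rw [Subgroup.mem_normalizer_iff]
    intro x
    refine ⟨key g hg x, fun hx => ?_⟩
    have := key g⁻¹ (inv_mem hg) _ hx
    have e : g⁻¹ * (g * x * g⁻¹) * g⁻¹⁻¹ = x := by group
    rwa [e] at this
  have hKO : K ≤ pCoreOf p H := le_pCoreOf inf_le_left hKn hKp
  refine le_trans ?_ hKO
  intro b hb
  refine (hKmem b).mpr ⟨hBH hb, fun V W c => ?_⟩
  have hgH : g ∈ H := h.LH h.gL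
  -- `O_p(L)` normalizes `Y` and `Y^g`
  have hO1 : pCoreOf p L ≤ Subgroup.normalizer (Y : Set G) := by
    have h1 : IsPGroup p ↥(pCoreOf p L ⊔ Y) := (isPGroup_pCoreOf p L).to_sup_of_normal_left' (elem_isPGroup a.el) (m.YL.trans (le_normalizer_pCoreOf p L))
    exact le_sup_left.trans (m.pgroup a h1 le_sup_right (sup_le (pCoreOf_le p L) m.YL))
  have hO2 : pCoreOf p L ≤ Subgroup.normalizer (cj g Y : Set G) := by
    have h1 := cj_mono (g := g) hO1
    rwa [cj_of_mem_normalizer (le_normalizer_pCoreOf p L h.gL), ← normalizer_cj] at h1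
  have hbO : b ∈ pCoreOf p L := (Subgroup.mem_inf.mp hb).1
  have hbY : b ∈ Y := (Subgroup.mem_inf.mp hb).2
  refine mem_actTriv.mpr ⟨c.HV (hBH hb), c.HW (hBH hb), fun v hv => ?_⟩
  have hVW : V ≤ Subgroup.normalizer (W : Set G) := (c.VD.trans (pCoreOf_le p H)).trans c.HW
  have hfix : V ≤ fixm V W (Subgroup.zpowers b) := by
    have hzY : Subgroup.zpowers b ≤ Y := by rw [Subgroup.zpowers_le]; exact hbY
    have hA'V : ⁅V, cj g Y⁆ ⊔ W ≤ V := by
      have := cj_mono (g := g) ((h.A_le c).trans fixm_le)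
      rwa [cj_A (c.HV hgH) (c.HW hgH), cj_of_mem_normalizer (c.HV hgH)] at this
    have hA' : ⁅V, cj g Y⁆ ⊔ W ≤ fixm V W (cj g Y) := by
      have := cj_mono (g := g) (h.A_le c)
      rwa [cj_A (c.HV hgH) (c.HW hgH), cj_fixm (c.HV hgH) (c.HW hgH)] at this
    refine (h.V_eq c).trans (sup_le ?_ (fixm_anti hzY))
    intro z hz
    refine ⟨hA'V hz, hVW (hA'V hz), fun x hx => ?_⟩
    apply h.inter c
    have hxY : x ∈ Y := hzY hx
    have hxO : x ∈ pCoreOf p L := by
      have : Subgroup.zpowers b ≤ pCoreOf p L := by rw [Subgroup.zpowers_le]; exact hbO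
      exact this hx
    refine Subgroup.mem_inf.mpr ⟨Subgroup.mem_sup_left ?_, ?_⟩
    · have h1 := inv_mem (Subgroup.commutator_mem_commutator (hA'V hz) hxY : ⁅z, x⁆ ∈ ⁅V, Y⁆)
      have e : (⁅z, x⁆)⁻¹ = x * z * x⁻¹ * z⁻¹ := by rw [commutatorElement_def]; group
      rwa [e] at h1
    · apply hA'
      have hxn : x ∈ Subgroup.normalizer ((⁅V, cj g Y⁆ ⊔ W : Subgroup G) : Set G) := by
        have hxH : x ∈ H := (a.YP.trans m.PH) hxY
        rw [mem_normalizer_iff_cj, cj_A (c.HV hxH) (c.HW hxH), cj_of_mem_normalizer (hO2 hxO)]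
      exact mul_mem ((Subgroup.mem_normalizer_iff.mp hxn _).mp hz) (inv_mem hz)
  exact (hfix hv).2.2 b (Subgroup.mem_zpowers b)

end

end CfsgH7
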