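import Cfsg.Agent.H7.PIrr4
import Cfsg.Agent.H7.CharP
import Cfsg.Agent.H2.GenFitting2
import Cfsg.Agent.H2.CopGen
import Cfsg.Agent.H2.PLayer

set_option autoImplicit false
set_option linter.unusedSectionVars false

/-! Action of `p`-groups on quasi-nilpotent groups with `O_p = 1`. -/

namespace CfsgH7

open Subgroup Cfsg
open scoped commutatorElement

variable {G : Type*} [Group G] {p : ℕ} [Finite G] [hp : Fact p.Prime]

theorem fit_le_of {X : Type*} [Group X] [Finite X] (h2 : pCore p X = ⊥) : fittingSubgroup X ≤ pPrimeCore p X := by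
  rw [CfsgH2.fittingSubgroup_eq_iSup_pCore]
  refine iSup_le fun q => ?_
  have hqp : Fact (q : ℕ).Prime := ⟨Nat.prime_of_mem_primeFactors q.2⟩
  by_cases hq : (q : ℕ) = p
  · rw [hq, h2]; exact bot_le
  · have hn : (pCore (q : ℕ) X).Normal := inferInstance
    refine CfsgH2.le_pPrimeCore hn ?_
    have h3 : IsPGroup (q : ℕ) ↥(pCore (q : ℕ) X) := CfsgH2.isPGroup_pCore (q : ℕ)
    obtain ⟨n, hn⟩ := h3.exists_card_eq
    rw [hn]
    exact Nat.Coprime.pow_left n ((Nat.coprime_primes hqp.out hp.out).mpr hq)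

/-- normal subgroups of a quasisimple subgroup -/
theorem qs_normal {K N : Subgroup G} (hK : Cfsg.IsQuasisimple ↥K) (hN : N ≤ K) (hn : K ≤ Subgroup.normalizer (N : Set G)) :
    N = K ∨ N ≤ Subgroup.centralizer (K : Set G) := by
  haveI : (N.subgroupOf K).Normal := (Subgroup.normal_subgroupOf_iff_le_normalizer hN).mpr hn
  rcases CfsgH2.IsQuasisimple.normal_eq_top_or_le_center hK (N.subgroupOf K) with h | h
  · left
    exact le_antisymm hN (Subgroup.subgroupOf_eq_top.mp h)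
  · right
    intro x hx
    have h1 : (⟨x, hN hx⟩ : ↥K) ∈ Subgroup.center ↥K := h (Subgroup.mem_subgroupOf.mpr hx)
    rw [Subgroup.mem_centralizer_iff]
    intro y hy
    exact congrArg Subtype.val (Subgroup.mem_center_iff.mp h1 ⟨y, hy⟩)

/-- a component not centralized by `Y` lies in `[M,Y]` -/
theorem comp_le_comm {K Y M : Subgroup G} (hK : IsComponent K) (hKY : ¬ K ≤ Subgroup.centralizer (Y : Set G)) (hKM : K ≤ M) :
    K ≤ ⁅M, Y⁆ := by
  have hKK := CfsgH2.IsComponent.commutator_self hK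
  by_cases hn : Y ≤ Subgroup.normalizer (K : Set G)
  · have h1 : ⁅K, Y⁆ ≤ K := by rw [← Subgroup.le_normalizer_iff_commutator_le_left]; exact hn
    rcases qs_normal hK.2 h1 (Subgroup.normalizer_commutator_ge_left _ _) with h2 | h2
    · rw [← h2]; exact Subgroup.commutator_mono hKM le_rfl
    · exfalso
      apply hKY
      rw [← Subgroup.commutator_eq_bot_iff_le_centralizer]
      refine CfsgH2.commutator_eq_bot_of_perfect hKK ?_
      rw [Subgroup.commutator_comm Y K, Subgroup.commutator_eq_bot_iff_le_centralizer]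
      exact h2
  · obtain ⟨y, hy, hyn⟩ := SetLike.not_le_iff_exists.mp hn
    have hne : cj y K ≠ K := fun h => hyn (mem_normalizer_iff_cj.mpr h)
    have hc := CfsgH2.IsComponent.commutator_eq_bot_of_ne (CfsgH2.IsComponent.map_conj hK y) hK hne
    rw [CfsgH2.commutator_eq_bot_iff_forall] at hc
    have h1 : ⁅K, K⁆ ≤ ⁅M, Y⁆ := by
      rw [Subgroup.commutator_le]
      intro k' hk' k hk
      have h2 : ⁅k, y⁆ ∈ ⁅M, Y⁆ := Subgroup.commutator_mem_commutator (hKM hk) hy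
      have h3 : k' ∈ Subgroup.normalizer (⁅M, Y⁆ : Subgroup G) := Subgroup.normalizer_commutator_ge_left M Y (hKM hk')
      have h4 : k' * ⁅k, y⁆ * k'⁻¹ ∈ ⁅M, Y⁆ := (Subgroup.mem_normalizer_iff.mp h3 _).mp h2
      have h5 := mul_mem h4 (inv_mem h2)
      have h6 : y * k⁻¹ * y⁻¹ ∈ cj y K := conj_mem_cj (K.inv_mem hk)
      have h7 : (y * k⁻¹ * y⁻¹) * k'⁻¹ = k'⁻¹ * (y * k⁻¹ * y⁻¹) := hc _ h6 _ (K.inv_mem hk')
      have e : k' * ⁅k, y⁆ * k'⁻¹ * ⁅k, y⁆⁻¹ = ⁅k', k⁆ := by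
        rw [commutatorElement_def, commutatorElement_def]
        have e1 : k * y * k⁻¹ * y⁻¹ = k * (y * k⁻¹ * y⁻¹) := by group
        rw [e1]
        calc k' * (k * (y * k⁻¹ * y⁻¹)) * k'⁻¹ * (k * (y * k⁻¹ * y⁻¹))⁻¹
            = k' * k * ((y * k⁻¹ * y⁻¹) * k'⁻¹) * (y * k⁻¹ * y⁻¹)⁻¹ * k⁻¹ := by group
          _ = k' * k * (k'⁻¹ * (y * k⁻¹ * y⁻¹)) * (y * k⁻¹ * y⁻¹)⁻¹ * k⁻¹ := by rw [h7]
          _ = k' * k * k'⁻¹ * k⁻¹ := by group
      rwa [e] at h5
    rwa [hKK] at h1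

/-- the main lemma -/
theorem qn_act {L Y : Subgroup G} (hL : L.IsSubnormal) (hgF : generalizedFittingSubgroup ↥L = ⊤) (hO : pCore p ↥L = ⊥)
    (hY : IsPGroup p ↥Y) (hYL : Y ≤ Subgroup.normalizer (L : Set G)) :
    ⁅L, Y⁆ ⊔ (L ⊓ Subgroup.centralizer (Y : Set G)) = L ∧ ⁅⁅L, Y⁆, Y⁆ = ⁅L, Y⁆ := by
  set E := (layer ↥L).map L.subtype with hE
  set F := (fittingSubgroup ↥L).map L.subtype with hF
  have hEF : E ⊔ F = L := by
    rw [hE, hF, ← Subgroup.map_sup]
    change (generalizedFittingSubgroup ↥L).map L.subtype = L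
    rw [hgF, ← MonoidHom.range_eq_map, Subgroup.range_subtype]
  have hEFc : ⁅E, F⁆ = ⊥ := by
    rw [hE, hF, ← Subgroup.map_commutator, CfsgH2.commutator_layer_fittingSubgroup, Subgroup.map_bot]
  have hEs : E = sSup {K : Subgroup G | IsComponent K ∧ K ≤ L} := CfsgH2.IsSubnormal.map_layer_eq_sSup hL
  have hYF : Y ≤ Subgroup.normalizer (F : Set G) := hYL.trans (CfsgH1.normalizer_le_map_characteristic (fittingSubgroup ↥L))
  have hYE : Y ≤ Subgroup.normalizer (E : Set G) := hYL.trans (CfsgH1.normalizer_le_map_characteristic (layer ↥L))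
  have hEL : E ≤ L := hEF ▸ le_sup_left
  have hFL : F ≤ L := hEF ▸ le_sup_right
  have hFc : (Nat.card ↥F).Coprime p := by
    have h1 : Nat.card ↥F = Nat.card ↥(fittingSubgroup ↥L) :=
      (Nat.card_congr ((fittingSubgroup ↥L).equivMapOfInjective _ L.subtype_injective).toEquiv).symm
    rw [h1]
    exact (CfsgH2.coprime_card_pPrimeCore p).coprime_dvd_left (Subgroup.card_dvd_of_le (fit_le_of hO))
  have hcop : (Nat.card ↥Y).Coprime (Nat.card ↥F) := by
    obtain ⟨n, hn⟩ := hY.exists_card_eq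
    rw [hn]; exact (hFc.pow_right n).symm
  have hYs : Group.IsSolvable ↥Y := CfsgH1.isSolvable_of_isPGroup hY
  have hF1 := CfsgH1.coprime_commutator_sup hYF hcop (Or.inl hYs)
  have hF2 := CfsgH1.coprime_commutator_idem hYF hcop (Or.inl hYs)
  -- the layer
  have hE1 : E ≤ ⁅⁅L, Y⁆, Y⁆ ⊔ (L ⊓ Subgroup.centralizer (Y : Set G)) := by
    rw [hEs]
    refine sSup_le ?_
    rintro K ⟨hK, hKL⟩
    by_cases hc : K ≤ Subgroup.centralizer (Y : Set G)
    · exact (le_inf hKL hc).trans le_sup_right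
    · exact (comp_le_comm hK hc (comp_le_comm hK hc hKL)).trans le_sup_left
  have hF3 : F ≤ ⁅⁅L, Y⁆, Y⁆ ⊔ (L ⊓ Subgroup.centralizer (Y : Set G)) := by
    rw [← hF1]
    refine sup_le_sup ?_ (inf_le_inf_right _ hFL)
    rw [← hF2]
    exact Subgroup.commutator_mono (Subgroup.commutator_mono hFL le_rfl) le_rfl
  have hL1 : L ≤ ⁅⁅L, Y⁆, Y⁆ ⊔ (L ⊓ Subgroup.centralizer (Y : Set G)) := by
    nth_rewrite 1 [← hEF]
    exact sup_le hE1 hF3
  have hLYL : ⁅L, Y⁆ ≤ L := by rw [← Subgroup.le_normalizer_iff_commutator_le_left]; exact hYL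
  have hLYYL : ⁅⁅L, Y⁆, Y⁆ ≤ ⁅L, Y⁆ := Subgroup.commutator_mono hLYL le_rfl
  refine ⟨le_antisymm (sup_le hLYL inf_le_left) (hL1.trans (sup_le_sup_right hLYYL _)), le_antisymm hLYYL ?_⟩
  -- [L,Y] ≤ [L,Y,Y]
  set M := ⁅⁅L, Y⁆, Y⁆ with hM
  have hMn : ⁅L, Y⁆ ≤ Subgroup.normalizer (M : Set G) := Subgroup.normalizer_commutator_ge_left _ _
  have hYM : Y ≤ Subgroup.normalizer (M : Set G) := Subgroup.normalizer_commutator_ge_right _ _
  -- C_L(Y) normalizes M
  have hCM : L ⊓ Subgroup.centralizer (Y : Set G) ≤ Subgroup.normalizer (M : Set G) := by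
    intro c hc
    obtain ⟨hcL, hcY⟩ := Subgroup.mem_inf.mp hc
    have h1 : c ∈ Subgroup.normalizer (Y : Set G) := Subgroup.centralizer_le_normalizer _ hcY
    rw [mem_normalizer_iff_cj, hM, cj_commutator, cj_commutator, cj_of_mem hcL, cj_of_mem_normalizer h1]
  rw [Subgroup.commutator_le]
  intro l hl y hy
  have h2 := hL1 hl
  rw [sup_comm, CfsgH1.mem_sup_of_le_normalizer hCM] at h2
  obtain ⟨c, hc, m, hm, rfl⟩ := h2
  have hcy : c * y = y * c := (Subgroup.mem_centralizer_iff.mp (Subgroup.mem_inf.mp hc).2 y hy).symm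
  have e : ⁅c * m, y⁆ = c * ⁅m, y⁆ * c⁻¹ := by
    rw [commutatorElement_def, commutatorElement_def]
    have h3 : c⁻¹ * y⁻¹ = y⁻¹ * c⁻¹ := by
      rw [← mul_inv_rev, ← mul_inv_rev, hcy]
    calc c * m * y * (c * m)⁻¹ * y⁻¹ = c * m * y * m⁻¹ * (c⁻¹ * y⁻¹) := by group
      _ = c * m * y * m⁻¹ * (y⁻¹ * c⁻¹) := by rw [h3]
      _ = _ := by group
  rw [e]
  have h4 : ⁅m, y⁆ ∈ M := by
    have h5 := (Subgroup.mem_normalizer_iff.mp (hYM hy) m⁻¹).mp (M.inv_mem hm)
    rw [commutatorElement_def]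
    have e2 : m * y * m⁻¹ * y⁻¹ = m * (y * m⁻¹ * y⁻¹) := by group
    rw [e2]; exact mul_mem hm h5
  exact (Subgroup.mem_normalizer_iff.mp (hCM hc) _).mp h4

/-- hypotheses for subnormal subgroups of `F*` -/
theorem qn_of {L : Subgroup G} (hO : pCore p G = ⊥) (hL : L.IsSubnormal) (hLF : L ≤ generalizedFittingSubgroup G) :
    generalizedFittingSubgroup ↥L = ⊤ ∧ pCore p ↥L = ⊥ := by
  refine ⟨CfsgH2.IsSubnormal.generalizedFittingSubgroup_eq_top hL hLF, ?_⟩
  have h1 : (pCore p ↥L).map L.subtype ≤ pCore p G := by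
    refine CfsgH2.IsSubnormal.le_pCore ?_ ((CfsgH2.isPGroup_pCore p).map _)
    exact Subgroup.IsSubnormal.trans' (Subgroup.Normal.isSubnormal inferInstance) hL
  rw [hO, le_bot_iff, Subgroup.map_eq_bot_iff_of_injective _ (Subgroup.subtype_injective _)] at h1
  exact h1

/-- `p`-groups act faithfully on `F*` -/
theorem faithful_gF (hO : pCore p G = ⊥) {Y : Subgroup G} (hY : IsPGroup p ↥Y) (hc : Y ≤ Subgroup.centralizer (generalizedFittingSubgroup G : Set G)) :
    Y = ⊥ := by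
  set Z := Subgroup.centralizer (generalizedFittingSubgroup G : Set G) with hZ
  have hZF : Z ≤ generalizedFittingSubgroup G := CfsgH2.centralizer_generalizedFittingSubgroup_le
  have hFn : (generalizedFittingSubgroup G).Normal := CfsgH2.generalizedFittingSubgroup_normal_inst
  have hZn : Z.Normal := Subgroup.normal_centralizer
  have h1 : Y.IsSubnormal := by
    refine Subgroup.IsSubnormal.step _ _ hc hZn.isSubnormal ?_
    rw [Subgroup.normal_subgroupOf_iff_le_normalizer hc]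
    intro z hz
    refine Subgroup.centralizer_le_normalizer _ ?_
    exact Subgroup.centralizer_le (hc.trans hZF) hz
  have h2 := CfsgH2.IsSubnormal.le_pCore h1 hY
  rwa [hO, le_bot_iff] at h2

omit [Finite G] in
theorem le_of_comm_eq_subnormal {K : Subgroup G} (hK : K.IsSubnormal) : ∀ {M Y : Subgroup G}, Y ≤ K → ⁅M, Y⁆ = M → M ≤ K := by
  induction hK with
  | top => intro M Y _ _; exact le_top
  | step H K hHK hKs hn ih =>
    intro M Y hY hM
    have h1 : M ≤ K := ih (hY.trans hHK) hM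
    rw [Subgroup.normal_subgroupOf_iff_le_normalizer hHK] at hn
    rw [← hM]
    refine (Subgroup.commutator_mono h1 hY).trans ?_
    rw [← Subgroup.le_normalizer_iff_commutator_le_right]
    exact hn

/-- S2816 -/
theorem S2816_all (hO : pCore p G = ⊥) {Y : Subgroup G} (hY : IsPGroup p ↥Y) :
    (∀ K : Subgroup G, K.IsSubnormal → Y ≤ K →
      ⁅generalizedFittingSubgroup G, Y⁆ = ⁅(generalizedFittingSubgroup ↥K).map K.subtype, Y⁆ ∧
      ⁅(generalizedFittingSubgroup ↥K).map K.subtype, Y⁆ = ⁅⁅(generalizedFittingSubgroup ↥K).map K.subtype, Y⁆, Y⁆) ∧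
    (∀ Y₀ : Subgroup G, Y₀ ≤ Y → ⁅⁅generalizedFittingSubgroup G, Y⁆, Y₀⁆ = ⊥ → Y₀ = ⊥) := by
  have hFn : (generalizedFittingSubgroup G).Normal := CfsgH2.generalizedFittingSubgroup_normal_inst
  have hnt : ∀ A : Subgroup G, A ≤ Subgroup.normalizer ((generalizedFittingSubgroup G : Subgroup G) : Set G) := by
    intro A; rw [Subgroup.normalizer_eq_top]; exact le_top
  have h0 := qn_of (p := p) hO hFn.isSubnormal le_rfl
  have hq := (qn_act hFn.isSubnormal h0.1 h0.2 hY (hnt Y)).2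
  refine ⟨fun K hK hYK => ?_, fun Y₀ hY0 h1 => ?_⟩
  · have e := CfsgH2.IsSubnormal.generalizedFittingSubgroup_inf hK
    rw [← e]
    have hs : (generalizedFittingSubgroup G ⊓ K).IsSubnormal := hFn.isSubnormal.inf hK
    have h2 := qn_of (p := p) hO hs inf_le_left
    have h3 : Y ≤ Subgroup.normalizer ((generalizedFittingSubgroup G ⊓ K : Subgroup G) : Set G) := by
      intro g hg
      rw [mem_normalizer_iff_cj, cj_inf, cj_of_normal, cj_of_mem (hYK hg)]
    have h4 := (qn_act hs h2.1 h2.2 hY h3).2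
    refine ⟨le_antisymm ?_ (Subgroup.commutator_mono inf_le_left le_rfl), h4.symm⟩
    have h5 := le_of_comm_eq_subnormal hK hYK hq
    have h6 : ⁅generalizedFittingSubgroup G, Y⁆ ≤ generalizedFittingSubgroup G := by
      rw [← Subgroup.le_normalizer_iff_commutator_le_left]; exact hnt Y
    rw [← hq]
    exact Subgroup.commutator_mono (le_inf h6 h5) le_rfl
  · apply faithful_gF hO (hY.to_le hY0)
    rw [Subgroup.le_centralizer_iff, ← Subgroup.commutator_eq_bot_iff_le_centralizer]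
    have h2 := (qn_act hFn.isSubnormal h0.1 h0.2 (hY.to_le hY0) (hnt Y₀)).2
    rw [← h2, eq_bot_iff, ← h1]
    exact Subgroup.commutator_mono (Subgroup.commutator_mono le_rfl hY0) le_rfl

end CfsgH7
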