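import Cfsg.Agent.H7.Iso8
import Cfsg.Agent.H7.QNil
import Cfsg.Agent.H7.Sections
import Cfsg.Agent.H2.PConstrained

set_option autoImplicit false
set_option linter.unusedSectionVars false

/-! Components not normalized by abelian normal subgroups; diagonals; automorphisms centralizing `T` and `E(G)`. -/

namespace CfsgH7

open Subgroup Cfsg
open scoped commutatorElement

section S2925

variable {G : Type*} [Group G] [Finite G]

theorem comp_cj {K : Subgroup G} (hK : IsComponent K) (g : G) : IsComponent (cj g K) := CfsgH2.IsComponent.map_conj hK g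

theorem comm_of_bot {A B : Subgroup G} (h : ⁅A, B⁆ = ⊥) {a b : G} (ha : a ∈ A) (hb : b ∈ B) : a * b = b * a := by
  rw [Subgroup.commutator_eq_bot_iff_le_centralizer] at h
  exact (Subgroup.mem_centralizer_iff.mp (h ha) b hb).symm

theorem S2925_comm {K : Subgroup G} (hK : IsComponent K) (T : Subgroup G) (Y : Subgroup G)
    (hYn : T ≤ Subgroup.normalizer (Y : Set G)) (hYab : ∀ a ∈ Y, ∀ b ∈ Y, a * b = b * a) {y : G} (hy : y ∈ Y)
    (hyK : cj y K ≠ K) {a b : G} (ha : a ∈ T) (haK : a ∈ K) (hb : b ∈ T) (hbK : b ∈ K) : ⁅a, b⁆ ∈ Subgroup.centralizer (K : Set G) := by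
  have hc := CfsgH2.IsComponent.commutator_eq_bot_of_ne hK (comp_cj hK y) (Ne.symm hyK)
  have key : ∀ u ∈ T, u * (y * u⁻¹ * y⁻¹) ∈ Y := by
    intro u hu
    have e : u * (y * u⁻¹ * y⁻¹) = (u * y * u⁻¹) * y⁻¹ := by group
    rw [e]
    exact Y.mul_mem ((Subgroup.mem_normalizer_iff.mp (hYn hu) y).mp hy) (Y.inv_mem hy)
  have hA := hYab _ (key a ha) _ (key b hb)
  have ha' : y * a⁻¹ * y⁻¹ ∈ cj y K := mem_cj_self (K.inv_mem haK)
  have hb' : y * b⁻¹ * y⁻¹ ∈ cj y K := mem_cj_self (K.inv_mem hbK)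
  have c1 : (y * a⁻¹ * y⁻¹) * b = b * (y * a⁻¹ * y⁻¹) := (comm_of_bot hc hbK ha').symm
  have c2 : (y * b⁻¹ * y⁻¹) * a = a * (y * b⁻¹ * y⁻¹) := (comm_of_bot hc haK hb').symm
  have h1 : ⁅a, b⁆ ∈ cj y K := by
    have h2 : (a * b) * ((y * a⁻¹ * y⁻¹) * (y * b⁻¹ * y⁻¹)) = (b * a) * ((y * b⁻¹ * y⁻¹) * (y * a⁻¹ * y⁻¹)) := by
      calc (a * b) * ((y * a⁻¹ * y⁻¹) * (y * b⁻¹ * y⁻¹)) = a * (b * (y * a⁻¹ * y⁻¹)) * (y * b⁻¹ * y⁻¹) := by group
        _ = a * ((y * a⁻¹ * y⁻¹) * b) * (y * b⁻¹ * y⁻¹) := by rw [c1]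
        _ = a * (y * a⁻¹ * y⁻¹) * (b * (y * b⁻¹ * y⁻¹)) := by group
        _ = (b * (y * b⁻¹ * y⁻¹)) * (a * (y * a⁻¹ * y⁻¹)) := hA
        _ = b * ((y * b⁻¹ * y⁻¹) * a) * (y * a⁻¹ * y⁻¹) := by group
        _ = b * (a * (y * b⁻¹ * y⁻¹)) * (y * a⁻¹ * y⁻¹) := by rw [c2]
        _ = (b * a) * ((y * b⁻¹ * y⁻¹) * (y * a⁻¹ * y⁻¹)) := by group
    have h4 : ⁅b, a⁆ = (b * a * b⁻¹ * a⁻¹) := rfl
    have h3 : (b * a)⁻¹ * (a * b) = ((y * b⁻¹ * y⁻¹) * (y * a⁻¹ * y⁻¹)) * ((y * a⁻¹ * y⁻¹) * (y * b⁻¹ * y⁻¹))⁻¹ := by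
      rw [inv_mul_eq_iff_eq_mul, ← mul_assoc (b * a), ← h2, mul_inv_cancel_right]
    -- `⁅a,b⁆ = (b a) ((b a)⁻¹ (a b)) (b a)⁻¹`
    have h5 : ((y * b⁻¹ * y⁻¹) * (y * a⁻¹ * y⁻¹)) * ((y * a⁻¹ * y⁻¹) * (y * b⁻¹ * y⁻¹))⁻¹ ∈ cj y K :=
      mul_mem (mul_mem hb' ha') (inv_mem (mul_mem ha' hb'))
    have h6 : ⁅a, b⁆ = (b * a) * ((b * a)⁻¹ * (a * b)) * (b * a)⁻¹ := by rw [commutatorElement_def]; group
    rw [h6, h3]
    have h7 := comm_of_bot hc (K.mul_mem hbK haK) h5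
    rw [h7, mul_inv_cancel_right]
    exact h5
  rw [Subgroup.mem_centralizer_iff]
  intro k hk
  exact comm_of_bot hc hk h1

theorem S2925_all (K : Subgroup G) (hK : IsComponent K) (T : Sylow 2 G) (Y : Subgroup G) (hYT : Y ≤ (T : Subgroup G))
    (hYn : (Y.subgroupOf (T : Subgroup G)).Normal) (hYab : IsMulCommutative ↥Y) (hnot : ¬ Y ≤ Subgroup.normalizer (K : Set G))
    (P : Sylow 2 (↥K ⧸ Subgroup.center ↥K)) : IsMulCommutative ↥(P : Subgroup (↥K ⧸ Subgroup.center ↥K)) := by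
  obtain ⟨y, hy, hyn⟩ := Set.not_subset.mp hnot
  have hyK : cj y K ≠ K := fun h => hyn (mem_normalizer_iff_cj.mpr h)
  have hTY := (Subgroup.normal_subgroupOf_iff_le_normalizer hYT).mp hYn
  have hYc : ∀ a ∈ Y, ∀ b ∈ Y, a * b = b * a := fun a ha b hb => congrArg Subtype.val (hYab.is_comm.comm (⟨a, ha⟩ : ↥Y) ⟨b, hb⟩)
  have hS := (isSyl_of_sylow T).subnormal hK.1
  obtain ⟨S, -, hSm⟩ := hS.exists_sylow
  set π := QuotientGroup.mk' (Subgroup.center ↥K) with hπ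
  have hScomm : ∀ a ∈ (S : Subgroup ↥K), ∀ b ∈ (S : Subgroup ↥K), π a * π b = π b * π a := by
    intro a ha b hb
    have ha' : (a : G) ∈ (T : Subgroup G) ⊓ K := by rw [← hSm]; exact ⟨a, ha, rfl⟩
    have hb' : (b : G) ∈ (T : Subgroup G) ⊓ K := by rw [← hSm]; exact ⟨b, hb, rfl⟩
    have h1 := S2925_comm hK _ Y hTY hYc hy hyK ha'.1 ha'.2 hb'.1 hb'.2
    have h2 : ⁅a, b⁆ ∈ Subgroup.center ↥K := by
      rw [Subgroup.mem_center_iff]
      intro k
      exact Subtype.ext (Subgroup.mem_centralizer_iff.mp h1 k k.2)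
    have h3 : π ⁅a, b⁆ = 1 := (QuotientGroup.eq_one_iff _).mpr h2
    rw [map_commutatorElement, commutatorElement_eq_one_iff_mul_comm] at h3
    exact h3
  have hSt := (isSyl_of_sylow S).map_top π (QuotientGroup.mk'_surjective _)
  obtain ⟨g, -, hg⟩ := hSt.conj (isSyl_of_sylow P)
  refine ⟨⟨?_⟩⟩
  rintro ⟨u, hu⟩ ⟨v, hv⟩
  apply Subtype.ext
  change u * v = v * u
  rw [← hg] at hu hv
  obtain ⟨_, ⟨a, ha, rfl⟩, rfl⟩ := hu
  obtain ⟨_, ⟨b, hb, rfl⟩, rfl⟩ := hv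
  have := congrArg (MulAut.conj g).toMonoidHom (hScomm a ha b hb)
  rwa [map_mul, map_mul] at this

end S2925

section S1921

variable {G : Type*} [Group G] [Finite G]

theorem S1921_all (a : G) (ha : orderOf a = 2) (L : Subgroup G) (hL : IsComponent L)
    (hLa : L.map (MulAut.conj a).toMonoidHom ≠ L) (x : G) (hxM : x ∈ L ⊔ L.map (MulAut.conj a).toMonoidHom)
    (hxJ : x ∉ Subgroup.closure {y : G | ∃ l ∈ L, y = l * (a * l * a⁻¹)} ⊔
      ((L ⊔ L.map (MulAut.conj a).toMonoidHom) ⊓ Subgroup.centralizer ((L ⊔ L.map (MulAut.conj a).toMonoidHom : Subgroup G) : Set G))) :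
    Subgroup.closure {y : G | ∃ l ∈ L, y = l * (a * l * a⁻¹)} ⊔ Subgroup.zpowers x = L ⊔ L.map (MulAut.conj a).toMonoidHom := by
  set La := cj a L with hLadef
  change x ∈ L ⊔ La at hxM
  change cj a L ≠ L at hLa
  set J := Subgroup.closure {y : G | ∃ l ∈ L, y = l * (a * l * a⁻¹)} with hJ
  change x ∉ J ⊔ ((L ⊔ La) ⊓ Subgroup.centralizer ((L ⊔ La : Subgroup G) : Set G)) at hxJ
  change J ⊔ Subgroup.zpowers x = L ⊔ La
  have hc := CfsgH2.IsComponent.commutator_eq_bot_of_ne hL (comp_cj hL a) (Ne.symm hLa)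
  have hcomm : ∀ u ∈ L, ∀ v ∈ La, u * v = v * u := fun u hu v hv => comm_of_bot hc hu hv
  have hLaL : La ≤ Subgroup.normalizer (L : Set G) := by
    have : La ≤ Subgroup.centralizer (L : Set G) := by
      intro v hv
      rw [Subgroup.mem_centralizer_iff]
      exact fun u hu => hcomm u hu v hv
    exact this.trans (Subgroup.centralizer_le_normalizer _)
  have hJmem : ∀ l ∈ L, l * (a * l * a⁻¹) ∈ J := fun l hl => Subgroup.subset_closure ⟨l, hl, rfl⟩
  have hJM : J ≤ L ⊔ La := by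
    rw [hJ, Subgroup.closure_le]
    rintro _ ⟨l, hl, rfl⟩
    exact mul_mem (Subgroup.mem_sup_left hl) (Subgroup.mem_sup_right (mem_cj_self hl))
  apply le_antisymm (sup_le hJM (by rwa [Subgroup.zpowers_le]))
  set R := J ⊔ Subgroup.zpowers x with hR
  obtain ⟨v', hv', u, hu, rfl⟩ := (CfsgH1.mem_sup_of_le_normalizer hLaL).mp (by rwa [sup_comm] : x ∈ La ⊔ L)
  obtain ⟨v, hv, rfl⟩ : ∃ v ∈ L, a * v * a⁻¹ = v' := by
    refine ⟨a⁻¹ * v' * a, mem_cj.mp hv', by group⟩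
  have hw : u * v⁻¹ ∈ R := by
    have h1 : (a * v * a⁻¹) * u ∈ R := Subgroup.mem_sup_right (Subgroup.mem_zpowers _)
    have h2 : v * (a * v * a⁻¹) ∈ R := Subgroup.mem_sup_left (hJmem v hv)
    have h3 := R.mul_mem h1 (R.inv_mem h2)
    have h4 : (a * v * a⁻¹) * u * (v * (a * v * a⁻¹))⁻¹ = u * v⁻¹ := by
      rw [← hcomm u hu _ hv']
      group
    rwa [h4] at h3
  have hwL : u * v⁻¹ ∈ L := L.mul_mem hu (L.inv_mem hv)
  have hwZ : u * v⁻¹ ∉ Subgroup.centralizer (L : Set G) := by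
    intro h
    apply hxJ
    have hz : u * v⁻¹ ∈ (L ⊔ La) ⊓ Subgroup.centralizer ((L ⊔ La : Subgroup G) : Set G) := by
      refine Subgroup.mem_inf.mpr ⟨Subgroup.mem_sup_left hwL, ?_⟩
      have h5 : L ⊔ La ≤ Subgroup.centralizer ({u * v⁻¹} : Set G) := by
        refine sup_le ?_ ?_
        · intro l hl
          exact mcs.mpr (Subgroup.mem_centralizer_iff.mp h l hl).symm
        · intro l hl
          exact mcs.mpr (hcomm _ hwL l hl)
      rw [Subgroup.mem_centralizer_iff]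
      intro m hm
      exact (mcs.mp (h5 hm)).symm
    have h6 : (a * v * a⁻¹) * u = (v * (a * v * a⁻¹)) * (u * v⁻¹) := by
      calc (a * v * a⁻¹) * u = u * (a * v * a⁻¹) := (hcomm u hu _ hv').symm
        _ = (u * v⁻¹) * (v * (a * v * a⁻¹)) := by group
        _ = (v * (a * v * a⁻¹)) * (u * v⁻¹) := by
          have h7 := Subgroup.mem_centralizer_iff.mp h v hv
          have h8 := hcomm _ hwL _ hv'
          calc (u * v⁻¹) * (v * (a * v * a⁻¹)) = ((u * v⁻¹) * v) * (a * v * a⁻¹) := (mul_assoc _ _ _).symm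
            _ = (v * (u * v⁻¹)) * (a * v * a⁻¹) := by rw [← h7]
            _ = v * ((u * v⁻¹) * (a * v * a⁻¹)) := mul_assoc _ _ _
            _ = v * ((a * v * a⁻¹) * (u * v⁻¹)) := by rw [h8]
            _ = (v * (a * v * a⁻¹)) * (u * v⁻¹) := (mul_assoc _ _ _).symm
    rw [h6]
    exact mul_mem (Subgroup.mem_sup_left (hJmem v hv)) (Subgroup.mem_sup_right hz)
  have hn : L ≤ Subgroup.normalizer ((R ⊓ L : Subgroup G) : Set G) := by
    intro l hl
    apply mem_normalizer_of_cj_le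
    intro y hy
    have hy' := mem_cj.mp hy
    obtain ⟨h1, h2⟩ := Subgroup.mem_inf.mp hy'
    have h3 : y ∈ L := by
      have e : y = l * (l⁻¹ * y * l) * l⁻¹ := by group
      rw [e]; exact L.mul_mem (L.mul_mem hl h2) (L.inv_mem hl)
    refine Subgroup.mem_inf.mpr ⟨?_, h3⟩
    have h4 : l * (a * l * a⁻¹) ∈ R := Subgroup.mem_sup_left (hJmem l hl)
    have h5 := R.mul_mem (R.mul_mem h4 h1) (R.inv_mem h4)
    have h6 := hcomm _ h2 _ (mem_cj_self hl : a * l * a⁻¹ ∈ La)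
    have h7 : l * (a * l * a⁻¹) * (l⁻¹ * y * l) * (l * (a * l * a⁻¹))⁻¹ = y := by
      calc l * (a * l * a⁻¹) * (l⁻¹ * y * l) * (l * (a * l * a⁻¹))⁻¹ = l * ((a * l * a⁻¹) * (l⁻¹ * y * l)) * (l * (a * l * a⁻¹))⁻¹ := by group
        _ = l * ((l⁻¹ * y * l) * (a * l * a⁻¹)) * (l * (a * l * a⁻¹))⁻¹ := by rw [h6]
        _ = y := by group
    rwa [h7] at h5
  have hLR : L ≤ R := by
    rcases qs_normal hL.2 inf_le_right hn with h | h
    · rw [← h]; exact inf_le_left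
    · exact absurd (h (Subgroup.mem_inf.mpr ⟨hw, hwL⟩)) hwZ
  refine sup_le hLR ?_
  intro y hy
  have h1 := mem_cj.mp hy
  have h2 : (a⁻¹ * y * a) * (a * (a⁻¹ * y * a) * a⁻¹) ∈ R := Subgroup.mem_sup_left (hJmem _ h1)
  have h3 := R.mul_mem (R.inv_mem (hLR h1)) h2
  have h4 : (a⁻¹ * y * a)⁻¹ * ((a⁻¹ * y * a) * (a * (a⁻¹ * y * a) * a⁻¹)) = y := by group
  rwa [h4] at h3

end S1921

section S1941

variable {G : Type*} [Group G] [Finite G] {p : ℕ} [hp : Fact p.Prime]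

theorem S1941_all (hcore : pPrimeCore p G = ⊥)
    (T : Sylow p G) (α : MulAut G) (hfixT : ∀ x ∈ (T : Subgroup G), α x = x)
    (hfixE : ∀ x ∈ layer G, α x = x) : ∃ g : G, ∀ x : G, α x = g * x * g⁻¹ := by
  classical
  set A := Subgroup.centralizer (generalizedFittingSubgroup G : Set G) with hA
  have hFn : (generalizedFittingSubgroup G).Normal := by
    unfold generalizedFittingSubgroup; infer_instance
  have hAn : A.Normal := inferInstance
  have hOT : pCore p G ≤ (T : Subgroup G) := by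
    have := core_le_syl (p := p) (isSyl_of_sylow T)
    rwa [show pCoreOf p (⊤ : Subgroup G) = pCore p G from CfsgH2.pCore_top p] at this
  have hAF : A ≤ fittingSubgroup G := CfsgH2.centralizer_generalizedFittingSubgroup_le_fittingSubgroup
  have hfp := CfsgH2.fittingSubgroup_eq_pCore_of_pPrimeCore_eq_bot hcore
  have hAT : A ≤ (T : Subgroup G) := by rw [hfp] at hAF; exact hAF.trans hOT
  have hAc : ∀ a ∈ A, ∀ b ∈ A, a * b = b * a := by
    intro a ha b hb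
    exact (Subgroup.mem_centralizer_iff.mp hb a (Subgroup.mem_sup_right (hAF ha)))
  have hfixF : ∀ x ∈ generalizedFittingSubgroup G, α x = x := by
    have h1 : generalizedFittingSubgroup G ≤ (MonoidHom.eqLocus (α : G →* G) (MonoidHom.id G)) := by
      unfold generalizedFittingSubgroup
      refine sup_le hfixE ?_
      rw [hfp]
      exact fun x hx => hfixT x (hOT hx)
    exact fun x hx => h1 hx
  let f : G → G := fun g => α g * g⁻¹
  have hfA : ∀ g, f g ∈ A := by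
    intro g
    rw [hA, Subgroup.mem_centralizer_iff]
    intro h hh
    have h1 : g⁻¹ * h * g ∈ generalizedFittingSubgroup G := by
      have := hFn.conj_mem h hh g⁻¹
      rwa [inv_inv] at this
    have h2 := hfixF _ h1
    rw [map_mul, map_mul, map_inv, hfixF h hh] at h2
    change h * (α g * g⁻¹) = α g * g⁻¹ * h
    calc h * (α g * g⁻¹) = α g * ((α g)⁻¹ * h * α g) * g⁻¹ := by group
      _ = α g * (g⁻¹ * h * g) * g⁻¹ := by rw [h2]
      _ = α g * g⁻¹ * h := by group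
  have hcoc : ∀ g h, f (g * h) = (g * f h * g⁻¹) * f g := by
    intro g h
    have h1 : g * f h * g⁻¹ ∈ A := hAn.conj_mem _ (hfA h) g
    have h2 := hAc _ h1 _ (hfA g)
    change g * (α h * h⁻¹) * g⁻¹ * (α g * g⁻¹) = α g * g⁻¹ * (g * (α h * h⁻¹) * g⁻¹) at h2
    change α (g * h) * (g * h)⁻¹ = (g * (α h * h⁻¹) * g⁻¹) * (α g * g⁻¹)
    rw [h2, map_mul]; group
  have hfT : ∀ t ∈ (T : Subgroup G), f t = 1 := by
    intro t ht
    change α t * t⁻¹ = 1
    rw [hfixT t ht, mul_inv_cancel]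
  have hright : ∀ g, ∀ t ∈ (T : Subgroup G), f (g * t) = f g := by
    intro g t ht
    rw [hcoc, hfT t ht]; group
  let _ : CommGroup ↥A := { (inferInstance : Group ↥A) with mul_comm := fun a b => Subtype.ext (hAc a a.2 b b.2) }
  let F : G ⧸ (T : Subgroup G) → ↥A := fun q => ⟨f q.out, hfA _⟩
  have hF : ∀ g : G, F (QuotientGroup.mk g) = ⟨f g, hfA g⟩ := by
    intro g
    apply Subtype.ext
    change f (QuotientGroup.mk g : G ⧸ (T : Subgroup G)).out = f g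
    obtain ⟨t, ht⟩ := QuotientGroup.mk_out_eq_mul (T : Subgroup G) g
    rw [ht, hright g t t.2]
  let cjA : G → ↥A →* ↥A := fun g => 
    { toFun := fun a => ⟨g * a * g⁻¹, hAn.conj_mem _ a.2 g⟩
      map_one' := Subtype.ext (by simp)
      map_mul' := fun a b => Subtype.ext (by
        change g * ((a : G) * (b : G)) * g⁻¹ = (g * a * g⁻¹) * (g * b * g⁻¹)
        group) }
  have hFs : ∀ (h : G) (q : G ⧸ (T : Subgroup G)), F (h • q) = cjA h (F q) * ⟨f h, hfA h⟩ := by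
    intro h q
    obtain ⟨g, rfl⟩ := QuotientGroup.mk_surjective q
    have h1 : h • (QuotientGroup.mk g : G ⧸ (T : Subgroup G)) = QuotientGroup.mk (h * g) := rfl
    rw [h1, hF, hF]
    exact Subtype.ext (hcoc h g)
  have : Fintype (G ⧸ (T : Subgroup G)) := Fintype.ofFinite _
  set b : ↥A := ∏ q, F q with hb
  set m := Fintype.card (G ⧸ (T : Subgroup G)) with hm
  have hprod : ∀ h : G, b = cjA h b * (⟨f h, hfA h⟩ : ↥A) ^ m := by
    intro h
    have h1 : ∏ q, F (h • q) = b := Equiv.prod_comp (MulAction.toPerm h : Equiv.Perm (G ⧸ (T : Subgroup G))) F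
    calc b = ∏ q, F (h • q) := h1.symm
      _ = ∏ q, (cjA h (F q) * (⟨f h, hfA h⟩ : ↥A)) := Finset.prod_congr rfl (fun q _ => hFs h q)
      _ = cjA h b * (⟨f h, hfA h⟩ : ↥A) ^ m := by
        rw [Finset.prod_mul_distrib, Finset.prod_const, Finset.card_univ, ← map_prod]
  have hmA : m.Coprime (Nat.card ↥A) := by
    have h1 : m = (T : Subgroup G).index := by rw [hm, Subgroup.index, Nat.card_eq_fintype_card]
    obtain ⟨k, hk⟩ := IsPGroup.iff_card.mp (T.isPGroup'.to_le hAT)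
    rw [h1, hk]
    exact ((Nat.Prime.coprime_iff_not_dvd hp.out).mpr T.not_dvd_index).symm.pow_right k
  obtain ⟨m', hpow⟩ : ∃ m' : ℕ, ∀ c : ↥A, (c ^ m) ^ m' = c := by
    have h1 : (m * (m.gcdA (Nat.card ↥A)) + Nat.card ↥A * (m.gcdB (Nat.card ↥A)) : ℤ) = 1 := by
      rw [← Nat.gcd_eq_gcd_ab, hmA.gcd_eq_one, Nat.cast_one]
    set N := Nat.card ↥A with hN
    set u : ℤ := (m.gcdA N) with hu
    refine ⟨(u % N).toNat, fun c => ?_⟩
    have hNpos : (0 : ℤ) < N := by exact_mod_cast Nat.card_pos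
    have h2 : ((u % N).toNat : ℤ) = u % N := Int.toNat_of_nonneg (Int.emod_nonneg _ hNpos.ne')
    have hcN : c ^ N = 1 := pow_card_eq_one'
    rw [← zpow_natCast, ← zpow_natCast, ← zpow_mul, h2]
    have h3 : (m : ℤ) * (u % N) = 1 + N * (-(m.gcdB N) - m * (u / N)) := by
      have h4 := Int.emod_add_mul_ediv u N
      have h5 : u % N = u - N * (u / N) := by linarith
      rw [h5]
      linarith
    rw [h3, zpow_add, zpow_one, zpow_mul, zpow_natCast, hcN, one_zpow, mul_one]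
  refine ⟨(b ^ m' : ↥A), fun x => ?_⟩
  have h1 := hprod x
  have h2 : (⟨f x, hfA x⟩ : ↥A) ^ m = b * (cjA x b)⁻¹ := by
    rw [eq_mul_inv_iff_mul_eq, mul_comm]; exact h1.symm
  have h3 := congrArg (· ^ m') h2
  change ((⟨f x, hfA x⟩ : ↥A) ^ m) ^ m' = (b * (cjA x b)⁻¹) ^ m' at h3
  rw [hpow, mul_pow, inv_pow, ← map_pow] at h3
  have h4 := congrArg Subtype.val h3
  change α x * x⁻¹ = (b ^ m' : ↥A) * (x * (b ^ m' : ↥A) * x⁻¹)⁻¹ at h4
  generalize ((b ^ m' : ↥A) : G) = c at h4 ⊢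
  calc α x = (α x * x⁻¹) * x := by group
    _ = c * (x * c * x⁻¹)⁻¹ * x := by rw [h4]
    _ = c * x * c⁻¹ := by group

end S1941

end CfsgH7
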