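import Cfsg.Agent.H7.Iso8
import Cfsg.Agent.H2.FrobType
import Cfsg.Agent.H1.PUnique

set_option autoImplicit false
set_option linter.unusedSectionVars false

/-! Weakly closed elements; splitting over natural modules; groups with a very small subgroup. -/

namespace CfsgH7

open Subgroup Cfsg
open scoped commutatorElement

universe u

section S3064

variable {p : ℕ} [hp : Fact p.Prime]

theorem zc_aux (n : ℕ) : ∀ (G : Type u) [Group G] [Finite G], Nat.card G = n → ∀ x : G, (∃ k, orderOf x = p ^ k) → IsIsolated x →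
    (∀ H : Subgroup G, (Nat.card H).Coprime p → (∀ h ∈ H, x * h * x⁻¹ ∈ H) → ∀ h ∈ H, x * h = h * x) → ∀ g : G, g * x * g⁻¹ = x := by
  induction n using Nat.strong_induction_on with
  | _ n ih =>
  intro G _ _ hcard x hx hiso hb
  by_contra hnc
  have hsub : ∀ H : Subgroup G, x ∈ H → H ≠ ⊤ → H ≤ Subgroup.centralizer ({x} : Set G) := by
    intro H hxH hne h hh
    have hlt : Nat.card ↥H < n := by
      rw [← hcard]
      refine lt_of_le_of_ne (Nat.le_of_dvd Nat.card_pos (Subgroup.card_subgroup_dvd_card H)) fun h1 => hne ?_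
      exact Subgroup.eq_top_of_card_eq H h1
    have h1 := ih _ hlt ↥H rfl ⟨x, hxH⟩ (by rwa [Subgroup.orderOf_mk]) (by
      intro g hg
      exact Subtype.ext (hiso g (congrArg Subtype.val hg))) (by
      intro K hK hKn k hk
      have h2 := hb (K.map H.subtype) (by rwa [Subgroup.card_map_of_injective H.subtype_injective]) (by
        rintro _ ⟨y, hy, rfl⟩
        exact ⟨_, hKn y hy, rfl⟩) (k : G) ⟨k, hk, rfl⟩
      exact Subtype.ext h2) ⟨h, hh⟩
    exact mcs.mpr (eq_comm_of_conj (congrArg Subtype.val h1))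
  have hO : pPrimeCore p G = ⊥ := by
    by_contra hne
    set N := pPrimeCore p G with hN
    have hNn : N.Normal := inferInstance
    have hNp : (Nat.card ↥N).Coprime p := CfsgH2.coprime_card_pPrimeCore p
    have hlt : Nat.card (G ⧸ N) < n := by
      rw [← hcard, Subgroup.card_eq_card_quotient_mul_card_subgroup N]
      have h1 : 1 < Nat.card ↥N := (Subgroup.one_lt_card_iff_ne_bot N).mpr hne
      exact lt_mul_of_one_lt_right Nat.card_pos h1
    have h1 := ih _ hlt (G ⧸ N) rfl (QuotientGroup.mk x) (by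
      obtain ⟨k, hk⟩ := hx
      have h2 : orderOf (QuotientGroup.mk x : G ⧸ N) ∣ p ^ k := by
        rw [← hk]; exact orderOf_map_dvd (QuotientGroup.mk' N) x
      obtain ⟨j, -, hj⟩ := (Nat.dvd_prime_pow hp.out).mp h2
      exact ⟨j, hj⟩) (iso_quot hx hiso N) (by
      intro K hK hKn k hk
      obtain ⟨k', rfl⟩ := QuotientGroup.mk_surjective k
      have h3 := hb (K.comap (QuotientGroup.mk' N)) (by
        rw [CfsgH2.card_comap_mk' N K]
        first
        | exact Nat.Coprime.mul_left hNp hK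
        | exact Nat.Coprime.mul_left hK hNp) (by
        intro h hh
        exact hKn _ hh) k' hk
      rw [← QuotientGroup.mk_mul, h3, QuotientGroup.mk_mul])
    apply hnc
    intro g
    have h2 := h1 (QuotientGroup.mk g)
    have h3 : g * x * g⁻¹ * x⁻¹ ∈ N := by
      rw [← QuotientGroup.eq_one_iff]
      rw [QuotientGroup.mk_mul, QuotientGroup.mk_mul, QuotientGroup.mk_mul, QuotientGroup.mk_inv, QuotientGroup.mk_inv, h2, mul_inv_cancel]
    have h4 := hb N hNp (fun h hh => hNn.conj_mem h hh x) _ h3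
    apply hiso
    change x * (g * x * g⁻¹) = g * x * g⁻¹ * x
    calc x * (g * x * g⁻¹) = x * (g * x * g⁻¹ * x⁻¹) * x := by group
      _ = (g * x * g⁻¹ * x⁻¹) * x * x := by rw [h4]
      _ = g * x * g⁻¹ * x := by group
  set C := Subgroup.centralizer ({x} : Set G) with hC
  have hxC : x ∈ C := mcs.mpr rfl
  have hCne : C ≠ ⊤ := by
    intro h
    apply hnc
    intro g
    have h1 : g ∈ C := by rw [h]; exact Subgroup.mem_top g
    rw [← mcs.mp h1, mul_inv_cancel_right]
  set Z := Subgroup.center G with hZ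
  have hZC : Z ≤ C := by
    intro z hz
    exact mcs.mpr (Subgroup.mem_center_iff.mp hz x)
  have hTI : ∀ g : G, g ∉ C → ∀ y ∈ C, g⁻¹ * y * g ∈ C → y ∈ Z := by
    intro g hg y hy hy'
    by_contra hyZ
    have hD : Subgroup.centralizer ({y} : Set G) ≠ ⊤ := by
      intro h
      apply hyZ
      rw [Subgroup.mem_center_iff]
      intro w
      have h1 : w ∈ Subgroup.centralizer ({y} : Set G) := by rw [h]; exact Subgroup.mem_top w
      exact (mcs.mp h1).symm
    have h1 := hsub _ (mcs.mpr (mcs.mp hy).symm) hD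
    have h2 : g * x * g⁻¹ ∈ Subgroup.centralizer ({y} : Set G) := by
      rw [mcs]
      have h3 := mcs.mp hy'
      calc y * (g * x * g⁻¹) = g * ((g⁻¹ * y * g) * x) * g⁻¹ := by group
        _ = g * (x * (g⁻¹ * y * g)) * g⁻¹ := by rw [h3]
        _ = g * x * g⁻¹ * y := by group
    have h3 := hiso g (mcs.mp (h1 h2))
    exact hg (mcs.mpr (eq_comm_of_conj h3))
  set π := QuotientGroup.mk' Z with hπ
  have hZπ : ∀ y : G, π y ∈ C.map π → y ∈ C := by
    rintro y ⟨c, hc, he⟩
    have h1 : c⁻¹ * y ∈ Z := (QuotientGroup.eq).mp he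
    have h2 := C.mul_mem hc (hZC h1)
    rwa [mul_inv_cancel_left] at h2
  have hxZ : x ∉ Z := by
    intro h
    apply hnc
    intro g
    rw [Subgroup.mem_center_iff.mp h g, mul_inv_cancel_right]
  have hx1 : π x ≠ 1 := fun h => hxZ ((QuotientGroup.eq_one_iff x).mp h)
  have hfrob : IsFrobeniusComplement (C.map π) := by
    refine ⟨?_, ?_, ?_⟩
    · intro h
      have h1 : π x ∈ C.map π := ⟨x, hxC, rfl⟩
      rw [h, Subgroup.mem_bot] at h1
      exact hx1 h1
    · intro h
      apply hCne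
      rw [eq_top_iff]
      intro y _
      apply hZπ
      rw [h]; exact Subgroup.mem_top _
    · intro g' hg'
      obtain ⟨g, rfl⟩ := QuotientGroup.mk'_surjective Z g'
      have hg : g ∉ C := fun h => hg' ⟨g, h, rfl⟩
      rw [eq_bot_iff]
      intro y' hy'
      obtain ⟨h1, h2⟩ := Subgroup.mem_inf.mp hy'
      obtain ⟨y, rfl⟩ := QuotientGroup.mk'_surjective Z y'
      have h3 : g⁻¹ * y * g ∈ C := by
        apply hZπ
        rw [Subgroup.mem_pointwise_smul_iff_inv_smul_mem] at h2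
        have e : (MulAut.conj (π g))⁻¹ • (π y) = π (g⁻¹ * y * g) := by
          rw [← map_inv, MulAut.smul_def, MulAut.conj_apply, map_mul, map_mul, map_inv, inv_inv]
        rw [e] at h2; exact h2
      exact (QuotientGroup.eq_one_iff y).mpr (hTI g hg y (hZπ y h1) h3)
  obtain ⟨K, hKn, -, hK1, -, -, hcop, -⟩ := CfsgH2.frob_data hfrob
  apply hK1
  rw [eq_bot_iff, ← quot_core_bot hO Z le_rfl]
  apply CfsgH2.le_pPrimeCore hKn
  refine (Nat.Coprime.coprime_dvd_left ?_ hcop).symm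
  obtain ⟨k, hk⟩ := hx
  have h2 : orderOf (π x) ∣ p ^ k := by
    rw [← hk]; exact orderOf_map_dvd π x
  obtain ⟨j, -, hj⟩ := (Nat.dvd_prime_pow hp.out).mp h2
  have hj0 : j ≠ 0 := by
    rintro rfl
    rw [pow_zero, orderOf_eq_one_iff] at hj
    exact hx1 hj
  have h3 : orderOf (π x) ∣ Nat.card ↥(C.map π) := by
    have h4 : Subgroup.zpowers (π x) ≤ C.map π := by
      rw [Subgroup.zpowers_le]; exact ⟨x, hxC, rfl⟩
    rw [← Nat.card_zpowers]; exact Subgroup.card_dvd_of_le h4
  rw [hj] at h3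
  exact (dvd_pow_self p hj0).trans h3

theorem S3064_all {G : Type u} [Group G] [Finite G] (S : Sylow p G) (x : G) (hx : x ∈ S)
    (hU : ∀ g : G, g⁻¹ * x * g ∈ S → g⁻¹ * x * g = x)
    (hb : ∀ H : Subgroup G, (Nat.card H).Coprime p → (∀ h ∈ H, x * h * x⁻¹ ∈ H) → ∀ h ∈ H, x * h = h * x) :
    x ∈ Subgroup.center G := by
  have hxo : ∃ k, orderOf x = p ^ k := by
    obtain ⟨k, hk⟩ := isPGroup_pow_mem S.isPGroup' hx
    obtain ⟨j, -, hj⟩ := (Nat.dvd_prime_pow hp.out).mp (orderOf_dvd_of_pow_eq_one hk)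
    exact ⟨j, hj⟩
  have hU' : ∀ h : G, h * x * h⁻¹ ∈ (S : Subgroup G) → h * x * h⁻¹ = x := by
    intro h hh
    have := hU h⁻¹ (by rw [inv_inv]; exact hh)
    rwa [inv_inv] at this
  have hiso : IsIsolated x := by
    intro g hg
    have hxp := zp_isPGroup hxo
    have hle : Subgroup.zpowers x ≤ Subgroup.normalizer (Subgroup.zpowers (g * x * g⁻¹) : Set G) := by
      rw [Subgroup.zpowers_le]
      apply centralizer_le_normalizer_zpowers
      exact mcs.mpr hg.symm
    have hgp : IsPGroup p ↥(Subgroup.zpowers (g * x * g⁻¹)) := by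
      rw [← cj_zpowers]; exact isPGroup_cj g hxp
    have hR := IsPGroup.to_sup_of_normal_right' hxp hgp hle
    obtain ⟨h, -, hh⟩ := (isSyl_of_sylow S).exists_conj_le hR le_top
    have h1 := hU' h (hh (mem_cj_self (Subgroup.mem_sup_left (Subgroup.mem_zpowers x))))
    have h2 : h * (g * x * g⁻¹) * h⁻¹ ∈ (S : Subgroup G) := hh (mem_cj_self (Subgroup.mem_sup_right (Subgroup.mem_zpowers _)))
    have e : h * (g * x * g⁻¹) * h⁻¹ = (h * g) * x * (h * g)⁻¹ := by group
    rw [e] at h2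
    have h3 := hU' _ h2
    rw [← e] at h3
    have h4 : h * (g * x * g⁻¹) * h⁻¹ = h * x * h⁻¹ := by rw [h3, h1]
    exact mul_left_cancel (mul_right_cancel h4)
  rw [Subgroup.mem_center_iff]
  intro g
  exact (eq_comm_of_conj (zc_aux _ G rfl x hxo hiso hb g)).symm

end S3064

section S3075

variable {N : Type*} [Group N] [Finite N] {p : ℕ} [hp : Fact p.Prime]

theorem le_norm_normal9 {A D : Subgroup N} [D.Normal] : A ≤ Subgroup.normalizer (D : Set N) := by
  rw [Subgroup.normalizer_eq_top]; exact le_top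

theorem cyc_normal_comm {c : N} (hc : (Subgroup.zpowers c).Normal) (g h : N) : (g * h) * c * (g * h)⁻¹ = (h * g) * c * (h * g)⁻¹ := by
  obtain ⟨i, hi⟩ := hc.conj_mem c (Subgroup.mem_zpowers c) g
  obtain ⟨j, hj⟩ := hc.conj_mem c (Subgroup.mem_zpowers c) h
  change c ^ i = g * c * g⁻¹ at hi
  change c ^ j = h * c * h⁻¹ at hj
  have h1 : (g * h) * c * (g * h)⁻¹ = c ^ (i * j) := by
    calc (g * h) * c * (g * h)⁻¹ = g * (h * c * h⁻¹) * g⁻¹ := by group
      _ = g * c ^ j * g⁻¹ := by rw [hj]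
      _ = (g * c * g⁻¹) ^ j := conj_zpow.symm
      _ = c ^ (i * j) := by rw [← hi, zpow_mul]
  have h2 : (h * g) * c * (h * g)⁻¹ = c ^ (j * i) := by
    calc (h * g) * c * (h * g)⁻¹ = h * (g * c * g⁻¹) * h⁻¹ := by group
      _ = h * c ^ i * h⁻¹ := by rw [hi]
      _ = (h * c * h⁻¹) ^ i := conj_zpow.symm
      _ = c ^ (j * i) := by rw [← hj, zpow_mul]
  rw [h1, h2, mul_comm]

theorem S3075_all (hp2 : p ≠ 2) (A : Subgroup N) [hAn : A.Normal] (hAc : ∀ a ∈ A, ∀ b ∈ A, a * b = b * a) (hAcard : Nat.card A = p ^ 2)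
    (hAself : Subgroup.centralizer (A : Set N) = A)
    {F : Type*} [Field F] [Fintype F] (hF : Fintype.card F = p) (e : N ⧸ A ≃* Matrix.SpecialLinearGroup (Fin 2) F) :
    ∃ U : Subgroup N, A ⊓ U = ⊥ ∧ A ⊔ U = ⊤ := by
  have h2F : (2 : F) ≠ 0 := by
    intro h
    have hchar : CharP F 2 := by
      refine CharTwo.of_one_ne_zero_of_two_eq_zero one_ne_zero h
    obtain ⟨n, -, hn⟩ := FiniteField.card F 2
    rw [hF] at hn
    have h3 : 2 ∣ p := by rw [hn]; exact dvd_pow_self 2 n.ne_zero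
    exact hp2 ((Nat.prime_dvd_prime_iff_eq Nat.prime_two hp.out).mp h3).symm
  have hpodd : Odd p := hp.out.odd_of_ne_two hp2
  obtain ⟨m, hm⟩ : ∃ m, p ^ 2 = 2 * m + 1 := hpodd.pow
  have hAp : ∀ a ∈ A, a ^ (2 * m + 1) = 1 := by
    intro a ha
    rw [← hm, ← hAcard]
    have h1 : (⟨a, ha⟩ : ↥A) ^ Nat.card ↥A = 1 := pow_card_eq_one'
    exact congrArg Subtype.val h1
  have hA2 : ∀ a ∈ A, a * a = 1 → a = 1 := by
    intro a ha h
    have h1 := hAp a ha
    rw [pow_succ, pow_mul, pow_two, h, one_pow, one_mul] at h1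
    exact h1
  set π := QuotientGroup.mk' A with hπ
  have hkerπ : ∀ y : N, π y = 1 ↔ y ∈ A := fun y => QuotientGroup.eq_one_iff y
  obtain ⟨t₀, ht₀⟩ := QuotientGroup.mk'_surjective A (e.symm (-1))
  have ht₀2 : t₀ * t₀ ∈ A := by
    rw [← hkerπ, map_mul, ht₀, ← map_mul]
    simp
  set t := t₀ ^ (2 * m + 1) with ht
  have hπt : π t = e.symm (-1) := by
    rw [ht, pow_succ, pow_mul, map_mul, map_pow, pow_two, (hkerπ _).mpr ht₀2, one_pow, one_mul]
    exact ht₀
  have htt : t * t = 1 := by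
    have h1 : t * t = (t₀ * t₀) ^ (2 * m + 1) := by
      rw [ht, ← pow_two, ← pow_mul, ← pow_two, ← pow_mul, mul_comm]
    rw [h1]; exact hAp _ ht₀2
  have htinv : t⁻¹ = t := inv_eq_of_mul_eq_one_left htt
  have htA : t ∉ A := by
    intro h
    have h1 := (hkerπ t).mpr h
    rw [hπt] at h1
    have h2 : (-1 : Matrix.SpecialLinearGroup (Fin 2) F) = 1 := by
      have := congrArg e h1
      simpa using this
    have h3 := congrArg (fun M : Matrix.SpecialLinearGroup (Fin 2) F => (M : Matrix (Fin 2) (Fin 2) F) 0 0) h2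
    simp at h3
    apply h2F
    have h4 : (1 : F) + 1 = 0 := by
      nth_rewrite 1 [← h3]
      ring
    rw [← one_add_one_eq_two]; exact h4
  have hcent : ∀ g : N, g * t * g⁻¹ * t⁻¹ ∈ A := by
    intro g
    rw [← hkerπ, map_mul, map_mul, map_mul, map_inv, map_inv, hπt, mul_inv_eq_one, mul_inv_eq_iff_eq_mul]
    apply e.injective
    rw [map_mul, map_mul, MulEquiv.apply_symm_apply]
    simp
  -- `N = A C(t)`
  set U := Subgroup.centralizer ({t} : Set N) with hU
  have htop : A ⊔ U = ⊤ := by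
    rw [eq_top_iff]
    intro g _
    set a := g * t * g⁻¹ * t⁻¹ with ha
    have haA : a ∈ A := hcent g
    have hta : t * a * t = a⁻¹ := by
      rw [ha]
      have : t * (g * t * g⁻¹ * t⁻¹) * t = t * (g * t * g⁻¹) := by group
      rw [this, mul_inv_rev, inv_inv, mul_inv_rev, mul_inv_rev, inv_inv, htinv]
      group
    set b := a ^ (m + 1) with hb
    have hbA : b ∈ A := A.pow_mem haA _
    have hbb : b * b = a := by
      rw [hb, ← pow_add]
      have : m + 1 + (m + 1) = (2 * m + 1) + 1 := by ring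
      rw [this, pow_succ, hAp a haA, one_mul]
    have htb : t * b * t = b⁻¹ := by
      have h1 : t * b * t = (t * a * t) ^ (m + 1) := by
        have h2 : t * a * t = t * a * t⁻¹ := by rw [htinv]
        have h3 : t * b * t = t * b * t⁻¹ := by rw [htinv]
        rw [h2, h3, hb]
        exact conj_pow.symm
      rw [h1, hta, hb, inv_pow]
    have h1 : b * t * b⁻¹ = g * t * g⁻¹ := by
      have h2 : g * t * g⁻¹ = a * t := by rw [ha]; group
      rw [h2, ← htb]
      calc b * t * (t * b * t) = b * (t * t) * b * t := by group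
        _ = (b * b) * t := by rw [htt]; group
        _ = a * t := by rw [hbb]
    have h2 : b⁻¹ * g ∈ U := by
      rw [hU, mcs]
      calc t * (b⁻¹ * g) = b⁻¹ * (b * t * b⁻¹) * g := by group
        _ = b⁻¹ * (g * t * g⁻¹) * g := by rw [h1]
        _ = b⁻¹ * g * t := by group
    have h3 : g = b * (b⁻¹ * g) := by group
    rw [h3]
    exact mul_mem (Subgroup.mem_sup_left hbA) (Subgroup.mem_sup_right h2)
  refine ⟨U, ?_, htop⟩
  -- action of conjugates of `t` on `A`
  have hact : ∀ g : N, ∀ a ∈ A, t * (g * a * g⁻¹) * t = g * (t * a * t) * g⁻¹ := by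
    intro g a ha
    have h1 : g⁻¹ * t * g * t⁻¹ ∈ A := by
      have := hcent g⁻¹
      rwa [inv_inv] at this
    set c := g⁻¹ * t * g * t⁻¹ with hc
    have h2 : g⁻¹ * t * g = c * t := by rw [hc]; group
    have htat : t * a * t ∈ A := by
      have := hAn.conj_mem a ha t
      rwa [htinv] at this
    calc t * (g * a * g⁻¹) * t = g * ((g⁻¹ * t * g) * a * (g⁻¹ * t * g)⁻¹) * g⁻¹ * (t * t) := by group
      _ = g * ((c * t) * a * (c * t)⁻¹) * g⁻¹ := by rw [h2, htt, mul_one]
      _ = g * (c * (t * a * t) * c⁻¹) * g⁻¹ := by rw [mul_inv_rev, htinv]; group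
      _ = g * (t * a * t) * g⁻¹ := by rw [hAc c h1 _ htat, mul_inv_cancel_right]
  by_contra hne
  set A₁ := A ⊓ U with hA₁
  have htt' : ∀ a b : N, t * (a * b) * t = (t * a * t) * (t * b * t) := by
    intro a b
    calc t * (a * b) * t = t * a * (1 : N) * b * t := by group
      _ = t * a * (t * t) * b * t := by rw [htt]
      _ = (t * a * t) * (t * b * t) := by group
  let A₂ : Subgroup N :=
    { carrier := {a | a ∈ A ∧ t * a * t = a⁻¹}
      mul_mem' := by
        rintro a b ⟨ha, ha'⟩ ⟨hb, hb'⟩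
        refine ⟨A.mul_mem ha hb, ?_⟩
        rw [htt', ha', hb', ← mul_inv_rev, hAc a ha b hb]
      one_mem' := ⟨A.one_mem, by rw [mul_one, htt, inv_one]⟩
      inv_mem' := by
        rintro a ⟨ha, ha'⟩
        refine ⟨A.inv_mem ha, ?_⟩
        have := congrArg (·⁻¹) ha'
        simp only [mul_inv_rev, inv_inv, htinv] at this
        rw [inv_inv, mul_assoc]; exact this }
  have hmem1 : ∀ a ∈ A₁, t * a * t = a := by
    intro a ha
    have h1 := mcs.mp (Subgroup.mem_inf.mp ha).2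
    rw [h1, mul_assoc, htt, mul_one]
  have hmem1' : ∀ a ∈ A, t * a * t = a → a ∈ A₁ := by
    intro a ha h
    refine Subgroup.mem_inf.mpr ⟨ha, mcs.mpr ?_⟩
    conv_rhs => rw [← h]
    rw [mul_assoc, htt, mul_one]
  have hn1 : A₁.Normal := ⟨fun a ha g => by
    have haA := (Subgroup.mem_inf.mp ha).1
    apply hmem1' _ (hAn.conj_mem a haA g)
    rw [hact g a haA, hmem1 a ha]⟩
  have hn2 : A₂.Normal := ⟨fun a ha g => by
    refine ⟨hAn.conj_mem a ha.1 g, ?_⟩
    rw [hact g a ha.1, ha.2]; group⟩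
  have hsum : ∀ a ∈ A, ∃ b ∈ A₁, ∃ c ∈ A₂, a = b * c := by
    intro a ha
    have htat : t * a * t ∈ A := by
      have := hAn.conj_mem a ha t
      rwa [htinv] at this
    have hct : t * (t * a * t) * t = a := by
      calc t * (t * a * t) * t = (t * t) * a * (t * t) := by group
        _ = a := by rw [htt]; group
    have h1 : a * (t * a * t) ∈ A₁ := by
      apply hmem1' _ (A.mul_mem ha htat)
      rw [htt', hct, hAc _ htat a ha]
    have h2 : a * (t * a * t)⁻¹ ∈ A₂ := by
      refine ⟨A.mul_mem ha (A.inv_mem htat), ?_⟩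
      have h3 : t * (t * a * t)⁻¹ * t = a⁻¹ := by
        have := congrArg (·⁻¹) hct
        simp only [mul_inv_rev, inv_inv, htinv] at this
        rw [← this]; simp only [mul_inv_rev, inv_inv, htinv, mul_assoc]
      rw [htt', h3, mul_inv_rev, inv_inv]
    refine ⟨_, A₁.pow_mem h1 (m + 1), _, A₂.pow_mem h2 (m + 1), ?_⟩
    have hcom : Commute (a * (t * a * t)) (a * (t * a * t)⁻¹) := hAc _ (A.mul_mem ha htat) _ (A.mul_mem ha (A.inv_mem htat))
    rw [← hcom.mul_pow]
    have h4 : a * (t * a * t) * (a * (t * a * t)⁻¹) = a * a := by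
      calc a * (t * a * t) * (a * (t * a * t)⁻¹) = a * ((t * a * t) * a) * (t * a * t)⁻¹ := by group
        _ = a * (a * (t * a * t)) * (t * a * t)⁻¹ := by rw [hAc _ htat a ha]
        _ = a * a := by group
    rw [h4, ← pow_two, ← pow_mul]
    have : 2 * (m + 1) = (2 * m + 1) + 1 := by ring
    rw [this, pow_succ, hAp a ha, one_mul]
  have hdisj : A₁ ⊓ A₂ = ⊥ := by
    rw [eq_bot_iff]
    intro a ha
    obtain ⟨h1, h2⟩ := Subgroup.mem_inf.mp ha
    rw [Subgroup.mem_bot]
    apply hA2 a h2.1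
    have h3 := hmem1 a h1
    rw [h2.2] at h3
    nth_rewrite 1 [← h3]
    exact inv_mul_cancel a
  have hA2ne : A₂ ≠ ⊥ := by
    intro h0
    apply htA
    rw [← hAself, Subgroup.mem_centralizer_iff]
    intro a ha
    obtain ⟨b, hb, c, hc, rfl⟩ := hsum a ha
    rw [h0, Subgroup.mem_bot] at hc
    rw [hc, mul_one]
    exact (mcs.mp (Subgroup.mem_inf.mp hb).2).symm
  have hA2le : A₂ ≤ A := fun a ha => ha.1
  have hAsup : A₁ ⊔ A₂ = A := by
    apply le_antisymm (sup_le inf_le_left hA2le)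
    intro a ha
    obtain ⟨b, hb, c, hc, rfl⟩ := hsum a ha
    exact mul_mem (Subgroup.mem_sup_left hb) (Subgroup.mem_sup_right hc)
  have hcards : Nat.card ↥A₁ * Nat.card ↥A₂ = p ^ 2 := by
    have h1 := CfsgH1.card_sup_mul_card_inf (H := A₁) (K := A₂) (le_norm_normal9 (N := N))
    rw [hAsup, hdisj, Subgroup.card_bot, mul_one, hAcard] at h1
    exact h1.symm
  have hc1 : Nat.card ↥A₁ ≠ 1 := fun h => hne (Subgroup.card_eq_one.mp h)
  have hc2 : Nat.card ↥A₂ ≠ 1 := fun h => hA2ne (Subgroup.card_eq_one.mp h)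
  have hp1 : Nat.card ↥A₁ = p ∧ Nat.card ↥A₂ = p := by
    obtain ⟨i, hi, hi'⟩ := (Nat.dvd_prime_pow hp.out).mp (Dvd.intro _ hcards)
    have hi0 : i ≠ 0 := by rintro rfl; exact hc1 (by rw [hi', pow_zero])
    have hi2 : i ≠ 2 := by
      rintro rfl
      rw [hi'] at hcards
      have : Nat.card ↥A₂ = 1 := Nat.eq_of_mul_eq_mul_left (pow_pos hp.out.pos 2) (by rw [hcards, mul_one])
      exact hc2 this
    have hi1 : i = 1 := by omega
    rw [hi1, pow_one] at hi'
    refine ⟨hi', ?_⟩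
    rw [hi', pow_two] at hcards
    exact Nat.eq_of_mul_eq_mul_left hp.out.pos hcards
  have hcyc : ∀ B : Subgroup N, B.Normal → Nat.card ↥B = p → ∀ a ∈ B, ∀ g h : N, (g * h) * a * (g * h)⁻¹ = (h * g) * a * (h * g)⁻¹ := by
    intro B hB hBc a ha g h
    have hpc : IsCyclic ↥B := isCyclic_of_prime_card (p := p) hBc
    obtain ⟨⟨c, hc⟩, hgen⟩ := hpc.exists_generator
    have hBz : B = Subgroup.zpowers c := by
      apply le_antisymm
      · intro y hy
        obtain ⟨k, hk⟩ := Subgroup.mem_zpowers_iff.mp (hgen ⟨y, hy⟩)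
        exact ⟨k, congrArg Subtype.val hk⟩
      · rwa [Subgroup.zpowers_le]
    rw [hBz] at hB ha
    have h1 := cyc_normal_comm hB g h
    obtain ⟨k, rfl⟩ := ha
    change (g * h) * c ^ k * (g * h)⁻¹ = (h * g) * c ^ k * (h * g)⁻¹
    rw [← conj_zpow, ← conj_zpow, h1]
  have hcomm : ∀ g h : N, (h * g)⁻¹ * (g * h) ∈ A := by
    intro g h
    rw [← hAself, Subgroup.mem_centralizer_iff]
    intro a ha
    obtain ⟨b, hb, c, hc, rfl⟩ := hsum a ha
    have h1 := hcyc A₁ hn1 hp1.1 b hb g h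
    have h2 := hcyc A₂ hn2 hp1.2 c hc g h
    have h3 : (g * h) * (b * c) * (g * h)⁻¹ = (h * g) * (b * c) * (h * g)⁻¹ := by
      calc (g * h) * (b * c) * (g * h)⁻¹ = ((g * h) * b * (g * h)⁻¹) * ((g * h) * c * (g * h)⁻¹) := by group
        _ = ((h * g) * b * (h * g)⁻¹) * ((h * g) * c * (h * g)⁻¹) := by rw [h1, h2]
        _ = (h * g) * (b * c) * (h * g)⁻¹ := by group
    calc b * c * ((h * g)⁻¹ * (g * h)) = (h * g)⁻¹ * ((h * g) * (b * c) * (h * g)⁻¹) * (g * h) := by group
      _ = (h * g)⁻¹ * ((g * h) * (b * c) * (g * h)⁻¹) * (g * h) := by rw [h3]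
      _ = (h * g)⁻¹ * (g * h) * (b * c) := by group
  have hSLc : ∀ x y : Matrix.SpecialLinearGroup (Fin 2) F, x * y = y * x := by
    intro x y
    obtain ⟨g, hg⟩ := QuotientGroup.mk'_surjective A (e.symm x)
    obtain ⟨h, hh⟩ := QuotientGroup.mk'_surjective A (e.symm y)
    have h1 := (hkerπ _).mpr (hcomm g h)
    rw [map_mul, map_inv, inv_mul_eq_one, map_mul, map_mul] at h1
    have h2 : π g = e.symm x := hg
    have h3 : π h = e.symm y := hh
    rw [h2, h3, ← map_mul, ← map_mul] at h1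
    exact (e.symm.injective h1).symm
  have h5 := hSLc ⟨!![1, 1; 0, 1], by simp [Matrix.det_fin_two]⟩ ⟨!![1, 0; 1, 1], by simp [Matrix.det_fin_two]⟩
  have h6 : (!![1, 1; 0, 1] : Matrix (Fin 2) (Fin 2) F) * !![1, 0; 1, 1] = !![1, 0; 1, 1] * !![1, 1; 0, 1] := congrArg Subtype.val h5
  have h7 := congrFun (congrFun h6 0) 0
  simp [Matrix.mul_apply, Fin.sum_univ_two] at h7

end S3075

end CfsgH7
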