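import Cfsg.Agent.H7.StrE9
import Cfsg.Agent.H1.Frat

set_option autoImplicit false
set_option linter.unusedSectionVars false

/-! Groups with a subgroup contained in all subgroups it normalizes; semi-extraspecial groups. -/

namespace CfsgH7

open Subgroup Cfsg
open scoped commutatorElement

section S3025

variable {F : Type*} [Group F] [Finite F]

theorem cyclic_of_quat_one : IsCyclic (QuaternionGroup 1) := by
  have : NeZero (1 : ℕ) := ⟨one_ne_zero⟩
  refine isCyclic_of_orderOf_eq_card (QuaternionGroup.xa 0) ?_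
  rw [QuaternionGroup.orderOf_xa, Nat.card_eq_fintype_card, QuaternionGroup.card]

theorem S3025_all (H : Subgroup F) (hH : H ≠ ⊥)
    (hmin : ∀ R : Subgroup F, R ≠ ⊥ → H ≤ Subgroup.normalizer (R : Set F) → H ≤ R) :
    ∃ N : Subgroup F, N.Normal ∧ N ≠ ⊥ ∧ (∀ M : Subgroup F, M.Normal → M ≠ ⊥ → N ≤ M) ∧ IsSimpleGroup ↥N ∧
      (Subgroup.centralizer (N : Set F) = ⊥ ∨
       (H = N ∧ (Nat.card N).Prime ∧ IsCyclic ↥(Subgroup.centralizer (N : Set F)) ∧
          (∃ k : ℕ, 1 ≤ k ∧ Nat.card ↥(Subgroup.centralizer (N : Set F)) = Nat.card N ^ k) ∧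
          (∃ g : F, Subgroup.centralizer (N : Set F) ⊔ Subgroup.zpowers g = ⊤) ∧
          (Subgroup.centralizer (N : Set F)).index ∣ Nat.card N - 1) ∨
       (H = N ∧ Nat.card N = 2 ∧ Subgroup.centralizer (N : Set F) = ⊤ ∧
          ∃ k : ℕ, 1 ≤ k ∧ Nonempty (F ≃* QuaternionGroup (2 ^ k)))) := by
  have hF1 : (⊤ : Subgroup F) ≠ ⊥ := fun h => hH (by rw [eq_bot_iff, ← h]; exact le_top)
  have hnorm : ∀ M : Subgroup F, M.Normal → M ≠ ⊥ → H ≤ M := fun M hM hM1 => hmin M hM1 (by rw [Subgroup.normalizer_eq_top]; exact le_top)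
  set N : Subgroup F := sInf {M : Subgroup F | M.Normal ∧ M ≠ ⊥} with hN
  have hHN : H ≤ N := le_sInf fun M hM => hnorm M hM.1 hM.2
  have hN1 : N ≠ ⊥ := fun h => hH (by rw [eq_bot_iff, ← h]; exact hHN)
  have hNn : N.Normal := by
    refine ⟨fun n hn g => ?_⟩
    rw [hN, Subgroup.mem_sInf] at hn ⊢
    exact fun M hM => hM.1.conj_mem n (hn M hM) g
  have hleast : ∀ M : Subgroup F, M.Normal → M ≠ ⊥ → N ≤ M := fun M hM hM1 => sInf_le ⟨hM, hM1⟩
  have hsimp : IsSimpleGroup ↥N := by
    have hnt : Nontrivial ↥N := (Subgroup.nontrivial_iff_ne_bot N).mpr hN1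
    refine ⟨fun L hL => ?_⟩
    by_cases hL1 : L = ⊥
    · exact Or.inl hL1
    right
    set L' := L.map N.subtype with hL'
    have hL'N : L' ≤ N := by rintro _ ⟨y, -, rfl⟩; exact y.2
    have hL'n : N ≤ Subgroup.normalizer (L' : Set F) := by
      refine (Subgroup.normal_subgroupOf_iff_le_normalizer hL'N).mp ?_
      have : L'.subgroupOf N = L := Subgroup.comap_map_eq_self_of_injective N.subtype_injective L
      rw [this]; exact hL
    have hL'1 : L' ≠ ⊥ := by
      rw [Ne, Subgroup.map_eq_bot_iff_of_injective _ N.subtype_injective]; exact hL1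
    have hconj : ∀ g : F, H ≤ cj g L' := by
      intro g
      apply hmin
      · rw [Ne, cj_eq_bot]; exact hL'1
      · rw [normalizer_cj]
        refine hHN.trans ?_
        rw [le_cj_iff]
        have : cj g⁻¹ N = N := cj_of_normal g⁻¹ N
        rw [this]; exact hL'n
    have h1 : N ≤ L'.normalCore := by
      apply hleast _ (Subgroup.normalCore_normal L')
      intro h0
      apply hH
      rw [eq_bot_iff, ← h0]
      intro h hh g
      have := mem_cj.mp (hconj g⁻¹ hh)
      rwa [inv_inv] at this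
    have h2 : N ≤ L' := h1.trans (Subgroup.normalCore_le L')
    rw [eq_top_iff]
    intro y _
    obtain ⟨y', hy', he⟩ := h2 y.2
    have : y' = y := Subtype.ext he
    rw [← this]; exact hy'
  refine ⟨N, hNn, hN1, hleast, hsimp, ?_⟩
  set C := Subgroup.centralizer (N : Set F) with hC
  by_cases hC1 : C = ⊥
  · exact Or.inl hC1
  right
  have hCn : C.Normal := inferInstance
  have hNC : N ≤ C := hleast C hCn hC1
  have hNc : ∀ a ∈ N, ∀ b ∈ N, a * b = b * a := fun a ha b hb => (Subgroup.mem_centralizer_iff.mp (hNC hb) a ha)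
  have hprime : (Nat.card ↥N).Prime := by
    let _ : CommGroup ↥N := { (inferInstance : Group ↥N) with mul_comm := fun a b => Subtype.ext (hNc a a.2 b b.2) }
    exact IsSimpleGroup.prime_card
  have hHeq : H = N := by
    obtain hd | hd := (Nat.dvd_prime hprime).mp (Subgroup.card_dvd_of_le hHN)
    · exact absurd (Subgroup.card_eq_one.mp hd) hH
    · exact Subgroup.eq_of_le_of_card_ge hHN hd.symm.le
  set p := Nat.card ↥N with hp
  have hpf : Fact p.Prime := ⟨hprime⟩
  have hsubC : ∀ R : Subgroup F, R ≤ C → R ≠ ⊥ → N ≤ R := by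
    intro R hR hR1
    rw [← hHeq]
    apply hmin R hR1
    rw [hHeq]
    have : N ≤ Subgroup.centralizer (R : Set F) := by
      rw [Subgroup.le_centralizer_iff]; exact hR
    exact this.trans (Subgroup.centralizer_le_normalizer _)
  have hCp : IsPGroup p ↥C := by
    refine CfsgH3.isPGroup_of_forall_coprime fun y hy => ?_
    apply Subtype.ext
    by_contra hy1
    have h1 : Subgroup.zpowers (y : F) ≤ C := by rw [Subgroup.zpowers_le]; exact y.2
    have h2 := hsubC _ h1 (by rwa [Ne, Subgroup.zpowers_eq_bot])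
    have h3 := Subgroup.card_dvd_of_le h2
    rw [Nat.card_zpowers, Subgroup.orderOf_coe] at h3
    exact (Nat.Prime.coprime_iff_not_dvd hprime).mp hy.symm h3
  have huniq : ∀ A B : Subgroup ↥C, Nat.card A = p → Nat.card B = p → A = B := by
    have h1 : ∀ A : Subgroup ↥C, Nat.card A = p → A.map C.subtype = N := by
      intro A hA
      have hcard : Nat.card ↥(A.map C.subtype) = p := by rw [Subgroup.card_map_of_injective C.subtype_injective, hA]
      have h2 : N ≤ A.map C.subtype := by
        apply hsubC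
        · rintro _ ⟨y, -, rfl⟩; exact y.2
        · intro h0
          rw [h0, Subgroup.card_bot] at hcard
          exact hprime.one_lt.ne hcard
      symm
      exact Subgroup.eq_of_le_of_card_ge h2 hcard.le
    intro A B hA hB
    apply Subgroup.map_injective C.subtype_injective
    rw [h1 A hA, h1 B hB]
  have hcase := CfsgH1.punique_classification hCp huniq
  have hNcyc : IsCyclic ↥N := isCyclic_of_prime_card (p := p) rfl
  -- F/C embeds in Aut N
  let φ : F →* MulAut ↥N := MulAut.conjNormal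
  have hker : φ.ker = C := by
    ext g
    rw [MonoidHom.mem_ker, hC, Subgroup.mem_centralizer_iff]
    constructor
    · intro h n hn
      have h1 := congrArg (fun σ : MulAut ↥N => ((σ ⟨n, hn⟩ : ↥N) : F)) h
      simp only [MulAut.one_apply] at h1
      have h2 : ((φ g ⟨n, hn⟩ : ↥N) : F) = g * n * g⁻¹ := MulAut.conjNormal_apply g ⟨n, hn⟩
      rw [h2] at h1
      calc n * g = (g * n * g⁻¹) * g := by rw [h1]
        _ = g * n := by group
    · intro h
      apply MulEquiv.ext
      intro n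
      apply Subtype.ext
      have h2 : ((φ g n : ↥N) : F) = g * n * g⁻¹ := MulAut.conjNormal_apply g n
      rw [h2, MulAut.one_apply, ← h n n.2, mul_inv_cancel_right]
  let e := IsCyclic.mulAutMulEquiv ↥N
  have hcardAut : Nat.card (MulAut ↥N) = p - 1 := by
    rw [IsCyclic.card_mulAut, ← hp, Nat.totient_prime hprime]
  have hAutcyc : IsCyclic (MulAut ↥N) := by
    have h1 : IsCyclic (ZMod p)ˣ := inferInstance
    exact isCyclic_of_surjective e.symm e.symm.surjective
  have hindex : C.index ∣ p - 1 := by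
    rw [← hker, Subgroup.index_ker, ← hcardAut]
    exact Subgroup.card_subgroup_dvd_card _
  have hgen : ∃ g : F, C ⊔ Subgroup.zpowers g = ⊤ := by
    have h1 : IsCyclic ↥φ.range := inferInstance
    obtain ⟨⟨_, g, rfl⟩, hg⟩ := h1.exists_generator
    refine ⟨g, ?_⟩
    rw [eq_top_iff]
    intro x _
    obtain ⟨k, hk⟩ := Subgroup.mem_zpowers_iff.mp (hg ⟨φ x, x, rfl⟩)
    have hk' : φ g ^ k = φ x := congrArg Subtype.val hk
    have h2 : x * (g ^ k)⁻¹ ∈ C := by
      rw [← hker, MonoidHom.mem_ker, map_mul, map_inv, map_zpow, hk', mul_inv_cancel]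
    have h3 : x = (x * (g ^ k)⁻¹) * g ^ k := by group
    rw [h3]
    exact mul_mem (Subgroup.mem_sup_left h2) (Subgroup.mem_sup_right ⟨k, rfl⟩)
  have hcardC : ∃ k : ℕ, 1 ≤ k ∧ Nat.card ↥C = p ^ k := by
    obtain ⟨k, hk⟩ := IsPGroup.iff_card.mp hCp
    refine ⟨k, ?_, hk⟩
    by_contra h
    have : k = 0 := by omega
    rw [this, pow_zero] at hk
    exact hC1 (Subgroup.card_eq_one.mp hk)
  by_cases hcyc : IsCyclic ↥C
  · left
    exact ⟨hHeq, hprime, hcyc, hcardC, hgen, hindex⟩
  · right
    obtain ⟨hp2, n, ⟨f⟩⟩ := hcase.resolve_left hcyc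
    have hCtop : C = ⊤ := by
      rw [← Subgroup.index_eq_one]
      rw [hp2] at hindex
      exact Nat.dvd_one.mp hindex
    refine ⟨hHeq, hp2, hCtop, n, ?_, ?_⟩
    · by_contra h
      have h0 : n = 0 := by omega
      subst h0
      apply hcyc
      have h1 := cyclic_of_quat_one
      rw [pow_zero] at f
      exact isCyclic_of_surjective f.symm f.symm.surjective
    · refine ⟨MulEquiv.trans ?_ f⟩
      exact ((MulEquiv.subgroupCongr hCtop).trans Subgroup.topEquiv).symm

end S3025

section S2907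

variable {X : Type*} [Group X] [Finite X] {p : ℕ} [hp : Fact p.Prime]

theorem S2907_all (hX : IsSemiExtraspecial p X) (x : X) (hx : x ∉ Subgroup.center X) :
    (Subgroup.centralizer ({x} : Set X)).index = Nat.card ↥(Subgroup.center X) ∧ {z : X | ∃ y : X, z = x * y * x⁻¹ * y⁻¹} = (Subgroup.center X : Set X) := by
  obtain ⟨⟨hXp, -, hco⟩, hquot⟩ := hX
  have hcm : ∀ y, x * y * x⁻¹ * y⁻¹ ∈ Subgroup.center X := by
    intro y
    rw [← hco]
    exact Subgroup.commutator_mem_commutator (Subgroup.mem_top x) (Subgroup.mem_top y)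
  -- homomorphism y ↦ [x, y]
  let f : X →* ↥(Subgroup.center X) :=
    { toFun := fun y => ⟨x * y * x⁻¹ * y⁻¹, hcm y⟩
      map_one' := Subtype.ext (by simp)
      map_mul' := fun y w => by
        apply Subtype.ext
        change x * (y * w) * x⁻¹ * (y * w)⁻¹ = (x * y * x⁻¹ * y⁻¹) * (x * w * x⁻¹ * w⁻¹)
        have h1 := Subgroup.mem_center_iff.mp (hcm w) y
        calc x * (y * w) * x⁻¹ * (y * w)⁻¹ = (x * y * x⁻¹) * (x * w * x⁻¹ * w⁻¹) * y⁻¹ := by group
          _ = (x * y * x⁻¹ * y⁻¹) * (y * (x * w * x⁻¹ * w⁻¹)) * y⁻¹ := by group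
          _ = (x * y * x⁻¹ * y⁻¹) * ((x * w * x⁻¹ * w⁻¹) * y) * y⁻¹ := by rw [h1]
          _ = (x * y * x⁻¹ * y⁻¹) * (x * w * x⁻¹ * w⁻¹) := by group }
  have hker : f.ker = Subgroup.centralizer ({x} : Set X) := by
    ext y
    rw [MonoidHom.mem_ker, mcs]
    constructor
    · intro h
      have h1 : x * y * x⁻¹ * y⁻¹ = 1 := congrArg Subtype.val h
      rw [mul_inv_eq_one, mul_inv_eq_iff_eq_mul] at h1
      exact h1
    · intro h
      apply Subtype.ext
      change x * y * x⁻¹ * y⁻¹ = 1
      rw [h, mul_inv_cancel_right, mul_inv_cancel]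
  have hsurj : f.range = ⊤ := by
    by_contra hne
    obtain ⟨M, hM, hle⟩ := (eq_top_or_exists_le_coatom f.range).resolve_left hne
    set Y := M.map (Subgroup.center X).subtype with hY
    have hYle : Y ≤ Subgroup.center X := by rintro _ ⟨y, -, rfl⟩; exact y.2
    have hYs : Y.subgroupOf (Subgroup.center X) = M := Subgroup.comap_map_eq_self_of_injective (Subgroup.subtype_injective _) M
    obtain ⟨hYn, hE⟩ := hquot Y hYle (by rw [hYs]; exact hM)
    have hbar : (QuotientGroup.mk x : X ⧸ Y) ∈ Subgroup.center (X ⧸ Y) := by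
      rw [Subgroup.mem_center_iff]
      intro y'
      obtain ⟨y, rfl⟩ := QuotientGroup.mk_surjective y'
      have h1 : x * y * x⁻¹ * y⁻¹ ∈ Y := ⟨f y, hle ⟨y, rfl⟩, rfl⟩
      have h2 : (QuotientGroup.mk (x * y * x⁻¹ * y⁻¹) : X ⧸ Y) = 1 := (QuotientGroup.eq_one_iff _).mpr h1
      rw [QuotientGroup.mk_mul, QuotientGroup.mk_mul, QuotientGroup.mk_mul, QuotientGroup.mk_inv, QuotientGroup.mk_inv, mul_inv_eq_one,
        mul_inv_eq_iff_eq_mul] at h2
      exact h2.symm
    -- the centre of the quotient is the image of the centre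
    have h3 : (Subgroup.center X).map (QuotientGroup.mk' Y) ≤ Subgroup.center (X ⧸ Y) := by
      rintro _ ⟨z, hz, rfl⟩
      rw [Subgroup.mem_center_iff]
      intro y'
      obtain ⟨y, rfl⟩ := QuotientGroup.mk_surjective y'
      have := Subgroup.mem_center_iff.mp hz y
      change (QuotientGroup.mk y : X ⧸ Y) * QuotientGroup.mk z = QuotientGroup.mk z * QuotientGroup.mk y
      rw [← QuotientGroup.mk_mul, this, QuotientGroup.mk_mul]
    have h4 : (Subgroup.center X).map (QuotientGroup.mk' Y) ≠ ⊥ := by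
      intro h0
      rw [Subgroup.map_eq_bot_iff, QuotientGroup.ker_mk'] at h0
      apply hM.1
      rw [← hYs, Subgroup.subgroupOf_eq_top]; exact h0
    have h5 : (Subgroup.center X).map (QuotientGroup.mk' Y) = Subgroup.center (X ⧸ Y) := by
      have hd0 : Nat.card ↥((Subgroup.center X).map (QuotientGroup.mk' Y)) ∣ p := (Subgroup.card_dvd_of_le h3).trans (dvd_of_eq hE.2)
      obtain hd | hd := (Nat.dvd_prime hp.out).mp hd0
      · exact absurd (Subgroup.card_eq_one.mp hd) h4
      · exact Subgroup.eq_of_le_of_card_ge h3 (by rw [hd]; exact (dvd_of_eq hE.2 |> Nat.le_of_dvd hp.out.pos))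
    rw [← h5] at hbar
    obtain ⟨z, hz, he⟩ := hbar
    have h6 : z⁻¹ * x ∈ Y := QuotientGroup.eq.mp he
    apply hx
    have h7 := (Subgroup.center X).mul_mem hz (hYle h6)
    rwa [mul_inv_cancel_left] at h7
  constructor
  · rw [← hker, Subgroup.index_ker, hsurj, Subgroup.card_top]
  · ext z
    constructor
    · rintro ⟨y, rfl⟩; exact hcm y
    · intro hz
      have h1 : (⟨z, hz⟩ : ↥(Subgroup.center X)) ∈ f.range := by rw [hsurj]; exact Subgroup.mem_top _
      obtain ⟨y, hy⟩ := h1
      exact ⟨y, (congrArg Subtype.val hy).symm⟩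

end S2907

end CfsgH7
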