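import Cfsg.Agent.H7.QNil
import Cfsg.Agent.H7.PMin2

set_option autoImplicit false
set_option linter.unusedSectionVars false

/-! Action of `p`-groups on quasi-nilpotent groups with `O_p = 1`, II. -/

namespace CfsgH7

open Subgroup Cfsg
open scoped commutatorElement

variable {G : Type*} [Group G] {p : ℕ} [Finite G] [hp : Fact p.Prime]

/-- relative form of `qn_act` -/
theorem qn_act' {L Y : Subgroup G} (hgF : generalizedFittingSubgroup ↥L = ⊤) (hO : pCore p ↥L = ⊥)
    (hY : IsPGroup p ↥Y) (hYL : Y ≤ Subgroup.normalizer (L : Set G)) :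
    ⁅L, Y⁆ ⊔ (L ⊓ Subgroup.centralizer (Y : Set G)) = L ∧ ⁅⁅L, Y⁆, Y⁆ = ⁅L, Y⁆ := by
  set N := Subgroup.normalizer (L : Set G) with hN
  have hLN : L ≤ N := Subgroup.le_normalizer
  set L' := L.subgroupOf N with hL'
  set Y' := Y.subgroupOf N with hY'
  haveI hL'n : L'.Normal := (Subgroup.normal_subgroupOf_iff_le_normalizer hLN).mpr le_rfl
  let e := (Subgroup.subgroupOfEquivOfLe hLN).symm
  have h1 : generalizedFittingSubgroup ↥L' = ⊤ := by
    rw [← CfsgH2.generalizedFittingSubgroup_map_equiv e, hgF]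
    exact Subgroup.map_top_of_surjective _ e.surjective
  have h2 : pCore p ↥L' = ⊥ := by
    rw [← CfsgH2.pCore_map_equiv p e, hO]
    exact Subgroup.map_bot _
  have hYp : IsPGroup p ↥Y' := hY.of_equiv (Subgroup.subgroupOfEquivOfLe hYL).symm
  obtain ⟨a1, a2⟩ := qn_act hL'n.isSubnormal h1 h2 hYp (by rw [Subgroup.normalizer_eq_top]; exact le_top)
  have mL : L'.map N.subtype = L := Subgroup.map_subgroupOf_eq_of_le hLN
  have mY : Y'.map N.subtype = Y := Subgroup.map_subgroupOf_eq_of_le hYL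
  have hLY : ⁅L, Y⁆ ≤ L := by rw [← Subgroup.le_normalizer_iff_commutator_le_left]; exact hYL
  constructor
  · apply le_antisymm (sup_le hLY inf_le_left)
    have h3 := congrArg (Subgroup.map N.subtype) a1
    rw [Subgroup.map_sup, Subgroup.map_commutator, mL, mY] at h3
    nth_rewrite 1 [← h3]
    refine sup_le_sup_left ?_ _
    rintro _ ⟨x, hx, rfl⟩
    obtain ⟨hx1, hx2⟩ := Subgroup.mem_inf.mp hx
    refine Subgroup.mem_inf.mpr ⟨hx1, ?_⟩
    rw [Subgroup.mem_centralizer_iff]
    intro y hy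
    exact congrArg Subtype.val (Subgroup.mem_centralizer_iff.mp hx2 ⟨y, hYL hy⟩ hy)
  · have h3 := congrArg (Subgroup.map N.subtype) a2
    rw [Subgroup.map_commutator, Subgroup.map_commutator, mL, mY] at h3
    exact h3

theorem S2812_all (H : Subgroup G) (hO : pCore p ↥H = ⊥) (Y : Subgroup G) (hY : IsPGroup p ↥Y) (L : Subgroup G)
    (hLF : L ≤ (generalizedFittingSubgroup ↥H).map H.subtype) (hLsn : (L.subgroupOf H).IsSubnormal) (hYL : Y ≤ Subgroup.normalizer (L : Set G)) :
    ⁅L, Y⁆ ⊔ (L ⊓ Subgroup.centralizer (Y : Set G)) = L ∧ ⁅L, Y⁆ = ⁅⁅L, Y⁆, Y⁆ := by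
  have hLH : L ≤ H := hLF.trans (Subgroup.map_subtype_le _)
  have h1 : L.subgroupOf H ≤ generalizedFittingSubgroup ↥H := by
    intro x hx
    obtain ⟨y, hy, hyx⟩ := hLF (Subgroup.mem_subgroupOf.mp hx)
    have : y = x := Subtype.ext hyx
    rw [← this]; exact hy
  obtain ⟨h2, h3⟩ := qn_of (p := p) hO hLsn h1
  let e := Subgroup.subgroupOfEquivOfLe hLH
  have h4 : generalizedFittingSubgroup ↥L = ⊤ := by
    rw [← CfsgH2.generalizedFittingSubgroup_map_equiv e, h2]
    exact Subgroup.map_top_of_surjective _ e.surjective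
  have h5 : pCore p ↥L = ⊥ := by
    rw [← CfsgH2.pCore_map_equiv p e, h3]
    exact Subgroup.map_bot _
  obtain ⟨a1, a2⟩ := qn_act' h4 h5 hY hYL
  exact ⟨a1, a2.symm⟩

theorem S2815_all (hd : p ∣ Nat.card G) (hO : pCore p G = ⊥) (hq : Cfsg.IsQuasisimple ↥(pResidual p G)) :
    pResidual p G = generalizedFittingSubgroup G ∧
    (∀ Y : Subgroup G, IsPGroup p ↥Y → Y ≠ ⊥ → ⁅pResidual p G, Y⁆ = pResidual p G ∧ pResidual p G ≤ ⨆ k : ↥(pResidual p G), Y.map (MulAut.conj (k : G)).toMonoidHom) ∧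
    (∀ C : Subgroup G, C.Normal → ¬ pResidual p G ≤ C → (Nat.card ↥C).Coprime p) ∧ IsPIrreducible p G := by
  have eK : pResidual p G = rs p (⊤ : Subgroup G) := pResidual_eq_rs
  have hKn : (pResidual p G).Normal := by rw [eK]; exact rs_normal7
  set K := pResidual p G with hK
  have hKc : IsComponent K := ⟨hKn.isSubnormal, hq⟩
  have hKp : ⁅K, K⁆ = K := CfsgH2.IsComponent.commutator_self hKc
  have e1 : K = generalizedFittingSubgroup G := by
    apply le_antisymm
    · exact (CfsgH2.IsComponent.le_layer hKc).trans CfsgH2.layer_le_generalizedFittingSubgroup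
    · refine sup_le ?_ ?_
      · rw [eK]
        refine sSup_le fun L hL => ?_
        rw [← rs_of_perfect (p := p) (CfsgH2.IsComponent.commutator_self hL)]
        exact rs_mono le_top
      · refine (fit_le_of hO).trans ?_
        intro x hx
        rw [eK]
        refine mem_rs (Subgroup.mem_top x) ?_
        refine (CfsgH2.coprime_card_pPrimeCore (G := G) p).coprime_dvd_left ?_
        rw [← Subgroup.orderOf_mk x hx]
        exact orderOf_dvd_natCard _
  have hfaith : ∀ Y : Subgroup G, IsPGroup p ↥Y → Y ≤ Subgroup.centralizer (K : Set G) → Y = ⊥ := by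
    intro Y hY hc
    rw [e1] at hc
    exact faithful_gF hO hY hc
  have h3 : ∀ C : Subgroup G, C.Normal → ¬ K ≤ C → (Nat.card ↥C).Coprime p := by
    intro C hC hn
    have h1 : K ≤ Subgroup.normalizer ((C ⊓ K : Subgroup G) : Set G) := by
      intro g hg
      rw [mem_normalizer_iff_cj, cj_inf, cj_of_normal, cj_of_mem hg]
    have h2 : C ≤ Subgroup.centralizer (K : Set G) := by
      rcases qs_normal hq inf_le_right h1 with h4 | h4
      · exact absurd (inf_eq_right.mp h4) hn
      · have h5 : ⁅C, K⁆ ≤ C ⊓ K := by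
          refine le_inf ?_ ?_
          · rw [← Subgroup.le_normalizer_iff_commutator_le_left, Subgroup.normalizer_eq_top]; exact le_top
          · rw [← Subgroup.le_normalizer_iff_commutator_le_right, Subgroup.normalizer_eq_top]; exact le_top
        have h6 : ⁅⁅C, K⁆, K⁆ = ⊥ := by
          rw [Subgroup.commutator_eq_bot_iff_le_centralizer]; exact h5.trans h4
        have h7 := CfsgH2.commutator_eq_bot_of_perfect hKp h6
        rw [Subgroup.commutator_comm, Subgroup.commutator_eq_bot_iff_le_centralizer] at h7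
        exact h7
    by_contra hcop
    have hdv : p ∣ Nat.card ↥C := by
      by_contra h4
      exact hcop ((Nat.Prime.coprime_iff_not_dvd hp.out).mpr h4).symm
    obtain ⟨x, hx⟩ := exists_prime_orderOf_dvd_card' p hdv
    have hxo : orderOf (x : G) = p := by rw [Subgroup.orderOf_coe, hx]
    have hzp : IsPGroup p ↥(Subgroup.zpowers (x : G)) := by
      rw [IsPGroup.iff_card]
      exact ⟨1, by rw [Nat.card_zpowers, hxo, pow_one]⟩
    have h4 := hfaith _ hzp (by rw [Subgroup.zpowers_le]; exact h2 x.2)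
    rw [Subgroup.zpowers_eq_bot] at h4
    rw [h4, orderOf_one] at hxo
    exact hp.out.one_lt.ne hxo
  refine ⟨e1, fun Y hY hY1 => ?_, h3, ?_, ?_⟩
  · have hnc : ¬ K ≤ Subgroup.centralizer (Y : Set G) := fun h => hY1 (hfaith Y hY (Subgroup.le_centralizer_iff.mp h))
    have h4 := comp_le_comm hKc hnc le_rfl
    have h5 : ⁅K, Y⁆ = K := le_antisymm (by rw [← Subgroup.le_normalizer_iff_commutator_le_left, Subgroup.normalizer_eq_top]; exact le_top) h4
    refine ⟨h5, ?_⟩
    nth_rewrite 1 [← h5]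
    rw [Subgroup.commutator_le]
    intro k hk y hy
    have h6 : k * y * k⁻¹ ∈ ⨆ k : ↥K, Y.map (MulAut.conj (k : G)).toMonoidHom :=
      (le_iSup (fun k : ↥K => Y.map (MulAut.conj (k : G)).toMonoidHom) ⟨k, hk⟩) (conj_mem_cj hy)
    have h7 : y⁻¹ ∈ ⨆ k : ↥K, Y.map (MulAut.conj (k : G)).toMonoidHom := by
      apply (le_iSup (fun k : ↥K => Y.map (MulAut.conj (k : G)).toMonoidHom) 1)
      change y⁻¹ ∈ cj (1 : G) Y
      rw [cj_one]; exact Y.inv_mem hy
    exact mul_mem h6 h7
  · intro hcl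
    obtain ⟨S⟩ : Nonempty (Sylow p G) := inferInstance
    have h4 := CfsgH2.IsSubnormal.le_pCore (hcl S).isSubnormal S.isPGroup'
    rw [hO, le_bot_iff] at h4
    have h5 := (isSyl_of_sylow S).not_dvd
    rw [h4, Subgroup.relIndex_bot_left, Subgroup.card_top] at h5
    exact h5 hd
  · intro N hN hcl
    by_contra hn
    apply hcl
    intro P
    have h4 := h3 N hN hn
    have h5 : Nat.card ↥(P : Subgroup ↥N) ∣ Nat.card ↥N := Subgroup.card_subgroup_dvd_card _
    obtain ⟨n, hn'⟩ := P.isPGroup'.exists_card_eq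
    have h6 : Nat.card ↥(P : Subgroup ↥N) = 1 := by
      rcases n with _ | n
      · rw [hn', pow_zero]
      · exfalso
        rw [hn'] at h5
        have h7 : p ∣ Nat.card ↥N := (dvd_pow_self p (by omega)).trans h5
        have h8 := Nat.dvd_gcd h7 (dvd_refl p)
        rw [Nat.Coprime.gcd_eq_one h4] at h8
        exact hp.out.one_lt.ne' (Nat.dvd_one.mp h8)
    rw [Subgroup.card_eq_one.mp h6]
    infer_instance

end CfsgH7
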