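import Cfsg.Agent.H7.QNil2
import Cfsg.Agent.H1.Frat

set_option autoImplicit false
set_option linter.unusedSectionVars false

/-! Action of `p`-groups on quasi-nilpotent groups with `O_p = 1`, III. -/

namespace CfsgH7

open Subgroup Cfsg
open scoped commutatorElement

variable {G : Type*} [Group G] {p : ℕ} [Finite G] [hp : Fact p.Prime]

theorem rs_of_qn {X : Type*} [Group X] [Finite X] (hgF : generalizedFittingSubgroup X = ⊤) (hO : pCore p X = ⊥) : rs p (⊤ : Subgroup X) = ⊤ := by
  rw [eq_top_iff]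
  nth_rewrite 1 [← hgF]
  refine sup_le ?_ ?_
  · refine sSup_le fun L hL => ?_
    rw [← rs_of_perfect (p := p) (CfsgH2.IsComponent.commutator_self hL)]
    exact rs_mono le_top
  · refine (fit_le_of hO).trans ?_
    intro x hx
    refine mem_rs (Subgroup.mem_top x) ?_
    refine (CfsgH2.coprime_card_pPrimeCore (G := X) p).coprime_dvd_left ?_
    rw [← Subgroup.orderOf_mk x hx]
    exact orderOf_dvd_natCard _

theorem ab_coprime_of_qn {X : Type*} [Group X] [Finite X] (h : rs p (⊤ : Subgroup X) = ⊤) (a : Abelianization X) : (orderOf a).Coprime p := by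
  obtain ⟨x, rfl⟩ : ∃ x, Abelianization.of x = a := QuotientGroup.mk'_surjective _ a
  have hx : x ∈ rs p (⊤ : Subgroup X) := by rw [h]; exact Subgroup.mem_top x
  unfold rs at hx
  induction hx using Subgroup.closure_induction with
  | mem x hx => exact Nat.Coprime.coprime_dvd_left (orderOf_map_dvd _ x) hx.2
  | one => rw [map_one, orderOf_one]; exact Nat.coprime_one_left p
  | mul x y _ _ ihx ihy =>
    rw [map_mul]
    refine Nat.Coprime.coprime_dvd_left (Commute.orderOf_mul_dvd_mul_orderOf ?_) (Nat.Coprime.mul_left ihx ihy)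
    exact mul_comm (G := Abelianization X) _ _
  | inv x _ ih => rw [map_inv, orderOf_inv]; exact ih

/-- fixed points of a `p`-group `Q` with `[L,Q] = L` lie in `L'` -/
theorem fixed_mem_commutator {L Q : Subgroup G} (hrs : rs p (⊤ : Subgroup ↥L) = ⊤) (hQ : IsPGroup p ↥Q) (hQL : Q ≤ Subgroup.normalizer (L : Set G))
    (hLQ : ⁅L, Q⁆ = L) (z : ↥L) (hz : (z : G) ∈ Subgroup.centralizer (Q : Set G)) : z ∈ commutator ↥L := by
  classical
  haveI : Fintype ↥Q := Fintype.ofFinite _
  let φ : ↥Q → Monoid.End (Abelianization ↥L) := fun q => CfsgH2.normAb L ⟨(q : G), hQL q.2⟩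
  let Nm : Abelianization ↥L → Abelianization ↥L := fun a => ∏ q : ↥Q, φ q a
  have hNm_mul : ∀ a b, Nm (a * b) = Nm a * Nm b := by
    intro a b
    change (∏ q : ↥Q, φ q (a * b)) = (∏ q : ↥Q, φ q a) * ∏ q : ↥Q, φ q b
    rw [← Finset.prod_mul_distrib]
    exact Finset.prod_congr rfl fun q _ => map_mul _ _ _
  have hNm_one : Nm 1 = 1 := Finset.prod_eq_one fun q _ => map_one _
  have hNm_inv : ∀ a, Nm a⁻¹ = (Nm a)⁻¹ := by
    intro a
    rw [eq_inv_iff_mul_eq_one, ← hNm_mul, inv_mul_cancel, hNm_one]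
  have hφmul : ∀ (q r : ↥Q) (a : Abelianization ↥L), φ q (φ r a) = φ (q * r) a := by
    intro q r a
    have : CfsgH2.normAb L ⟨((q * r : ↥Q) : G), hQL (q * r).2⟩ = CfsgH2.normAb L ⟨(q : G), hQL q.2⟩ * CfsgH2.normAb L ⟨(r : G), hQL r.2⟩ := by
      rw [← map_mul]; rfl
    change _ = CfsgH2.normAb L ⟨((q * r : ↥Q) : G), hQL (q * r).2⟩ a
    rw [this]; rfl
  have hNm_φ : ∀ (r : ↥Q) (a : Abelianization ↥L), Nm (φ r a) = Nm a := by
    intro r a
    change (∏ q : ↥Q, φ q (φ r a)) = ∏ q : ↥Q, φ q a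
    refine Fintype.prod_equiv (Equiv.mulRight r) _ _ fun q => ?_
    rw [hφmul]; rfl
  have hcomm : ∀ (l : G) (hl : l ∈ L) (q : G) (hq : q ∈ Q) (hc : ⁅l, q⁆ ∈ L), Nm (Abelianization.of (⟨⁅l, q⁆, hc⟩ : ↥L)) = 1 := by
    intro l hl q hq hc
    have h1 : (⟨⁅l, q⁆, hc⟩ : ↥L) = ⟨l, hl⟩ * (L.normalizerMonoidHom ⟨q, hQL hq⟩ ⟨l, hl⟩)⁻¹ := by
      apply Subtype.ext
      rw [Subgroup.coe_mul, Subgroup.coe_inv, CfsgH2.normalizerMonoidHom_coe]
      change ⁅l, q⁆ = l * (q * l * q⁻¹)⁻¹
      rw [commutatorElement_def]; group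
    rw [h1, map_mul, map_inv, ← CfsgH2.normAb_of, hNm_mul, hNm_inv]
    have h2 : Nm (CfsgH2.normAb L ⟨q, hQL hq⟩ (Abelianization.of ⟨l, hl⟩)) = Nm (Abelianization.of ⟨l, hl⟩) := hNm_φ ⟨q, hq⟩ _
    rw [h2, mul_inv_cancel]
  have hall : ∀ (l : G) (hl : l ∈ L), Nm (Abelianization.of (⟨l, hl⟩ : ↥L)) = 1 := by
    intro l hl
    have hl' : l ∈ ⁅L, Q⁆ := by rw [hLQ]; exact hl
    rw [Subgroup.commutator_def] at hl'
    have hcl : ∀ x ∈ Subgroup.closure {g | ∃ g₁ ∈ L, ∃ g₂ ∈ Q, ⁅g₁, g₂⁆ = g}, x ∈ L := by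
      intro x hx
      rw [← Subgroup.commutator_def, hLQ] at hx
      exact hx
    induction hl' using Subgroup.closure_induction with
    | mem x hx =>
      obtain ⟨l, hl2, q, hq, rfl⟩ := hx
      exact hcomm l hl2 q hq hl
    | one =>
      have : (⟨1, hl⟩ : ↥L) = 1 := rfl
      rw [this, map_one, hNm_one]
    | mul x y hx hy ihx ihy =>
      have : (⟨x * y, hl⟩ : ↥L) = ⟨x, hcl x hx⟩ * ⟨y, hcl y hy⟩ := rfl
      rw [this, map_mul, hNm_mul, ihx, ihy, one_mul]
    | inv x hx ih =>
      have : (⟨x⁻¹, hl⟩ : ↥L) = (⟨x, hcl x hx⟩)⁻¹ := rfl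
      rw [this, map_inv, hNm_inv, ih, inv_one]
  have h1 := hall z z.2
  have h2 : Nm (Abelianization.of z) = (Abelianization.of z) ^ Nat.card ↥Q := by
    have h3 : ∀ q : ↥Q, φ q (Abelianization.of z) = Abelianization.of z := by
      intro q
      change CfsgH2.normAb L ⟨(q : G), hQL q.2⟩ (Abelianization.of z) = _
      rw [CfsgH2.normAb_of]
      congr 1
      apply Subtype.ext
      rw [CfsgH2.normalizerMonoidHom_coe]
      change (q : G) * z * (q : G)⁻¹ = z
      have h4 := Subgroup.mem_centralizer_iff.mp hz q q.2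
      rw [h4, mul_assoc, mul_inv_cancel, mul_one]
    change (∏ q : ↥Q, φ q (Abelianization.of z)) = _
    rw [Finset.prod_congr rfl fun q _ => h3 q, Finset.prod_const, Nat.card_eq_fintype_card]
    rfl
  have h5 : (Abelianization.of z) ^ Nat.card ↥Q = 1 := by rw [← h2]; exact h1
  obtain ⟨n, hn⟩ := hQ.exists_card_eq
  rw [hn] at h5
  have h6 := ab_coprime_of_qn hrs (Abelianization.of z)
  have h7 : Abelianization.of z = 1 := by
    rw [← orderOf_eq_one_iff]
    have h8 : orderOf (Abelianization.of z) ∣ p ^ n := orderOf_dvd_of_pow_eq_one h5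
    exact Nat.Coprime.eq_one_of_dvd (h6.pow_right n) h8
  exact (QuotientGroup.eq_one_iff z).mp h7

theorem center_comm_le_frattini {X : Type*} [Group X] [Finite X] {z : X} (hz : z ∈ Subgroup.center X) (hz' : z ∈ commutator X) : z ∈ frattini X := by
  have h : Subgroup.zpowers z ≤ frattini X := by
    rw [CfsgH1.le_frattini_iff]
    intro M hM
    rw [Subgroup.zpowers_le]
    by_contra hzM
    have h1 : Subgroup.zpowers z ⊔ M = ⊤ := by
      have h2 : M < Subgroup.zpowers z ⊔ M := by
        refine lt_of_le_of_ne le_sup_right fun h3 => hzM ?_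
        rw [h3]; exact Subgroup.mem_sup_left (Subgroup.mem_zpowers z)
      exact hM.2 _ h2
    have hzc : Subgroup.zpowers z ≤ Subgroup.center X := by rw [Subgroup.zpowers_le]; exact hz
    have hzn : Subgroup.zpowers z ≤ Subgroup.normalizer (M : Set X) := by
      intro x hx
      rw [Subgroup.mem_normalizer_iff]
      intro y
      have := Subgroup.mem_center_iff.mp (hzc hx) y
      have e : x * y * x⁻¹ = y := by rw [← this]; group
      rw [e]
    apply hzM
    have h3 : commutator X ≤ M := by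
      rw [commutator_def, Subgroup.commutator_le]
      intro a _ b _
      have ha : a ∈ Subgroup.zpowers z ⊔ M := by rw [h1]; exact Subgroup.mem_top a
      have hb : b ∈ Subgroup.zpowers z ⊔ M := by rw [h1]; exact Subgroup.mem_top b
      obtain ⟨x, hx, m, hm, rfl⟩ := (CfsgH1.mem_sup_of_le_normalizer hzn).mp ha
      obtain ⟨y, hy, n, hn, rfl⟩ := (CfsgH1.mem_sup_of_le_normalizer hzn).mp hb
      have cx := Subgroup.mem_center_iff.mp (hzc hx)
      have cy := Subgroup.mem_center_iff.mp (hzc hy)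
      have e : ⁅x * m, y * n⁆ = ⁅m, n⁆ := by
        rw [commutatorElement_def, commutatorElement_def]
        have a1 : (x * m) * (y * n) = (m * n) * (x * y) := by
          calc (x * m) * (y * n) = (x * (m * y)) * n := by group
            _ = (x * (y * m)) * n := by rw [cy m]
            _ = ((x * y) * (m * n)) := by group
            _ = (m * n) * (x * y) := ((Subgroup.mem_center_iff.mp ((Subgroup.center X).mul_mem (hzc hx) (hzc hy))) (m * n)).symm
        have a2 : (y * n) * (x * m) = (n * m) * (x * y) := by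
          calc (y * n) * (x * m) = (y * (n * x)) * m := by group
            _ = (y * (x * n)) * m := by rw [cx n]
            _ = ((y * x) * (n * m)) := by group
            _ = (n * m) * (y * x) := ((Subgroup.mem_center_iff.mp ((Subgroup.center X).mul_mem (hzc hy) (hzc hx))) (n * m)).symm
            _ = (n * m) * (x * y) := by rw [cy x]
        have d1 : (x * m) * (y * n) * (x * m)⁻¹ * (y * n)⁻¹ = ((x * m) * (y * n)) * ((y * n) * (x * m))⁻¹ := by group
        have d2 : m * n * m⁻¹ * n⁻¹ = (m * n) * (n * m)⁻¹ := by group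
        rw [d1, d2, a1, a2, mul_inv_rev (n * m)]
        group
      rw [e]
      exact M.mul_mem (M.mul_mem (M.mul_mem hm hn) (M.inv_mem hm)) (M.inv_mem hn)
    exact h3 hz'
  exact h (Subgroup.mem_zpowers z)

theorem S2817_all (hO : pCore p G = ⊥) (Q : Subgroup G) (hQ : IsPGroup p ↥Q) (L : Subgroup G) (hL : L = ⁅generalizedFittingSubgroup G, Q⁆)
    (F : Subgroup G) (hF : F ≤ generalizedFittingSubgroup G ∧ generalizedFittingSubgroup G ≤ Subgroup.normalizer (F : Set G) ∧
      Q ≤ Subgroup.centralizer (F : Set G) ∧ ∀ N : Subgroup G, N ≤ generalizedFittingSubgroup G →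
        generalizedFittingSubgroup G ≤ Subgroup.normalizer (N : Set G) → Q ≤ Subgroup.centralizer (N : Set G) → N ≤ F) :
    F = generalizedFittingSubgroup G ⊓ Subgroup.centralizer ((L ⊔ Q : Subgroup G) : Set G) ∧ ⁅L, Q⁆ = L ∧
      L ⊓ F ≤ (frattini ↥L).map L.subtype ∧
      (∀ B : Subgroup G, IsPGroup p ↥B → B ≤ Subgroup.normalizer (Q : Set G) → ⁅L, B⁆ ≤ F → ⁅L, B⁆ = ⊥) ∧
      (Nat.card ↥(Subgroup.centralizer ((F ⊔ L : Subgroup G) : Set G))).Coprime p := by
  obtain ⟨hFV, hVF, hQF, hmax⟩ := hF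
  have hVn : (generalizedFittingSubgroup G).Normal := CfsgH2.generalizedFittingSubgroup_normal_inst
  set V := generalizedFittingSubgroup G with hV
  have hnt : ∀ A : Subgroup G, A ≤ Subgroup.normalizer (V : Set G) := by
    intro A; rw [Subgroup.normalizer_eq_top]; exact le_top
  have hqV := qn_of (p := p) hO hVn.isSubnormal le_rfl
  have hLQ : ⁅L, Q⁆ = L := by
    rw [hL]
    exact (qn_act hVn.isSubnormal hqV.1 hqV.2 hQ (hnt Q)).2
  have hVL : V ≤ Subgroup.normalizer (L : Set G) := by rw [hL]; exact Subgroup.normalizer_commutator_ge_left _ _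
  have hQL : Q ≤ Subgroup.normalizer (L : Set G) := by rw [hL]; exact Subgroup.normalizer_commutator_ge_right _ _
  have hLV : L ≤ V := by rw [hL, ← Subgroup.le_normalizer_iff_commutator_le_left]; exact hnt Q
  have hLs : L.IsSubnormal := Subgroup.IsSubnormal.step _ _ hLV hVn.isSubnormal ((Subgroup.normal_subgroupOf_iff_le_normalizer hLV).mpr hVL)
  have hqL := qn_of (p := p) hO hLs hLV
  -- (1)
  have hLF : L ≤ Subgroup.centralizer (F : Set G) := by
    rw [← Subgroup.commutator_eq_bot_iff_le_centralizer, hL]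
    refine Subgroup.commutator_commutator_eq_bot_of_rotate ?_ ?_
    · have h1 : ⁅Q, F⁆ = ⊥ := by rw [Subgroup.commutator_eq_bot_iff_le_centralizer]; exact hQF
      rw [h1, Subgroup.commutator_bot_left]
    · rw [Subgroup.commutator_eq_bot_iff_le_centralizer, Subgroup.le_centralizer_iff]
      refine hQF.trans (Subgroup.centralizer_le ?_)
      change ⁅F, V⁆ ≤ F
      rw [← Subgroup.le_normalizer_iff_commutator_le_left]
      exact hVF
  have h1 : F = V ⊓ Subgroup.centralizer ((L ⊔ Q : Subgroup G) : Set G) := by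
    apply le_antisymm
    · refine le_inf hFV ?_
      rw [Subgroup.le_centralizer_iff]
      exact sup_le hLF hQF
    · refine hmax _ inf_le_left ?_ ?_
      · have hVX : V ≤ Subgroup.normalizer ((L ⊔ Q : Subgroup G) : Set G) := by
          intro g hg
          apply mem_normalizer_of_cj_le
          rw [cj_sup, cj_of_mem_normalizer (hVL hg)]
          refine sup_le le_sup_left ?_
          intro x hx
          have h2 := mem_cj.mp hx
          have h3 : ⁅g, g⁻¹ * x * g⁆ ∈ L := by rw [hL]; exact Subgroup.commutator_mem_commutator hg h2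
          have e : x = ⁅g, g⁻¹ * x * g⁆ * (g⁻¹ * x * g) := by rw [commutatorElement_def]; group
          rw [e]; exact mul_mem (Subgroup.mem_sup_left h3) (Subgroup.mem_sup_right h2)
        intro g hg
        rw [mem_normalizer_iff_cj, cj_inf, cj_of_mem hg, ← centralizer_cj, cj_of_mem_normalizer (hVX hg)]
      · rw [Subgroup.le_centralizer_iff]
        exact inf_le_right.trans (Subgroup.centralizer_le (le_sup_right : Q ≤ L ⊔ Q))
  -- (3)
  have h3 : L ⊓ F ≤ (frattini ↥L).map L.subtype := by
    intro z hz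
    obtain ⟨hzL, hzF⟩ := Subgroup.mem_inf.mp hz
    refine ⟨⟨z, hzL⟩, ?_, rfl⟩
    apply center_comm_le_frattini
    · rw [Subgroup.mem_center_iff]
      intro y
      exact Subtype.ext (Subgroup.mem_centralizer_iff.mp (hLF y.2) z hzF).symm
    · refine fixed_mem_commutator (p := p) (rs_of_qn hqL.1 hqL.2) hQ hQL hLQ ⟨z, hzL⟩ ?_
      exact (Subgroup.le_centralizer_iff.mp hQF) hzF
  refine ⟨h1, hLQ, h3, ?_, ?_⟩
  · intro B hB hBQ hBF
    have hBL : B ≤ Subgroup.normalizer (L : Set G) := by
      intro g hg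
      rw [mem_normalizer_iff_cj, hL, cj_commutator, cj_of_normal, cj_of_mem_normalizer (hBQ hg)]
    have h4 := (qn_act hLs hqL.1 hqL.2 hB hBL).1
    have hLB : ⁅L, B⁆ ≤ L := by rw [← Subgroup.le_normalizer_iff_commutator_le_left]; exact hBL
    have h5 : ⁅L, B⁆ ≤ (frattini ↥L).map L.subtype := (le_inf hLB hBF).trans h3
    have h6 : (L ⊓ Subgroup.centralizer (B : Set G)).subgroupOf L ⊔ frattini ↥L = ⊤ := by
      apply Subgroup.map_injective L.subtype_injective
      rw [Subgroup.map_sup, Subgroup.map_subgroupOf_eq_of_le inf_le_left]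
      have e : (⊤ : Subgroup ↥L).map L.subtype = L := by rw [← MonoidHom.range_eq_map, Subgroup.range_subtype]
      rw [e]
      apply le_antisymm (sup_le inf_le_left (Subgroup.map_subtype_le _))
      nth_rewrite 1 [← h4]
      rw [sup_comm]
      exact sup_le_sup_left h5 _
    have h7 := CfsgH1.eq_top_of_sup_frattini (K := (L ⊓ Subgroup.centralizer (B : Set G)).subgroupOf L) le_rfl h6
    rw [Subgroup.subgroupOf_eq_top] at h7
    rw [Subgroup.commutator_eq_bot_iff_le_centralizer]
    exact h7.trans inf_le_right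
  · by_contra hcop
    have hdv : p ∣ Nat.card ↥(Subgroup.centralizer ((F ⊔ L : Subgroup G) : Set G)) := by
      by_contra h4
      exact hcop ((Nat.Prime.coprime_iff_not_dvd hp.out).mpr h4).symm
    obtain ⟨x, hx⟩ := exists_prime_orderOf_dvd_card' p hdv
    have hxo : orderOf (x : G) = p := by rw [Subgroup.orderOf_coe, hx]
    set P := Subgroup.zpowers (x : G) with hP
    have hPp : IsPGroup p ↥P := by
      rw [IsPGroup.iff_card]
      exact ⟨1, by rw [hP, Nat.card_zpowers, hxo, pow_one]⟩
    have hPC : P ≤ Subgroup.centralizer ((F ⊔ L : Subgroup G) : Set G) := by rw [hP, Subgroup.zpowers_le]; exact x.2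
    have hPF : P ≤ Subgroup.centralizer (F : Set G) := hPC.trans (Subgroup.centralizer_le (le_sup_left : F ≤ F ⊔ L))
    have hPL : P ≤ Subgroup.centralizer (L : Set G) := hPC.trans (Subgroup.centralizer_le (le_sup_right : L ≤ F ⊔ L))
    set U := V ⊓ Subgroup.centralizer (L : Set G) with hU
    have hVP : ⁅V, P⁆ ≤ U := by
      refine le_inf (by rw [← Subgroup.le_normalizer_iff_commutator_le_left]; exact hnt P) ?_
      rw [← Subgroup.commutator_eq_bot_iff_le_centralizer]
      refine Subgroup.commutator_commutator_eq_bot_of_rotate ?_ ?_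
      · have h4 : ⁅P, L⁆ = ⊥ := by rw [Subgroup.commutator_eq_bot_iff_le_centralizer]; exact hPL
        rw [h4, Subgroup.commutator_bot_left]
      · rw [Subgroup.commutator_eq_bot_iff_le_centralizer, Subgroup.le_centralizer_iff]
        refine hPL.trans (Subgroup.centralizer_le ?_)
        change ⁅L, V⁆ ≤ L
        rw [← Subgroup.le_normalizer_iff_commutator_le_left]
        exact hVL
    have hUV : U ≤ V := inf_le_left
    have hVU : V ≤ Subgroup.normalizer (U : Set G) := by
      intro g hg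
      rw [mem_normalizer_iff_cj, hU, cj_inf, cj_of_mem hg, ← centralizer_cj, cj_of_mem_normalizer (hVL hg)]
    have hQU : Q ≤ Subgroup.normalizer (U : Set G) := by
      intro g hg
      rw [mem_normalizer_iff_cj, hU, cj_inf, cj_of_normal, ← centralizer_cj, cj_of_mem_normalizer (hQL hg)]
    have hUs : U.IsSubnormal := Subgroup.IsSubnormal.step _ _ hUV hVn.isSubnormal ((Subgroup.normal_subgroupOf_iff_le_normalizer hUV).mpr hVU)
    have hqU := qn_of (p := p) hO hUs hUV
    have hUP : U ≤ Subgroup.centralizer (P : Set G) := by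
      rw [← (qn_act hUs hqU.1 hqU.2 hQ hQU).1]
      refine sup_le ?_ ?_
      · have h4 : ⁅U, Q⁆ ≤ L := by rw [hL]; exact Subgroup.commutator_mono hUV le_rfl
        exact h4.trans (Subgroup.le_centralizer_iff.mp hPL)
      · refine le_trans ?_ (Subgroup.le_centralizer_iff.mp hPF)
        rw [h1]
        refine le_inf (inf_le_left.trans hUV) ?_
        rw [Subgroup.le_centralizer_iff]
        refine sup_le ?_ ?_
        · rw [Subgroup.le_centralizer_iff]; exact inf_le_left.trans inf_le_right
        · rw [Subgroup.le_centralizer_iff]; exact inf_le_right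
    have h5 := (qn_act hVn.isSubnormal hqV.1 hqV.2 hPp (hnt P)).2
    have h6 : ⁅⁅V, P⁆, P⁆ = ⊥ := by
      rw [Subgroup.commutator_eq_bot_iff_le_centralizer]; exact hVP.trans hUP
    rw [h6] at h5
    have h7 : P ≤ Subgroup.centralizer (V : Set G) := by
      rw [Subgroup.le_centralizer_iff, ← Subgroup.commutator_eq_bot_iff_le_centralizer]; exact h5.symm
    have h8 := faithful_gF hO hPp h7
    rw [hP, Subgroup.zpowers_eq_bot] at h8
    rw [h8, orderOf_one] at hxo
    exact hp.out.one_lt.ne hxo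

end CfsgH7
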