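import Cfsg.Agent.H7.WProd
import Cfsg.Agent.H2.GenFitting2

set_option autoImplicit false
set_option linter.unusedSectionVars false

/-! Quasisimple action of a subgroup containing a large subgroup. -/

namespace CfsgH7

open Subgroup Cfsg CfsgH3
open scoped commutatorElement

variable {G : Type*} [Group G] {p : ℕ} [Finite G] [hp : Fact p.Prime]

theorem qs_extract {E C : Subgroup G} [hn : (C.subgroupOf E).Normal]
    (hqs : IsQuasisimple ↥(((pResidual p ↥E) ⊔ C.subgroupOf E).map (QuotientGroup.mk' (C.subgroupOf E)))) :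
    (rs p E ⊔ (E ⊓ C) ≤ ⁅rs p E ⊔ (E ⊓ C), rs p E ⊔ (E ⊓ C)⁆ ⊔ (E ⊓ C)) ∧
    (∀ N : Subgroup G, N ≤ rs p E ⊔ (E ⊓ C) → rs p E ⊔ (E ⊓ C) ≤ Subgroup.normalizer (N : Set G) →
      N ⊔ (E ⊓ C) = rs p E ⊔ (E ⊓ C) ∨ ⁅N, rs p E ⊔ (E ⊓ C)⁆ ≤ C) ∧ ¬ rs p E ⊔ (E ⊓ C) ≤ C := by
  set Ce := C.subgroupOf E with hCe
  set K₀ := pResidual p ↥E ⊔ Ce with hK₀
  set K := rs p E ⊔ (E ⊓ C) with hK
  have hCemap : Ce.map E.subtype = E ⊓ C := by rw [hCe, Subgroup.subgroupOf_map_subtype, inf_comm]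
  have hK₀map : K₀.map E.subtype = K := by rw [hK₀, Subgroup.map_sup, map_pResidual, hCemap]
  have hKE : K ≤ E := sup_le (rs_le E) inf_le_left
  have hker : (QuotientGroup.mk' Ce).ker = Ce := QuotientGroup.ker_mk' Ce
  have hmem : ∀ x : ↥E, QuotientGroup.mk' Ce x = 1 ↔ (x : G) ∈ C := fun x => by
    rw [← MonoidHom.mem_ker, hker, hCe, Subgroup.mem_subgroupOf]
  refine ⟨?_, ?_, ?_⟩
  · have h1 := CfsgH2.IsQuasisimple.commutator_self hqs
    rw [← Subgroup.map_commutator] at h1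
    have h2 : K₀ ≤ ⁅K₀, K₀⁆ ⊔ Ce := by
      intro x hx
      have h3 : QuotientGroup.mk' Ce x ∈ (⁅K₀, K₀⁆).map (QuotientGroup.mk' Ce) := by rw [h1]; exact ⟨x, hx, rfl⟩
      have h4 : x ∈ ((⁅K₀, K₀⁆).map (QuotientGroup.mk' Ce)).comap (QuotientGroup.mk' Ce) := h3
      rwa [QuotientGroup.comap_map_mk', sup_comm] at h4
    have h3 := Subgroup.map_mono (f := E.subtype) h2
    rwa [hK₀map, Subgroup.map_sup, Subgroup.map_commutator, hK₀map, hCemap] at h3
  · intro N hNK hKN
    have hNE : N ≤ E := hNK.trans hKE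
    set Kq := K₀.map (QuotientGroup.mk' Ce) with hKq
    set Nq := (N.subgroupOf E).map (QuotientGroup.mk' Ce) with hNq
    have hNqK : Nq ≤ Kq := by
      refine Subgroup.map_mono ?_
      rw [← Subgroup.map_le_map_iff_of_injective E.subtype_injective, Subgroup.map_subgroupOf_eq_of_le hNE, hK₀map]
      exact hNK
    have hn1 : (Nq.subgroupOf Kq).Normal := by
      rw [Subgroup.normal_subgroupOf_iff_le_normalizer hNqK]
      rintro _ ⟨k, hk, rfl⟩
      have hkK : (k : G) ∈ K := by rw [← hK₀map]; exact ⟨k, hk, rfl⟩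
      refine mem_normalizer_of_cj_le ?_
      intro z hz
      rw [mem_cj] at hz
      obtain ⟨w, hw, hwz⟩ := hz
      refine ⟨k * w * k⁻¹, ?_, ?_⟩
      · have h2 : (k : G) * w * (k : G)⁻¹ ∈ N := (Subgroup.mem_normalizer_iff.mp (hKN hkK) w).mp hw
        exact h2
      · rw [map_mul, map_mul, map_inv, hwz]; group
    rcases CfsgH2.IsQuasisimple.normal_eq_top_or_le_center hqs (Nq.subgroupOf Kq) with h | h
    · left
      rw [Subgroup.subgroupOf_eq_top] at h
      have h2 : K₀ ≤ (N.subgroupOf E) ⊔ Ce := by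
        intro x hx
        have h3 : QuotientGroup.mk' Ce x ∈ Nq := h ⟨x, hx, rfl⟩
        have h4 : x ∈ Nq.comap (QuotientGroup.mk' Ce) := h3
        rwa [hNq, QuotientGroup.comap_map_mk', sup_comm] at h4
      have h3 := Subgroup.map_mono (f := E.subtype) h2
      rw [hK₀map, Subgroup.map_sup, Subgroup.map_subgroupOf_eq_of_le hNE, hCemap] at h3
      exact le_antisymm (sup_le hNK le_sup_right) h3
    · right
      rw [Subgroup.commutator_le]
      intro n hn k hk
      rw [← hK₀map] at hk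
      obtain ⟨k', hk', rfl⟩ := hk
      have h1 : QuotientGroup.mk' Ce ⟨n, hNE hn⟩ ∈ Nq := ⟨⟨n, hNE hn⟩, hn, rfl⟩
      have h2 : QuotientGroup.mk' Ce k' ∈ Kq := ⟨k', hk', rfl⟩
      have h3 : (⟨QuotientGroup.mk' Ce ⟨n, hNE hn⟩, hNqK h1⟩ : ↥Kq) ∈ center ↥Kq := h h1
      have h4 := congrArg Subtype.val (Subgroup.mem_center_iff.mp h3 ⟨QuotientGroup.mk' Ce k', h2⟩)
      have h5 : QuotientGroup.mk' Ce ⁅(⟨n, hNE hn⟩ : ↥E), k'⁆ = 1 := by
        rw [map_commutatorElement, commutatorElement_eq_one_iff_mul_comm]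
        exact h4.symm
      exact (hmem _).mp h5
  · intro h
    apply CfsgH2.IsQuasisimple.ne_bot hqs
    rw [eq_bot_iff]
    rintro _ ⟨x, hx, rfl⟩
    rw [Subgroup.mem_bot, hmem]
    exact h (by rw [← hK₀map]; exact ⟨x, hx, rfl⟩)

/-- `O_p` of the quotient is trivial -/
theorem red_extract {E C : Subgroup G} [hn : (C.subgroupOf E).Normal] (hred : pCore p (↥E ⧸ C.subgroupOf E) = ⊥) {A : Subgroup G}
    (hAE : A ≤ E) (hEA : E ≤ Subgroup.normalizer (A : Set G)) (hAc : ∀ x ∈ A, (orderOf x).Coprime p → x ∈ C) : A ≤ C := by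
  set Cn := C.subgroupOf E with hCn
  have hker : ∀ x : ↥E, QuotientGroup.mk' Cn x = 1 ↔ (x : G) ∈ C := by
    intro x
    rw [← MonoidHom.mem_ker, QuotientGroup.ker_mk', hCn, Subgroup.mem_subgroupOf]
  set Db := (A.subgroupOf E).map (QuotientGroup.mk' Cn) with hDb
  have hDn : Db.Normal := Subgroup.Normal.map ((Subgroup.normal_subgroupOf_iff_le_normalizer hAE).mpr hEA) _ (QuotientGroup.mk'_surjective _)
  have h3 : IsPGroup p ↥Db := by
    refine CfsgH3.isPGroup_of_forall_coprime ?_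
    rintro ⟨_, x, hx, rfl⟩ hxo
    rw [← Subgroup.orderOf_coe] at hxo
    change (orderOf (QuotientGroup.mk' Cn x)).Coprime p at hxo
    obtain ⟨a, m, hm, hxm⟩ := Nat.exists_eq_pow_mul_and_not_dvd (orderOf_pos x).ne' p hp.out.ne_one
    have h2 : (orderOf (x ^ p ^ a)).Coprime p := by
      rw [orderOf_pow, hxm, Nat.gcd_eq_right (Dvd.intro _ rfl), Nat.mul_div_cancel_left _ (pow_pos hp.out.pos a)]
      exact ((Nat.Prime.coprime_iff_not_dvd hp.out).mpr hm).symm
    have h3 := hAc _ (show ((x ^ p ^ a : ↥E) : G) ∈ A from (A.subgroupOf E).pow_mem hx _) (by rwa [Subgroup.orderOf_coe])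
    have h4 : (QuotientGroup.mk' Cn x) ^ p ^ a = 1 := by
      rw [← map_pow]; exact (hker _).mpr h3
    apply Subtype.ext
    exact eq_one_of_coprime_of_pow hxo h4
  have h4 := CfsgH2.le_pCore hDn h3
  rw [hred] at h4
  intro d hd
  have h5 := h4 (show QuotientGroup.mk' Cn ⟨d, hAE hd⟩ ∈ Db from ⟨⟨d, hAE hd⟩, hd, rfl⟩)
  rw [Subgroup.mem_bot, hker] at h5
  exact h5


/-- `p`-subgroups centralizing `O^p(E)` modulo `C` -/
theorem cent_res_mod {E D K Y : Subgroup G} (hDE : D ≤ E) (hED : E ≤ Subgroup.normalizer (D : Set G))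
    (hred : ∀ A : Subgroup G, A ≤ E → E ≤ Subgroup.normalizer (A : Set G) → (∀ x ∈ A, (orderOf x).Coprime p → x ∈ D) → A ≤ D)
    (hKE : K ≤ E) (hEK : E ≤ Subgroup.normalizer (K : Set G)) (hrK : rs p E ≤ K) (hYE : Y ≤ E) (hY : IsPGroup p ↥Y) (hKY : ⁅K, Y⁆ ≤ D) : Y ≤ D := by
  set Z := E ⊓ actTriv K D with hZ
  have hEZ : E ≤ Subgroup.normalizer (Z : Set G) := by
    intro g hg
    rw [mem_normalizer_iff_cj, hZ, cj_inf, cj_of_mem hg, cj_of_mem_normalizer (normalizer_actTriv (hEK hg) (hED hg))]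
  have hYZ : Y ≤ Z := le_inf hYE (le_actTriv (hYE.trans hEK) (hYE.trans hED) hKY)
  have hKZ : ⁅K, Z⁆ ≤ D := comm_le_of_actTriv inf_le_right
  obtain ⟨T, hYT, hT⟩ := exists_isSyl_ge hY hYZ
  have hZE : Z ≤ E := inf_le_left
  have hTE : T ≤ E := hT.le.trans hZE
  have hrZ : rs p Z ≤ K := (rs_mono hZE).trans hrK
  set W := T ⊔ D with hW
  have hcjD : ∀ g ∈ E, cj g D = D := fun g hg => cj_of_mem_normalizer (hED hg)
  have hZW : Z ≤ Subgroup.normalizer (W : Set G) := by
    rw [← syl_sup_rs hT]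
    refine sup_le (le_sup_left.trans Subgroup.le_normalizer) ?_
    intro g hg
    refine mem_normalizer_of_cj_le ?_
    rw [hW, cj_sup, hcjD g (hZE (rs_le Z hg))]
    refine sup_le ?_ le_sup_right
    intro z hz
    have hz' := mem_cj.mp hz
    have e : z = ⁅g, g⁻¹ * z * g⁆ * (g⁻¹ * z * g) := by rw [commutatorElement_def]; group
    rw [e]
    exact mul_mem (Subgroup.mem_sup_right (hKZ (Subgroup.commutator_mem_commutator (hrZ hg) (hT.le hz')))) (Subgroup.mem_sup_left hz')
  have hEW : E ≤ Subgroup.normalizer (W : Set G) := by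
    intro g hg
    refine mem_normalizer_of_cj_le ?_
    rw [hW, cj_sup, hcjD g hg]
    refine sup_le ?_ le_sup_right
    have h1 := hT.cj g
    rw [cj_of_mem_normalizer (hEZ hg)] at h1
    obtain ⟨z, hz, hzT⟩ := hT.conj h1
    rw [← hzT]
    have := cj_mono (g := z) (le_sup_left : T ≤ T ⊔ D)
    rwa [cj_of_mem_normalizer (hZW hz)] at this
  have hWE : W ≤ E := sup_le hTE hDE
  have h1 : W ≤ D := by
    refine hred W hWE hEW fun x hx hxo => ?_
    refine coprime_mem_of_mod (hTE.trans hED) (fun y hy hyo => ?_) hx hxo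
    obtain ⟨k, hk⟩ := isPGroup_pow_mem hT.isPGroup hy
    rw [eq_one_of_coprime_of_pow hyo hk]; exact one_mem _
  exact hYT.trans (le_sup_left.trans h1)


theorem qs_large {Q U E : Subgroup G} (hQp : IsPGroup p ↥Q) (hQ1 : Q ≠ ⊥) (hQ : IsLarge Q) (hU : IsElementaryAbelian p U)
    (hU1 : U ≠ ⊥) (hQE : Q ≤ E) (hEU : E ≤ Subgroup.normalizer (U : Set G)) (hQn : ¬ E ≤ Subgroup.normalizer (Q : Set G))
    [hn : ((Subgroup.centralizer (U : Set G)).subgroupOf E).Normal]
    (hred : pCore p (↥E ⧸ (Subgroup.centralizer (U : Set G)).subgroupOf E) = ⊥)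
    (hqs : IsQuasisimple ↥(((pResidual p ↥E) ⊔ (Subgroup.centralizer (U : Set G)).subgroupOf E).map (QuotientGroup.mk' ((Subgroup.centralizer (U : Set G)).subgroupOf E))))
    {R : Subgroup G} (hR : R = rs p (clo E Q)) :
    rs p E ⊔ (E ⊓ Subgroup.centralizer (U : Set G)) = R ⊔ (E ⊓ Subgroup.centralizer (U : Set G)) ∧ ⁅R, R⁆ = R ∧
    (∀ N : Subgroup G, N ≤ R → R ≤ Subgroup.normalizer (N : Set G) → N ⊔ (R ⊓ Subgroup.centralizer (U : Set G)) = R ∨ ⁅N, R⁆ ≤ Subgroup.centralizer (U : Set G)) ∧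
    ⁅R ⊓ Subgroup.centralizer (U : Set G), R⁆ ≤ pCoreOf p R ∧ pCoreOf p R ≤ Subgroup.centralizer (U : Set G) ∧ ¬ R ≤ Subgroup.centralizer (U : Set G) ∧
    ∀ Y : Subgroup G, Y ≤ E → IsPGroup p ↥Y → ¬ Y ≤ Subgroup.centralizer (U : Set G) → ⁅R, Y⁆ = R := by
  set C := Subgroup.centralizer (U : Set G) with hC
  set D := E ⊓ C with hD
  set K := rs p E ⊔ D with hK
  obtain ⟨hperf, hnorm, hKC⟩ := qs_extract (p := p) (E := E) (C := C) hqs
  rw [← hD, ← hK] at hperf hnorm hKC
  have hWC := large_wc hQp hQ1 hQ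
  have hDE : D ≤ E := inf_le_left
  have hED : E ≤ Subgroup.normalizer (D : Set G) := by
    intro g hg
    rw [mem_normalizer_iff_cj, hD, cj_inf, cj_of_mem hg, hC, ← centralizer_cj, cj_of_mem_normalizer (hEU hg)]
  have hred' : ∀ A : Subgroup G, A ≤ E → E ≤ Subgroup.normalizer (A : Set G) → (∀ x ∈ A, (orderOf x).Coprime p → x ∈ D) → A ≤ D :=
    fun A h1 h2 h3 => le_inf h1 (red_extract hred h1 h2 fun x hx hxo => (Subgroup.mem_inf.mp (h3 x hx hxo)).2)
  have hrE : E ≤ Subgroup.normalizer (rs p E : Set G) := Subgroup.le_normalizer.trans (le_normalizer_rs E)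
  have hKE : K ≤ E := sup_le (rs_le E) hDE
  have hEK : E ≤ Subgroup.normalizer (K : Set G) := by
    intro g hg
    rw [mem_normalizer_iff_cj, hK, cj_sup, cj_of_mem_normalizer (hrE hg), cj_of_mem_normalizer (hED hg)]
  have hZ : ∀ Y : Subgroup G, Y ≤ E → IsPGroup p ↥Y → ⁅K, Y⁆ ≤ D → Y ≤ C := fun Y h1 h2 h3 =>
    (cent_res_mod hDE hED hred' hKE hEK le_sup_left h1 h2 h3).trans inf_le_right
  -- Q does not centralize U
  have hQC : ¬ Q ≤ C := by
    intro h
    apply hQn
    have h1 : U ≤ Subgroup.centralizer (Q : Set G) := Subgroup.le_centralizer_iff.mp h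
    exact hEU.trans (hQ.2 U h1 hU1)
  -- `C` normalizes `Q`
  have hCQ : C ≤ Subgroup.normalizer (Q : Set G) := large_cent_le hQp hQ (elem_isPGroup hU) hU1 (hQE.trans hEU)
  set L := clo E Q with hL
  have hQL : Q ≤ L := le_clo _ _
  have hLE : L ≤ E := clo_le fun g hg => (cj_mono hQE).trans (cj_of_mem hg).le
  have hEL : E ≤ Subgroup.normalizer (L : Set G) := le_normalizer_clo _ _
  obtain ⟨-, hRQ, hRQ2, -⟩ := wc_res (X := E) hWC hQp (hQE.trans Subgroup.le_normalizer)
  rw [sup_eq_left.mpr hQE, ← hL, ← hR] at hRQ hRQ2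
  have hRL : R ≤ L := by rw [hR]; exact rs_le L
  have hRE : R ≤ E := hRL.trans hLE
  have hER : E ≤ Subgroup.normalizer (R : Set G) := by rw [hR]; exact hEL.trans (le_normalizer_rs L)
  have hRR : rs p R = R := by rw [hR]; exact rs_rs L
  have hRrs : R ≤ rs p E := by rw [hR]; exact rs_mono hLE
  have hRK : R ≤ K := hRrs.trans le_sup_left
  have hRn : R ≤ Subgroup.normalizer (R : Set G) := Subgroup.le_normalizer
  -- [C, R] ≤ O_p
  set B := R ⊓ C with hB
  have hBD : B ≤ D := le_inf (inf_le_left.trans hRE) inf_le_right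
  have hEB : E ≤ Subgroup.normalizer (B : Set G) := by
    intro g hg
    rw [mem_normalizer_iff_cj, hB, cj_inf, cj_of_mem_normalizer (hER hg), hC, ← centralizer_cj, cj_of_mem_normalizer (hEU hg)]
  have hEOB : E ≤ Subgroup.normalizer (pCoreOf p B : Set G) := by
    intro g hg
    rw [mem_normalizer_iff_cj, cj_pCoreOf, cj_of_mem_normalizer (hEB hg)]
  have hEO : E ≤ Subgroup.normalizer (pCoreOf p R : Set G) := by
    intro g hg
    rw [mem_normalizer_iff_cj, cj_pCoreOf, cj_of_mem_normalizer (hER hg)]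
  have hOB : pCoreOf p B ≤ pCoreOf p R := core_mono_normal inf_le_left (hRE.trans hEB)
  have hQact : Q ≤ actTriv B (pCoreOf p B) := by
    refine le_actTriv (hQE.trans hEB) (hQE.trans hEOB) ?_
    have h5 : ⁅B, Q⁆ ≤ B ⊓ Q := by
      refine le_inf ?_ ?_
      · rw [← Subgroup.le_normalizer_iff_commutator_le_left]; exact hQE.trans hEB
      · rw [Subgroup.commutator_comm, ← Subgroup.le_normalizer_iff_commutator_le_left]; exact inf_le_right.trans hCQ
    refine h5.trans (le_pCoreOf inf_le_left ?_ (hQp.to_le inf_le_right))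
    intro g hg
    rw [mem_normalizer_iff_cj, cj_inf, cj_of_mem hg, cj_of_mem_normalizer (hCQ (Subgroup.mem_inf.mp hg).2)]
  have hLact : L ≤ actTriv B (pCoreOf p B) := by
    refine clo_le fun g hg => ?_
    rw [← cj_of_mem_normalizer (normalizer_actTriv (hEB hg) (hEOB hg))]
    exact cj_mono hQact
  have hBR : ⁅B, R⁆ ≤ pCoreOf p R := (comm_le_of_actTriv (hRL.trans hLact)).trans hOB
  -- O_p(R) ≤ C
  have hOC : pCoreOf p R ≤ C := by
    refine (hred' _ ((pCoreOf_le p R).trans hRE) hEO fun x hx hxo => ?_).trans inf_le_right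
    obtain ⟨k, hk⟩ := isPGroup_pow_mem (isPGroup_pCoreOf p R) hx
    rw [eq_one_of_coprime_of_pow hxo hk]; exact one_mem _
  -- R D = K
  have hRDK : R ⊔ D = K := by
    -- use `L ⊓ K`
    have hLKn : K ≤ Subgroup.normalizer ((L ⊓ K : Subgroup G) : Set G) := by
      intro g hg
      rw [mem_normalizer_iff_cj, cj_inf, cj_of_mem_normalizer (hEL (hKE hg)), cj_of_mem hg]
    rcases hnorm (L ⊓ K) inf_le_right hLKn with h | h
    · refine le_antisymm (sup_le hRK le_sup_right) ?_
      have h1 : rs p (L ⊓ K) ≤ R := by rw [hR]; exact rs_mono inf_le_left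
      have h2 : rs p K ≤ R ⊔ D := by
        obtain ⟨T, hT⟩ := exists_isSyl p (L ⊓ K)
        have h3 : (R ⊔ D) ⊔ T = K := by
          refine le_antisymm (sup_le (sup_le hRK le_sup_right) (hT.le.trans inf_le_right)) ?_
          conv_lhs => rw [← h, ← syl_sup_rs hT]
          exact sup_le (sup_le le_sup_right (h1.trans (le_sup_left.trans le_sup_left))) (le_sup_right.trans le_sup_left)
        refine rs_le_of_sup (sup_le hRK le_sup_right) ?_ hT.isPGroup h3
        intro g hg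
        rw [mem_normalizer_iff_cj, cj_sup, cj_of_mem_normalizer (hER (hKE hg)), cj_of_mem_normalizer (hED (hKE hg))]
      refine sup_le ?_ le_sup_right
      rw [← rs_rs]
      exact (rs_mono le_sup_left).trans h2
    · exfalso
      apply hQC
      apply hZ Q hQE hQp
      -- [K, L] ≤ D
      have h0 : ⁅L ⊓ K, K⁆ ≤ D := le_inf (by
        rw [Subgroup.commutator_le]
        intro a ha b hb
        have h1 := hKE (Subgroup.mem_inf.mp ha).2
        have h2 := hKE hb
        exact mul_mem (mul_mem (mul_mem h1 h2) (inv_mem h1)) (inv_mem h2)) h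
      have h1 : ⁅L, K⁆ ≤ L ⊓ K := by
        refine le_inf ?_ ?_
        · rw [← Subgroup.le_normalizer_iff_commutator_le_left]; exact hKE.trans hEL
        · rw [Subgroup.commutator_comm, ← Subgroup.le_normalizer_iff_commutator_le_left]; exact hLE.trans hEK
      have h2 : ⁅⁅K, K⁆, L⁆ ≤ D := by
        refine three_mod (hKE.trans hED) (hKE.trans hED) (hLE.trans hED) ?_ ?_
        · rw [Subgroup.commutator_comm K L]; exact (Subgroup.commutator_mono h1 le_rfl).trans h0
        · exact (Subgroup.commutator_mono h1 le_rfl).trans h0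
      have h3 : K ≤ Subgroup.normalizer ((⁅K, K⁆ : Subgroup G) : Set G) := Subgroup.normalizer_commutator_ge_left _ _
      rw [Subgroup.commutator_le]
      intro k hk q hq
      have hk' := hperf hk
      rw [sup_comm] at hk'
      obtain ⟨d, hd, c, hc, rfl⟩ := (CfsgH1.mem_sup_of_le_normalizer ((le_sup_right : D ≤ K).trans h3)).1 hk'
      have e : ⁅d * c, q⁆ = (d * ⁅c, q⁆ * d⁻¹) * ⁅d, q⁆ := by simp only [commutatorElement_def]; group
      rw [e]
      refine mul_mem ?_ ?_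
      · exact (Subgroup.mem_normalizer_iff.mp (hED (hDE hd)) _).mp (h2 (Subgroup.commutator_mem_commutator hc (hQL hq)))
      · have : ⁅D, Q⁆ ≤ D := by rw [← Subgroup.le_normalizer_iff_commutator_le_left]; exact hQE.trans hED
        exact this (Subgroup.commutator_mem_commutator hd hq)
  -- decomposition mod D
  have hRC : ¬ R ≤ C := fun h => hKC (by rw [← hRDK]; exact sup_le h inf_le_right)
  have hded : ∀ N : Subgroup G, N ≤ R → R ≤ N ⊔ D → R ≤ N ⊔ B := by
    intro N hN hRN r hr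
    have hNE : N ≤ Subgroup.normalizer (D : Set G) := hN.trans (hRE.trans hED)
    obtain ⟨n, hn, d, hd, rfl⟩ := (CfsgH1.mem_sup_of_le_normalizer hNE).1 (hRN hr)
    refine mul_mem (Subgroup.mem_sup_left hn) (Subgroup.mem_sup_right (Subgroup.mem_inf.mpr ⟨?_, (Subgroup.mem_inf.mp hd).2⟩))
    have := mul_mem (inv_mem (hN hn)) hr
    rwa [inv_mul_cancel_left] at this
  -- R perfect
  have hRR' : R ≤ Subgroup.normalizer ((⁅R, R⁆ : Subgroup G) : Set G) := Subgroup.normalizer_commutator_ge_left _ _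
  have hR'R : ⁅R, R⁆ ≤ R := by rw [← Subgroup.le_normalizer_iff_commutator_le_left]; exact hRn
  have hER' : E ≤ Subgroup.normalizer ((⁅R, R⁆ : Subgroup G) : Set G) := by
    intro g hg
    rw [mem_normalizer_iff_cj, cj_commutator, cj_of_mem_normalizer (hER hg)]
  have hcommRD : ∀ N : Subgroup G, N ≤ R → R ≤ Subgroup.normalizer (N : Set G) → R ≤ N ⊔ B → ∀ Y : Subgroup G, Y ≤ E → Y ≤ Subgroup.normalizer (N : Set G) →
      ∀ A : Subgroup G, ⁅N, Y⁆ ≤ A → ⁅B, Y⁆ ≤ A → R ≤ Subgroup.normalizer (A : Set G) → ⁅R, Y⁆ ≤ A := by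
    intro N hN hRN hRB Y hYE hYN A h1 h2 hRA
    rw [Subgroup.commutator_le]
    intro r hr y hy
    have hr' := hRB hr
    rw [sup_comm] at hr'
    obtain ⟨b, hb, n, hn, rfl⟩ := (CfsgH1.mem_sup_of_le_normalizer ((inf_le_left : B ≤ R).trans hRN)).1 hr'
    have e : ⁅b * n, y⁆ = (b * ⁅n, y⁆ * b⁻¹) * ⁅b, y⁆ := by simp only [commutatorElement_def]; group
    rw [e]
    refine mul_mem ((Subgroup.mem_normalizer_iff.mp (hRA (inf_le_left (b := C) hb)) _).mp (h1 (Subgroup.commutator_mem_commutator hn hy))) ?_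
    exact h2 (Subgroup.commutator_mem_commutator hb hy)
  have hperfR : ⁅R, R⁆ = R := by
    have h1 : R ≤ ⁅R, R⁆ ⊔ D := by
      have h2 : ⁅K, K⁆ ≤ ⁅R, R⁆ ⊔ D := by
        have hRD : R ≤ Subgroup.normalizer (D : Set G) := hRE.trans hED
        have hKDD : ⁅K, D⁆ ≤ D := by rw [Subgroup.commutator_comm, ← Subgroup.le_normalizer_iff_commutator_le_left]; exact hKE.trans hED
        have st1 : ∀ k ∈ K, ∀ s ∈ R, ⁅k, s⁆ ∈ ⁅R, R⁆ ⊔ D := by
          intro k hk s hs
          rw [← hRDK] at hk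
          obtain ⟨r, hr, d, hd, rfl⟩ := (CfsgH1.mem_sup_of_le_normalizer hRD).1 hk
          have e : ⁅r * d, s⁆ = (r * ⁅d, s⁆ * r⁻¹) * ⁅r, s⁆ := by simp only [commutatorElement_def]; group
          rw [e]
          refine mul_mem (Subgroup.mem_sup_right ?_) (Subgroup.mem_sup_left (Subgroup.commutator_mem_commutator hr hs))
          refine (Subgroup.mem_normalizer_iff.mp (hRD hr) _).mp ?_
          have : ⁅D, R⁆ ≤ D := by rw [← Subgroup.le_normalizer_iff_commutator_le_left]; exact hRD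
          exact this (Subgroup.commutator_mem_commutator hd hs)
        rw [Subgroup.commutator_le]
        intro k hk b hb
        rw [← hRDK] at hb
        obtain ⟨s, hs, d', hd', rfl⟩ := (CfsgH1.mem_sup_of_le_normalizer hRD).1 hb
        have e : ⁅k, s * d'⁆ = ⁅k, s⁆ * (s * ⁅k, d'⁆ * s⁻¹) := by simp only [commutatorElement_def]; group
        rw [e]
        refine mul_mem (st1 k hk s hs) (Subgroup.mem_sup_right ?_)
        exact (Subgroup.mem_normalizer_iff.mp (hRD hs) _).mp (hKDD (Subgroup.commutator_mem_commutator hk hd'))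
      have h3 : K ≤ ⁅R, R⁆ ⊔ D := hperf.trans (sup_le h2 le_sup_right)
      exact hRK.trans h3
    have h2 := hded _ hR'R h1
    have hQN : Q ≤ Subgroup.normalizer ((⁅R, R⁆ : Subgroup G) : Set G) := hQE.trans hER'
    have h3 : R ≤ ⁅R, R⁆ ⊔ pCoreOf p R := by
      conv_lhs => rw [← hRQ2]
      refine hcommRD _ hR'R hRR' h2 Q hQE hQN _ ?_ ?_ ?_
      · refine le_trans ?_ le_sup_left
        rw [← Subgroup.le_normalizer_iff_commutator_le_left]; exact hQN
      · exact (comm_le_of_actTriv hQact).trans (hOB.trans le_sup_right)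
      · intro g hg
        rw [mem_normalizer_iff_cj, cj_sup, cj_of_mem_normalizer (hRR' hg), cj_of_mem_normalizer (hEO (hRE hg))]
    have h4 : rs p R ≤ ⁅R, R⁆ := rs_le_of_sup hR'R hRR' (isPGroup_pCoreOf p R) (le_antisymm (sup_le hR'R (pCoreOf_le p R)) h3)
    rw [hRR] at h4
    exact le_antisymm hR'R h4
  -- normal subgroups
  have hnormR : ∀ N : Subgroup G, N ≤ R → R ≤ Subgroup.normalizer (N : Set G) → N ⊔ B = R ∨ ⁅N, R⁆ ≤ C := by
    intro N hN hRN
    have h1 : K ≤ Subgroup.normalizer ((N ⊔ D : Subgroup G) : Set G) := by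
      rw [← hRDK]
      refine sup_le ?_ (le_sup_right.trans Subgroup.le_normalizer)
      intro g hg
      rw [mem_normalizer_iff_cj, cj_sup, cj_of_mem_normalizer (hRN hg), cj_of_mem_normalizer (hED (hRE hg))]
    rcases hnorm (N ⊔ D) (sup_le (hN.trans hRK) le_sup_right) h1 with h | h
    · left
      refine le_antisymm (sup_le hN inf_le_left) (hded N hN ?_)
      rw [sup_assoc, sup_idem] at h
      rw [h]; exact hRK
    · right
      exact (Subgroup.commutator_mono le_sup_left hRK).trans h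
  refine ⟨hRDK.symm, hperfR, hnormR, hBR, hOC, hRC, ?_⟩
  intro Y hYE hYp hYC
  set N := ⁅R, Y⁆ with hN
  have hNR : N ≤ R := by rw [hN, ← Subgroup.le_normalizer_iff_commutator_le_left]; exact hYE.trans hER
  have hRN : R ≤ Subgroup.normalizer (N : Set G) := Subgroup.normalizer_commutator_ge_left _ _
  rcases hnormR N hNR hRN with h | h
  · have h3 : R ≤ N ⊔ pCoreOf p R := by
      conv_lhs => rw [← hperfR]
      refine hcommRD _ hNR hRN h.ge R hRE hRN _ ?_ ?_ ?_
      · refine le_trans ?_ le_sup_left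
        rw [← Subgroup.le_normalizer_iff_commutator_le_left]; exact hRN
      · exact hBR.trans le_sup_right
      · intro g hg
        rw [mem_normalizer_iff_cj, cj_sup, cj_of_mem_normalizer (hRN hg), cj_of_mem_normalizer (hEO (hRE hg))]
    have h4 : rs p R ≤ N := rs_le_of_sup hNR hRN (isPGroup_pCoreOf p R) (le_antisymm (sup_le hNR (pCoreOf_le p R)) h3)
    rw [hRR] at h4
    exact le_antisymm hNR h4
  · exfalso
    apply hYC
    apply hZ Y hYE hYp
    have h0 : ⁅N, R⁆ ≤ D := le_inf (by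
      refine le_trans ?_ (hNR.trans hRE)
      rw [← Subgroup.le_normalizer_iff_commutator_le_left]; exact hRN) h
    have h2 : ⁅⁅R, R⁆, Y⁆ ≤ D := by
      refine three_mod (hRE.trans hED) (hRE.trans hED) (hYE.trans hED) h0 ?_
      rw [Subgroup.commutator_comm Y R]; exact h0
    rw [hperfR] at h2
    rw [← hRDK, Subgroup.commutator_le]
    intro k hk y hy
    obtain ⟨r, hr, d, hd, rfl⟩ := (CfsgH1.mem_sup_of_le_normalizer (hRE.trans hED)).1 hk
    have e : ⁅r * d, y⁆ = (r * ⁅d, y⁆ * r⁻¹) * ⁅r, y⁆ := by simp only [commutatorElement_def]; group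
    rw [e]
    refine mul_mem ?_ (h2 (Subgroup.commutator_mem_commutator hr hy))
    refine (Subgroup.mem_normalizer_iff.mp (hED (hRE hr)) _).mp ?_
    have : ⁅D, Y⁆ ≤ D := by rw [← Subgroup.le_normalizer_iff_commutator_le_left]; exact hYE.trans hED
    exact this (Subgroup.commutator_mem_commutator hd hy)


omit [Finite G] in
theorem qs_quot {R : Subgroup G} (A : Subgroup ↥R) [hA : A.Normal] (hperf : ⁅R, R⁆ = R) (hne : ¬ R ≤ A.map R.subtype)
    (h : ∀ N : Subgroup G, N ≤ R → R ≤ Subgroup.normalizer (N : Set G) → A.map R.subtype ≤ N → N = R ∨ ⁅N, R⁆ ≤ A.map R.subtype) :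
    IsQuasisimple (↥R ⧸ A) := by
  have hAt : A ≠ ⊤ := by
    intro h1
    apply hne
    rw [h1, ← MonoidHom.range_eq_map, Subgroup.range_subtype]
  haveI : Nontrivial (↥R ⧸ A) := QuotientGroup.nontrivial_iff.mpr hAt
  have hP : Group.IsPerfect ↥R := ⟨by
    rw [commutator_def]
    apply Subgroup.map_injective R.subtype_injective
    rw [Subgroup.map_commutator, ← MonoidHom.range_eq_map, Subgroup.range_subtype, hperf]⟩
  haveI := hP
  refine CfsgH2.isQuasisimple_of_normal_le_center (Group.IsPerfect.ofSurjective (QuotientGroup.mk'_surjective A)) (fun N' hN' => ?_)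
  set N₀ := N'.comap (QuotientGroup.mk' A) with hN₀
  have hN₀n : N₀.Normal := hN'.comap _
  have hAN : A ≤ N₀ := by
    intro x hx
    have h1 : QuotientGroup.mk' A x = 1 := by rwa [← MonoidHom.mem_ker, QuotientGroup.ker_mk']
    rw [hN₀, Subgroup.mem_comap, h1]; exact one_mem _
  have hn : R ≤ Subgroup.normalizer (N₀.map R.subtype : Set G) := by
    rw [← Subgroup.normal_subgroupOf_iff_le_normalizer (Subgroup.map_subtype_le _)]
    have : (N₀.map R.subtype).subgroupOf R = N₀ := Subgroup.comap_map_eq_self_of_injective R.subtype_injective N₀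
    rw [this]; exact hN₀n
  rcases h (N₀.map R.subtype) (Subgroup.map_subtype_le _) hn (Subgroup.map_mono hAN) with h1 | h1
  · left
    rw [eq_top_iff]
    intro y _
    obtain ⟨x, rfl⟩ := QuotientGroup.mk'_surjective A y
    have h2 : (x : G) ∈ N₀.map R.subtype := by rw [h1]; exact x.2
    obtain ⟨z, hz, hzx⟩ := h2
    have : z = x := Subtype.ext hzx
    rw [← this]; exact hz
  · right
    intro y hy
    obtain ⟨x, rfl⟩ := QuotientGroup.mk'_surjective A y
    rw [Subgroup.mem_center_iff]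
    intro w
    obtain ⟨w, rfl⟩ := QuotientGroup.mk'_surjective A w
    have h2 : ⁅(x : G), (w : G)⁆ ∈ A.map R.subtype := h1 (Subgroup.commutator_mem_commutator ⟨x, hy, rfl⟩ w.2)
    obtain ⟨z, hz, hzx⟩ := h2
    have h3 : z = ⁅x, w⁆ := Subtype.ext hzx
    have h4 : QuotientGroup.mk' A ⁅x, w⁆ = 1 := by
      rw [← h3, ← MonoidHom.mem_ker, QuotientGroup.ker_mk']; exact hz
    rw [map_commutatorElement, commutatorElement_eq_one_iff_mul_comm] at h4
    exact h4.symm


omit [Finite G] in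
theorem comm_mul_left7 (b n s : G) : ⁅b * n, s⁆ = (b * ⁅n, s⁆ * b⁻¹) * ⁅b, s⁆ := by simp only [commutatorElement_def]; group

end CfsgH7
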