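import Cfsg.Agent.H7.PIrr4
import Cfsg.Agent.H1.Frat

set_option autoImplicit false
set_option linter.unusedSectionVars false

/-! `Y`-minimal groups: the closure of `O_p ∩ Y`. -/

namespace CfsgH7

open Subgroup Cfsg
open scoped commutatorElement

variable {G : Type*} [Group G] {p : ℕ} [Finite G] [hp : Fact p.Prime]

theorem S2837_all {L₀ Y : Subgroup G} (h : YM L₀ Y) (hYe : IsElementaryAbelian p Y) (hOY : pCore p G ≤ Subgroup.normalizer (Y : Set G))
    {A : Subgroup G} (hA : A = Subgroup.normalClosure (((pCore p G ⊓ Y : Subgroup G)) : Set G)) {g : G} (hg : g ∉ L₀) :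
    (frattini ↥A).map A.subtype = ⁅A, A⁆ ∧ ⁅A, A⁆ = ⁅A ⊓ Y, A⁆ ∧ ⁅A ⊓ Y, A⁆ = ⁅A ⊓ Y, A ⊓ cj g Y⁆ ∧ ⁅A ⊓ Y, A⁆ ≤ Y ⊓ Subgroup.center G ∧
      Y ⊓ cj g Y = Y ⊓ Subgroup.center G ∧ (A ⊓ Y) ⊓ (A ⊓ cj g Y) = Y ⊓ Subgroup.center G ∧ A ⊓ Subgroup.center G = Y ⊓ Subgroup.center G := by
  set P := pCore p G with hP
  have hPn : P.Normal := pCore_normal' p G
  have hYab : Y ≤ Subgroup.centralizer (Y : Set G) := elem_abel hYe
  have hYp : IsPGroup p ↥Y := elem_isPGroup hYe
  set B := P ⊓ Y with hB
  have hgB : cj g B = P ⊓ cj g Y := by rw [hB, cj_inf, cj_of_normal]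
  have hAn : A.Normal := by rw [hA]; exact Subgroup.normalClosure_normal
  have hBA : B ≤ A := by rw [hA]; exact Subgroup.le_normalClosure
  have hAP : A ≤ P := by rw [hA]; exact Subgroup.normalClosure_le_normal inf_le_left
  have hgen := h.gen_two hg
  have hgBA : cj g B ≤ A := by
    have := cj_mono (g := g) hBA
    rwa [cj_of_normal g A] at this
  have hcB : ∀ x : G, cj x B = P ⊓ cj x Y := fun x => by rw [hB, cj_inf, cj_of_normal]
  have hcomm : ∀ x : G, ⁅P, cj x Y⁆ ≤ cj x B := by
    intro x
    rw [hcB]
    refine le_inf (by rw [← Subgroup.le_normalizer_iff_commutator_le_left, Subgroup.normalizer_eq_top]; exact le_top) ?_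
    rw [← Subgroup.le_normalizer_iff_commutator_le_right, normalizer_cj]
    have := cj_mono (g := x) hOY
    rwa [cj_of_normal] at this
  have hnorm : ∀ x y : G, cj x Y ≤ Subgroup.normalizer ((cj x B ⊔ cj y B : Subgroup G) : Set G) := by
    intro x y a ha
    apply mem_normalizer_of_cj_le
    rw [cj_sup]
    refine sup_le ?_ ?_
    · have h1 : a ∈ Subgroup.normalizer ((cj x B : Subgroup G) : Set G) := by
        rw [hcB, mem_normalizer_iff_cj, cj_inf, cj_of_normal, cj_of_mem ha]
      rw [cj_of_mem_normalizer h1]; exact le_sup_left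
    · intro z hz
      have h4 := mem_cj.mp hz
      have h6 : a⁻¹ * z * a ∈ P := by
        have h7 : cj y B ≤ P := by rw [hcB]; exact inf_le_left
        exact h7 h4
      have h5 : ⁅a⁻¹ * z * a, a⁆ ∈ cj x B := hcomm x (Subgroup.commutator_mem_commutator h6 ha)
      have e : z = (⁅a⁻¹ * z * a, a⁆)⁻¹ * (a⁻¹ * z * a) := by rw [commutatorElement_def]; group
      rw [e]; exact mul_mem (Subgroup.mem_sup_left (inv_mem h5)) (Subgroup.mem_sup_right h4)
  have hAeq : A = B ⊔ cj g B := by
    apply le_antisymm
    · rw [hA]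
      have h1 : (B ⊔ cj g B).Normal := by
        rw [← Subgroup.normalizer_eq_top_iff, eq_top_iff, ← hgen]
        refine sup_le ?_ ?_
        · have := hnorm 1 g
          rwa [cj_one, cj_one] at this
        · have := hnorm g 1
          rw [cj_one] at this
          rwa [sup_comm]
      exact Subgroup.normalClosure_le_normal (le_sup_left : B ≤ _)
    · exact sup_le hBA hgBA
  have hAY : A ⊓ Y = B := le_antisymm (le_inf (inf_le_left.trans hAP) inf_le_right) (le_inf hBA inf_le_right)
  have hAgY : A ⊓ cj g Y = cj g B := by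
    rw [hgB]
    refine le_antisymm (inf_le_inf_right _ hAP) (le_inf ?_ inf_le_right)
    rw [← hgB]; exact hgBA
  have hint := h.inter hYab hg
  have hBab : B ≤ Subgroup.centralizer (B : Set G) := inf_le_right.trans (hYab.trans (Subgroup.centralizer_le inf_le_right))
  set Z := Y ⊓ Subgroup.center G with hZ
  have hBB : ⁅B, cj g B⁆ ≤ Z := by
    rw [← hint]
    have h1 : B ≤ P := inf_le_left
    have h2 : cj g B ≤ P := by rw [hgB]; exact inf_le_left
    refine le_inf ?_ ?_
    · have h3 := hcomm 1
      rw [cj_one, cj_one] at h3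
      rw [Subgroup.commutator_comm]
      exact (Subgroup.commutator_mono h2 inf_le_right).trans (h3.trans inf_le_right)
    · refine (Subgroup.commutator_mono h1 (by rw [hgB]; exact inf_le_right : cj g B ≤ cj g Y)).trans ((hcomm g).trans ?_)
      rw [hgB]; exact inf_le_right
  have hZc : ⁅B, cj g B⁆ ≤ Subgroup.center G := hBB.trans inf_le_right
  have hDn : (⁅B, cj g B⁆ : Subgroup G).Normal := by
    constructor
    intro x hx y
    have h1 := Subgroup.mem_center_iff.mp (hZc hx) y
    rw [h1, mul_assoc, mul_inv_cancel, mul_one]; exact hx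
  set D := ⁅B, cj g B⁆ with hD
  have hgBab : cj g B ≤ Subgroup.centralizer ((cj g B : Subgroup G) : Set G) := by
    have := cj_mono (g := g) hBab
    rwa [← centralizer_cj] at this
  -- [B, A] = D, [A, A] = D
  have hBA' : ⁅B, A⁆ = D := by
    apply le_antisymm
    · rw [hAeq, Subgroup.commutator_comm, Subgroup.commutator_le]
      intro a ha b hb
      have h1 : B ⊔ cj g B ≤ (Subgroup.centralizer ((B.map (QuotientGroup.mk' D) : Subgroup (G ⧸ D)) : Set (G ⧸ D))).comap (QuotientGroup.mk' D) := by
        refine sup_le ?_ ?_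
        · intro x hx
          rw [Subgroup.mem_comap, Subgroup.mem_centralizer_iff]
          rintro _ ⟨y, hy, rfl⟩
          rw [← map_mul, ← map_mul, Subgroup.mem_centralizer_iff.mp (hBab hx) y hy]
        · intro x hx
          rw [Subgroup.mem_comap, Subgroup.mem_centralizer_iff]
          rintro _ ⟨y, hy, rfl⟩
          have h2 : ⁅y, x⁆ ∈ D := Subgroup.commutator_mem_commutator hy hx
          have h3 : QuotientGroup.mk' D ⁅y, x⁆ = 1 := (QuotientGroup.eq_one_iff _).mpr h2
          rw [map_commutatorElement, commutatorElement_eq_one_iff_mul_comm] at h3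
          exact h3
      have h2 := h1 ha
      rw [Subgroup.mem_comap, Subgroup.mem_centralizer_iff] at h2
      have h3 := h2 (QuotientGroup.mk' D b) ⟨b, hb, rfl⟩
      rw [← QuotientGroup.eq_one_iff]
      change QuotientGroup.mk' D ⁅a, b⁆ = 1
      rw [map_commutatorElement, commutatorElement_eq_one_iff_mul_comm]
      exact h3.symm
    · exact Subgroup.commutator_mono le_rfl hgBA
  have hAA : ⁅A, A⁆ = D := by
    apply le_antisymm
    · -- A/D is abelian
      have h1 : ∀ a ∈ A, a ∈ (Subgroup.centralizer ((A.map (QuotientGroup.mk' D) : Subgroup (G ⧸ D)) : Set (G ⧸ D))).comap (QuotientGroup.mk' D) := by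
        have h2 : B ≤ (Subgroup.centralizer ((A.map (QuotientGroup.mk' D) : Subgroup (G ⧸ D)) : Set (G ⧸ D))).comap (QuotientGroup.mk' D) := by
          intro x hx
          rw [Subgroup.mem_comap, Subgroup.mem_centralizer_iff]
          rintro _ ⟨y, hy, rfl⟩
          have h3 : ⁅x, y⁆ ∈ D := by rw [← hBA']; exact Subgroup.commutator_mem_commutator hx hy
          have h4 : QuotientGroup.mk' D ⁅x, y⁆ = 1 := (QuotientGroup.eq_one_iff _).mpr h3
          rw [map_commutatorElement, commutatorElement_eq_one_iff_mul_comm] at h4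
          exact h4.symm
        have h3 : cj g B ≤ (Subgroup.centralizer ((A.map (QuotientGroup.mk' D) : Subgroup (G ⧸ D)) : Set (G ⧸ D))).comap (QuotientGroup.mk' D) := by
          intro x hx
          have h4 : g⁻¹ * x * g ∈ B := mem_cj.mp hx
          rw [Subgroup.mem_comap, Subgroup.mem_centralizer_iff]
          rintro _ ⟨y, hy, rfl⟩
          have h5 : g⁻¹ * y * g ∈ A := by
            have := hAn.conj_mem y hy g⁻¹
            simpa using this
          have h6 : ⁅g⁻¹ * x * g, g⁻¹ * y * g⁆ ∈ D := by rw [← hBA']; exact Subgroup.commutator_mem_commutator h4 h5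
          have h7 : ⁅x, y⁆ ∈ D := by
            have h8 := hDn.conj_mem _ h6 g
            have e : g * ⁅g⁻¹ * x * g, g⁻¹ * y * g⁆ * g⁻¹ = ⁅x, y⁆ := by
              rw [commutatorElement_def, commutatorElement_def]; group
            rwa [e] at h8
          have h4 : QuotientGroup.mk' D ⁅x, y⁆ = 1 := (QuotientGroup.eq_one_iff _).mpr h7
          rw [map_commutatorElement, commutatorElement_eq_one_iff_mul_comm] at h4
          exact h4.symm
        have h4 := sup_le h2 h3
        rw [← hAeq] at h4
        exact h4
      rw [Subgroup.commutator_le]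
      intro a ha b hb
      have h2 := h1 a ha
      rw [Subgroup.mem_comap, Subgroup.mem_centralizer_iff] at h2
      have h3 := h2 (QuotientGroup.mk' D b) ⟨b, hb, rfl⟩
      rw [← QuotientGroup.eq_one_iff]
      change QuotientGroup.mk' D ⁅a, b⁆ = 1
      rw [map_commutatorElement, commutatorElement_eq_one_iff_mul_comm]
      exact h3.symm
    · rw [← hBA']; exact Subgroup.commutator_mono hBA le_rfl
  have hZB : Z ≤ B := by
    refine le_inf ?_ inf_le_left
    have h1 : Z.Normal := by
      constructor
      intro x hx y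
      have h1 := Subgroup.mem_center_iff.mp (Subgroup.mem_inf.mp hx).2 y
      rw [h1, mul_assoc, mul_inv_cancel, mul_one]; exact hx
    exact CfsgH2.IsSubnormal.le_pCore h1.isSubnormal (hYp.to_le inf_le_left)
  have hZg : cj g Z = Z := by
    have h1 : Z.Normal := by
      constructor
      intro x hx y
      have h1 := Subgroup.mem_center_iff.mp (Subgroup.mem_inf.mp hx).2 y
      rw [h1, mul_assoc, mul_inv_cancel, mul_one]; exact hx
    exact cj_of_normal g Z
  refine ⟨?_, ?_, ?_, ?_, hint, ?_, ?_⟩
  · -- frattini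
    have hAp : IsPGroup p ↥A := (CfsgH2.isPGroup_pCore p).to_le hAP
    haveI : Group.IsNilpotent ↥A := hAp.isNilpotent
    have h1 : commutator ↥A ≤ frattini ↥A := CfsgH1.commutator_le_frattini
    have h2 : frattini ↥A ≤ commutator ↥A := by
      refine CfsgH1.frattini_le_of_elementary (p := p) le_rfl ?_
      let f : ↥A →* Abelianization ↥A := (powMonoidHom p).comp Abelianization.of
      have hf : ∀ x : ↥A, f x = 1 ↔ x ^ p ∈ commutator ↥A := by
        intro x
        have : f x = Abelianization.of (x ^ p) := by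
          change (Abelianization.of x) ^ p = _
          rw [map_pow]
        rw [this]
        exact QuotientGroup.eq_one_iff _
      have h3 : A ≤ f.ker.map A.subtype := by
        nth_rewrite 1 [hAeq]
        refine sup_le ?_ ?_
        · intro b hb
          refine ⟨⟨b, hBA hb⟩, ?_, rfl⟩
          change f _ = 1
          rw [hf]
          have : (⟨b, hBA hb⟩ : ↥A) ^ p = 1 := Subtype.ext (hYe.2 b (Subgroup.mem_inf.mp hb).2)
          rw [this]; exact one_mem _
        · intro b hb
          refine ⟨⟨b, hgBA hb⟩, ?_, rfl⟩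
          change f _ = 1
          rw [hf]
          have : (⟨b, hgBA hb⟩ : ↥A) ^ p = 1 := by
            apply Subtype.ext
            have h4 : b ∈ cj g Y := by
              have h5 : cj g B ≤ cj g Y := cj_mono inf_le_right
              exact h5 hb
            exact (elem_cj hYe g).2 b h4
          rw [this]; exact one_mem _
      intro x
      obtain ⟨y, hy, hyx⟩ := h3 x.2
      have h4 : y = x := Subtype.ext hyx
      rw [← hf, ← h4]; exact hy
    rw [le_antisymm h2 h1]
    exact Subgroup.map_subtype_commutator A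
  · rw [hAY, hBA', hAA]
  · rw [hAY, hBA', hAgY]
  · rw [hAY, hBA']; exact hBB
  · rw [hAY, hAgY]
    apply le_antisymm
    · rw [← hint]
      exact inf_le_inf inf_le_right (by rw [hgB]; exact inf_le_right)
    · refine le_inf hZB ?_
      rw [← hZg]; exact cj_mono hZB
  · apply le_antisymm
    · rintro x hx
      obtain ⟨hxA, hxZ⟩ := Subgroup.mem_inf.mp hx
      refine Subgroup.mem_inf.mpr ⟨?_, hxZ⟩
      have hBn : B ≤ Subgroup.normalizer ((cj g B : Subgroup G) : Set G) := by
        rw [Subgroup.le_normalizer_iff_commutator_le_right]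
        change D ≤ _
        refine hBB.trans ?_
        rw [← hZg]; exact cj_mono hZB
      rw [hAeq] at hxA
      obtain ⟨b, hb, c, hc, rfl⟩ := (CfsgH1.mem_sup_of_le_normalizer hBn).mp hxA
      have hbY : b ∈ Y := (Subgroup.mem_inf.mp hb).2
      have hcY : c ∈ cj g Y := by
        rw [hgB] at hc
        exact (Subgroup.mem_inf.mp hc).2
      have hcC : c ∈ Subgroup.center G := by
        rw [← Subgroup.centralizer_univ, ← Subgroup.coe_top, ← hgen]
        have h1 : (Y ⊔ cj g Y) ≤ Subgroup.centralizer (Subgroup.zpowers c : Set G) := by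
          refine sup_le ?_ ?_
          · rw [Subgroup.le_centralizer_iff, Subgroup.zpowers_le]
            have e : c = b⁻¹ * (b * c) := by group
            rw [e]
            refine mul_mem (inv_mem (hYab hbY)) ?_
            rw [Subgroup.mem_centralizer_iff]
            intro y _
            exact Subgroup.mem_center_iff.mp hxZ y
          · rw [Subgroup.le_centralizer_iff, Subgroup.zpowers_le]
            have h2 : cj g Y ≤ Subgroup.centralizer ((cj g Y : Subgroup G) : Set G) := by
              have := cj_mono (g := g) hYab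
              rwa [← centralizer_cj] at this
            exact h2 hcY
        rw [Subgroup.le_centralizer_iff, Subgroup.zpowers_le] at h1
        exact h1
      have hcZ : c ∈ Z := by
        rw [← hZg]
        rw [mem_cj]
        have h1 : g⁻¹ * c * g = c := by
          have := Subgroup.mem_center_iff.mp hcC g
          calc g⁻¹ * c * g = g⁻¹ * (c * g) := by group
            _ = g⁻¹ * (g * c) := by rw [this]
            _ = c := by group
        have h2 : g⁻¹ * c * g ∈ Y := mem_cj.mp hcY
        exact Subgroup.mem_inf.mpr ⟨h2, by rw [h1]; exact hcC⟩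
      exact Y.mul_mem hbY (Subgroup.mem_inf.mp hcZ).1
    · exact le_inf (hZB.trans hBA) inf_le_right

end CfsgH7
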